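import Cfsg.Agent.Lib.H77.FieldBound
import Cfsg.Agent.Lib.H79.Central
import Cfsg.Agent.Lib.H20.Defect

/-!
# Schur's bound for p-rational characters (S4488) (helper77)
-/

set_option autoImplicit false
set_option linter.style.haveILetI false
set_option linter.unusedSectionVars false
set_option linter.unusedVariables false
open Cfsg

namespace H77.SchurBound

open H18 H18.CharBasic H18.CharOrtho H18.CharInd H18.CharQuot H77.GalIdx

universe u

section arith

/-- the function of Schur's bound -/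
def S (p n : ℕ) : ℕ := ∑ i ∈ Finset.range (n + 1), n / ((p - 1) * p ^ i)

variable {p : ℕ} (hp : 1 < p)
include hp

theorem S_eq (n N : ℕ) (hN : n + 1 ≤ N) : S p n = ∑ i ∈ Finset.range N, n / ((p - 1) * p ^ i) := by
  unfold S
  apply Finset.sum_subset (Finset.range_subset_range.2 hN)
  intro i _ hi
  rw [Finset.mem_range, not_lt] at hi
  apply Nat.div_eq_of_lt
  have h1 : i < p ^ i := Nat.lt_pow_self hp
  have h2 : 1 ≤ p - 1 := by omega
  nlinarith

theorem S_add (m n : ℕ) : S p m + S p n ≤ S p (m + n) := by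
  rw [S_eq hp m (m + n + 1) (by omega), S_eq hp n (m + n + 1) (by omega), S,
    ← Finset.sum_add_distrib]
  exact Finset.sum_le_sum fun i _ => Nat.add_div_le_add_div _ _ _

theorem S_mono {m n : ℕ} (h : m ≤ n) : S p m ≤ S p n := by
  obtain ⟨k, rfl⟩ := Nat.exists_eq_add_of_le h
  exact (Nat.le_add_right _ _).trans (S_add hp m k)

theorem S_val (m : ℕ) : ∑ j ∈ Finset.range (m + 1), p ^ j ≤ S p ((p - 1) * p ^ m) := by
  have hq : 0 < p - 1 := by omega
  have h1 : m < p ^ m := Nat.lt_pow_self hp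
  have h2 : m + 1 ≤ (p - 1) * p ^ m + 1 := by nlinarith
  rw [S]
  refine le_trans ?_ (Finset.sum_le_sum_of_subset (Finset.range_subset_range.2 h2))
  rw [← Finset.sum_range_reflect]
  apply Finset.sum_le_sum
  intro i hi
  rw [Finset.mem_range] at hi
  have h3 : m + 1 - 1 - i = m - i := by omega
  rw [h3]
  have h4 : (p - 1) * p ^ m = (p - 1) * p ^ i * p ^ (m - i) := by
    rw [mul_assoc, ← pow_add]
    congr 2; omega
  rw [h4, Nat.mul_div_cancel_left _ (Nat.mul_pos hq (pow_pos (by omega) i))]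

/-- from the bound of S4489 to Schur's bound -/
theorem conv {a e t : ℕ} (h : (p - 1) * a ≤ (p ^ e - 1) + (p - 1) * (t + 1) * p ^ e) :
    a ≤ S p ((p - 1) * p ^ t * p ^ e) := by
  have h1 := S_val hp (t + e)
  rw [pow_add, ← mul_assoc] at h1
  refine le_trans ?_ h1
  have hq : 0 < p - 1 := by omega
  apply Nat.le_of_mul_le_mul_left _ hq
  refine h.trans ?_
  have h2 : (p - 1) * ∑ j ∈ Finset.range (t + e + 1), p ^ j = p ^ (t + e + 1) - 1 := by
    have := Nat.pred_mul_geom_sum_le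
    obtain ⟨q, rfl⟩ : ∃ q, p = q + 1 := ⟨p - 1, by omega⟩
    have h3 := mul_geom_sum ((q + 1 : ℕ) : ℤ) (t + e + 1)
    have h4 : ((q : ℕ) : ℤ) * ∑ j ∈ Finset.range (t + e + 1), ((q + 1 : ℕ) : ℤ) ^ j =
        ((q + 1 : ℕ) : ℤ) ^ (t + e + 1) - 1 := by
      rw [← h3]; push_cast; ring
    have h5 : 1 ≤ (q + 1) ^ (t + e + 1) := Nat.one_le_pow _ _ (by omega)
    have h6 : ((q * ∑ j ∈ Finset.range (t + e + 1), (q + 1) ^ j : ℕ) : ℤ) =
        (((q + 1) ^ (t + e + 1) - 1 : ℕ) : ℤ) := by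
      rw [Nat.cast_sub h5]
      push_cast
      push_cast at h4
      linarith
    have h7 : q + 1 - 1 = q := by omega
    rw [h7]
    exact_mod_cast h6
  rw [h2]
  have h3 : 1 + (p - 1) * (t + 1) ≤ p ^ (t + 1) := by
    obtain ⟨q, rfl⟩ : ∃ q, p = q + 1 := ⟨p - 1, by omega⟩
    have h7 : q + 1 - 1 = q := by omega
    rw [h7]
    clear h h1 h2 h7
    induction t with
    | zero => simp; omega
    | succ t ih =>
      calc 1 + q * (t + 1 + 1) ≤ (1 + q * (t + 1)) * (q + 1) := by nlinarith [Nat.zero_le (q * q * (t+1))]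
        _ ≤ (q + 1) ^ (t + 1) * (q + 1) := Nat.mul_le_mul_right _ ih
        _ = _ := by rw [← pow_succ]
  have h4 : p ^ e * (1 + (p - 1) * (t + 1)) ≤ p ^ e * p ^ (t + 1) := Nat.mul_le_mul_left _ h3
  have h5 : p ^ e * p ^ (t + 1) = p ^ (t + e + 1) := by rw [← pow_add]; congr 1; omega
  rw [h5] at h4
  have h6 : 1 ≤ p ^ e := Nat.one_le_pow _ _ (by omega)
  have h7 : p ^ e * (1 + (p - 1) * (t + 1)) = p ^ e + (p - 1) * (t + 1) * p ^ e := by ring
  omega

end arith

section orbit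

variable {G : Type u} [Group G] [Fintype G]

theorem map_inner (σ : ℂ ≃+* ℂ) {χ ψ : G → ℂ} (hψ : IsCharacter G ψ) :
    classInner (fun g => σ (χ g)) (fun g => σ (ψ g)) = σ (classInner χ ψ) := by
  have h : IsCharacter G (fun g => σ (ψ g)) := isCharacter_ringHom (σ : ℂ →+* ℂ) hψ
  rw [inner_eq_sum_inv h, inner_eq_sum_inv hψ]
  simp only [map_mul, map_inv₀, map_natCast, map_sum]

/-- removing distinct constituents -/
theorem isCharacter_sub_sum {χ : G → ℂ} (hχ : IsCharacter G χ) (T : Finset (G → ℂ))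
    (hT : ∀ φ ∈ T, IsIrrCharacter G φ ∧ classInner χ φ ≠ 0) :
    IsCharacter G (χ - ∑ φ ∈ T, φ) := by
  classical
  induction T using Finset.induction_on with
  | empty => rw [Finset.sum_empty, sub_zero]; exact hχ
  | insert φ T hφ ih =>
    have h1 := ih (fun φ' h => hT φ' (Finset.mem_insert_of_mem h))
    rw [Finset.sum_insert hφ, add_comm, ← sub_sub]
    refine isCharacter_sub_constituent h1 (hT φ (Finset.mem_insert_self _ _)).1 ?_
    have h2 : classInner (∑ φ' ∈ T, φ') φ = 0 := by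
      rw [inner_sum_left]
      apply Finset.sum_eq_zero
      intro φ' h'
      exact inner_irr_ne (hT φ' (Finset.mem_insert_of_mem h')).1 (hT φ (Finset.mem_insert_self _ _)).1
        (fun h => hφ (h ▸ h'))
    have h3 : classInner (χ - ∑ φ' ∈ T, φ') φ + classInner (∑ φ' ∈ T, φ') φ = classInner χ φ := by
      rw [← CharOrtho.inner_add_left, sub_add_cancel]
    rw [h2, add_zero] at h3
    rw [h3]
    exact (hT φ (Finset.mem_insert_self _ _)).2

theorem exists_orbit {χ : G → ℂ} (hχ : IsCharacter G χ) (hrat : ∀ (σ : ℂ ≃+* ℂ) (g : G), σ (χ g) = χ g)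
    {ψ : G → ℂ} (hψ : IsIrrCharacter G ψ) (hne : classInner χ ψ ≠ 0) (hfin : (fixF ψ).index ≠ 0) :
    ∃ T : Finset (G → ℂ), T.card = (fixF ψ).index ∧
      (∀ φ ∈ T, ∃ σ : ℂ ≃+* ℂ, φ = fun g => σ (ψ g)) ∧ ψ ∈ T ∧
      IsCharacter G (χ - ∑ φ ∈ T, φ) ∧
      (∀ (σ : ℂ ≃+* ℂ) (g : G), σ ((χ - ∑ φ ∈ T, φ) g) = (χ - ∑ φ ∈ T, φ) g) := by
  classical
  have hstab : fixF ψ = MulAction.stabilizer (ℂ ≃+* ℂ) ψ := by
    ext τ
    rw [mem_fixF, MulAction.mem_stabilizer_iff]
    constructor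
    · intro h; funext m; exact h m
    · intro h m; exact congrFun h m
  have hidx : (fixF ψ).index = (MulAction.orbit (ℂ ≃+* ℂ) ψ).ncard := by
    rw [hstab, MulAction.index_stabilizer]
  have hfo : (MulAction.orbit (ℂ ≃+* ℂ) ψ).Finite :=
    Set.finite_of_ncard_ne_zero (by rw [← hidx]; exact hfin)
  let T := hfo.toFinset
  have hTm : ∀ φ, φ ∈ T ↔ ∃ σ : ℂ ≃+* ℂ, φ = fun g => σ (ψ g) := by
    intro φ
    rw [Set.Finite.mem_toFinset]
    constructor
    · rintro ⟨σ, rfl⟩; exact ⟨σ, rfl⟩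
    · rintro ⟨σ, rfl⟩; exact ⟨σ, rfl⟩
  have hTc : ∀ φ ∈ T, IsIrrCharacter G φ ∧ classInner χ φ ≠ 0 := by
    intro φ hφ
    obtain ⟨σ, rfl⟩ := (hTm φ).1 hφ
    refine ⟨isIrrCharacter_ringHom (σ : ℂ →+* ℂ) hψ, ?_⟩
    have h1 : χ = fun g => σ (χ g) := funext fun g => (hrat σ g).symm
    rw [h1, map_inner σ (isCharacter_of_isIrr hψ)]
    exact (map_ne_zero_iff σ σ.injective).2 hne
  refine ⟨T, ?_, fun φ hφ => (hTm φ).1 hφ, (hTm ψ).2 ⟨RingEquiv.refl ℂ, rfl⟩,
    isCharacter_sub_sum hχ T hTc, ?_⟩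
  · rw [hidx, Set.ncard_eq_toFinset_card _ hfo]
  · intro σ g
    rw [Pi.sub_apply, map_sub, hrat, Finset.sum_apply, map_sum]
    congr 1
    -- reindex by σ
    refine Finset.sum_bij (fun φ _ => fun g => σ (φ g)) ?_ ?_ ?_ ?_
    · intro φ hφ
      obtain ⟨τ, rfl⟩ := (hTm φ).1 hφ
      exact (hTm _).2 ⟨τ.trans σ, rfl⟩
    · intro φ _ φ' _ h
      funext x
      exact σ.injective (congrFun h x)
    · intro φ hφ
      obtain ⟨τ, rfl⟩ := (hTm φ).1 hφ
      refine ⟨fun g => σ.symm (τ (ψ g)), (hTm _).2 ⟨τ.trans σ.symm, rfl⟩, ?_⟩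
      funext x
      exact σ.apply_symm_apply _
    · intro φ _
      rfl

end orbit

section pgroup

/-- for a faithful irreducible character of a nontrivial `p`-group the index is `(p-1)p^t` -/
theorem exists_t {p a : ℕ} (hp : p.Prime) {P : Type u} [Group P] [Fintype P] (ha : 0 < a)
    (hP : Nat.card P = p ^ a) {ψ : P → ℂ} (hψ : IsIrrCharacter P ψ)
    (hfaith : ∀ g, ψ g = ψ 1 → g = 1) : ∃ t, (fixF ψ).index = (p - 1) * p ^ t := by
  classical
  haveI : Fact p.Prime := ⟨hp⟩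
  have hpg : IsPGroup p P := IsPGroup.of_card hP
  haveI : Nontrivial P := by
    rw [← Finite.one_lt_card_iff_nontrivial, hP]
    exact Nat.one_lt_pow ha.ne' hp.one_lt
  haveI := hpg.center_nontrivial
  have hpc : p ∣ Nat.card (Subgroup.center P) := by
    obtain ⟨n, hn⟩ := IsPGroup.iff_card.1 (hpg.to_subgroup (Subgroup.center P))
    rw [hn]
    apply dvd_pow_self
    rintro rfl
    rw [pow_zero] at hn
    have := Finite.one_lt_card_iff_nontrivial.2 (inferInstance : Nontrivial (Subgroup.center P))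
    omega
  obtain ⟨z, hz⟩ := exists_prime_orderOf_dvd_card' p hpc
  -- the value at z
  have h0 := irr_one_ne_zero hψ
  set w := ψ (z : P) / ψ 1 with hw
  have hmulc : ∀ g : P, ψ ((z : P) * g) = w * ψ g := fun g => H79.Central.central_mul hψ z.2 g
  have hzp : ∀ k : ℕ, ψ ((z : P) ^ k) = w ^ k * ψ 1 := by
    intro k
    induction k with
    | zero => simp
    | succ k ih => rw [pow_succ', hmulc, ih, pow_succ]; ring
  have hzo : (z : P) ^ p = 1 := by
    have : z ^ p = 1 := by rw [← hz]; exact pow_orderOf_eq_one z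
    exact congrArg Subtype.val this
  have hwp : w ^ p = 1 := by
    have h1 := hzp p
    rw [hzo] at h1
    exact mul_right_cancel₀ h0 (by rw [one_mul]; exact h1.symm)
  have hw1 : w ≠ 1 := by
    intro h1
    have h2 : ψ (z : P) = ψ 1 := by
      have := hzp 1
      rwa [pow_one, h1, one_pow, one_mul] at this
    have h3 := hfaith _ h2
    have h4 : z = 1 := Subtype.ext h3
    rw [h4, orderOf_one] at hz
    exact hp.ne_one hz.symm
  have hwprim : IsPrimitiveRoot w p := by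
    have h1 : orderOf w = p := orderOf_eq_prime hwp hw1
    rw [← h1]; exact IsPrimitiveRoot.orderOf w
  have hN : p ^ a ≠ 0 := pow_ne_zero a hp.ne_zero
  have hζ := Complex.isPrimitiveRoot_exp (p ^ a) hN
  set ζ := Complex.exp (2 * Real.pi * Complex.I / ((p ^ a : ℕ) : ℂ)) with hζdef
  have hle1 : fixS {ζ} ≤ fixF ψ := by
    intro σ hσ
    rw [mem_fixF]
    intro g
    have h1 : ∀ y : ℂ, y ^ (p ^ a) = 1 → (σ : ℂ →+* ℂ) y = y ^ 1 := by
      intro y hy
      haveI : NeZero (p ^ a) := ⟨hN⟩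
      obtain ⟨i, _, rfl⟩ := hζ.eq_pow_of_pow_eq_one hy
      have h2 : σ ζ = ζ := hσ ζ rfl
      rw [pow_one, map_pow]
      show (σ ζ) ^ i = ζ ^ i
      rw [h2]
    have h2 := H78.Galois.char_map_eq_pow (n := p ^ a) (by rw [hP]) h1 (isCharacter_of_isIrr hψ) g
    rw [pow_one] at h2
    exact h2
  have hle2 : fixF ψ ≤ fixS {w} := by
    intro σ hσ
    rw [mem_fixF] at hσ
    rintro _ rfl
    rw [hw, map_div₀, hσ, hσ]
  have hi1 := index_root hN hζ
  rw [Nat.totient_prime_pow hp ha] at hi1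
  have hi2 := index_root hp.ne_zero hwprim
  rw [Nat.totient_prime hp] at hi2
  have h3 := Subgroup.relIndex_mul_index (hle1.trans hle2)
  rw [hi1, hi2] at h3
  have hp1 : 0 < p - 1 := Nat.sub_pos_of_lt hp.one_lt
  have h4 := Nat.eq_of_mul_eq_mul_right hp1 h3
  have h5 := Subgroup.relIndex_mul_relIndex _ _ _ hle1 hle2
  rw [h4] at h5
  obtain ⟨t, _, ht⟩ := (Nat.dvd_prime_pow hp).1 (Dvd.intro_left _ h5)
  refine ⟨t, ?_⟩
  rw [← Subgroup.relIndex_mul_index hle2, ht, hi2, mul_comm]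

theorem deflate_one {G : Type u} [Group G] [Finite G] (N : Subgroup G) [N.Normal] {χ : G → ℂ}
    (h : IsCharacter G χ) (hN : ∀ n ∈ N, χ n = χ 1) : deflate N χ 1 = χ 1 := by
  rw [← QuotientGroup.mk_one, deflate_mk N h hN]

theorem deflate_faithful {G : Type u} [Group G] [Finite G] {χ : G → ℂ} (h : IsCharacter G χ)
    (q : G ⧸ kerSub χ h) (hq : deflate (kerSub χ h) χ q = deflate (kerSub χ h) χ 1) : q = 1 := by
  obtain ⟨g, rfl⟩ := QuotientGroup.mk_surjective q
  rw [deflate_mk _ h (fun n hn => hn), deflate_one _ h (fun n hn => hn)] at hq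
  exact (QuotientGroup.eq_one_iff g).2 hq

/-- Schur's bound for `p`-groups -/
theorem pbound {p : ℕ} (hp : p.Prime) : ∀ (n : ℕ) (P : Type u) [Group P] [Fintype P] (a : ℕ),
    Nat.card P = p ^ a → ∀ χ : P → ℂ, IsCharacter P χ → (∀ g, χ g = χ 1 → g = 1) →
    (∀ (σ : ℂ ≃+* ℂ) (g : P), σ (χ g) = χ g) → χ 1 = n → a ≤ S p n := by
  intro n
  induction n using Nat.strong_induction_on with
  | _ n ih =>
  intro P _ _ a hP χ hχ hfaith hrat hn
  classical
  haveI : Fact p.Prime := ⟨hp⟩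
  have hpg : IsPGroup p P := IsPGroup.of_card hP
  rcases Nat.eq_zero_or_pos a with rfl | ha
  · exact Nat.zero_le _
  have hχ0 : χ ≠ 0 := by
    rintro rfl
    haveI : Nontrivial P := by
      rw [← Finite.one_lt_card_iff_nontrivial, hP]
      exact Nat.one_lt_pow ha.ne' hp.one_lt
    obtain ⟨g, hg⟩ := exists_ne (1 : P)
    exact hg (hfaith g rfl)
  obtain ⟨ψ, hψ, hne⟩ := exists_constituent hχ hχ0
  have hψc := isCharacter_of_isIrr hψ
  have hfin : (fixF ψ).index ≠ 0 := by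
    rw [H77.FieldBound.index_fixF hψc]
    haveI : FiniteDimensional ℚ (IntermediateField.adjoin ℚ (Set.range ψ)) := by
      haveI := (Set.finite_range ψ).to_subtype
      apply IntermediateField.finiteDimensional_adjoin
      rintro _ ⟨g, rfl⟩
      exact (char_isIntegral hψc g).tower_top
    exact Module.finrank_pos.ne'
  obtain ⟨T, hTc, hTσ, hψT, hsub, hsubrat⟩ := exists_orbit hχ hrat hψ hne hfin
  obtain ⟨f, hf0, hf⟩ := exists_degree_pos hψ
  set χ' := χ - ∑ φ ∈ T, φ with hχ'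
  obtain ⟨m, hm⟩ := exists_degree hsub
  have hsum1 : (∑ φ ∈ T, φ) 1 = ((T.card * f : ℕ) : ℂ) := by
    rw [Finset.sum_apply, Finset.sum_congr rfl (g := fun _ => (f : ℂ)), Finset.sum_const,
      nsmul_eq_mul]
    · push_cast; ring
    · intro φ hφ
      obtain ⟨σ, rfl⟩ := hTσ φ hφ
      show σ (ψ 1) = f
      rw [hf, map_natCast]
  have hnm : n = m + T.card * f := by
    have h1 : χ 1 = χ' 1 + (∑ φ ∈ T, φ) 1 := by rw [hχ', Pi.sub_apply, sub_add_cancel]
    rw [hn, hm, hsum1] at h1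
    exact_mod_cast h1
  have hTpos : 0 < T.card := Finset.card_pos.2 ⟨ψ, hψT⟩
  -- kernels
  set K1 := kerSub ψ hψc with hK1
  set K2 := kerSub χ' hsub with hK2
  letI := Fintype.ofFinite (P ⧸ K1)
  letI := Fintype.ofFinite (P ⧸ K2)
  have hbot : K1 ⊓ K2 = ⊥ := by
    rw [eq_bot_iff]
    rintro g ⟨hg1, hg2⟩
    rw [Subgroup.mem_bot]
    apply hfaith
    have h1 : ∀ x, χ x = χ' x + ∑ φ ∈ T, φ x := by
      intro x
      rw [hχ', Pi.sub_apply, Finset.sum_apply, sub_add_cancel]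
    rw [h1 g, h1 1]
    have h2 : χ' g = χ' 1 := hg2
    rw [h2]
    congr 1
    refine Finset.sum_congr rfl fun φ hφ => ?_
    obtain ⟨σ, rfl⟩ := hTσ φ hφ
    have h3 : ψ g = ψ 1 := hg1
    simp only [h3]
  have hidx := Subgroup.index_inf_le (H := K1) (K := K2)
  rw [hbot, Subgroup.index_bot, hP] at hidx
  have hd1 : K1.index ∣ p ^ a := hP ▸ K1.index_dvd_card
  have hd2 : K2.index ∣ p ^ a := hP ▸ K2.index_dvd_card
  obtain ⟨a1, _, ha1⟩ := (Nat.dvd_prime_pow hp).1 hd1
  obtain ⟨a2, _, ha2⟩ := (Nat.dvd_prime_pow hp).1 hd2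
  rw [ha1, ha2, ← pow_add] at hidx
  have ha12 : a ≤ a1 + a2 := (Nat.pow_le_pow_iff_right hp.one_lt).1 hidx
  -- second part
  have hb2 : a2 ≤ S p m := by
    apply ih m (by have := Nat.mul_pos hTpos hf0; omega) (P ⧸ K2) a2 ha2 (deflate K2 χ')
      (isCharacter_deflate K2 hsub (fun n hn => hn)) (fun q hq => deflate_faithful hsub q hq) ?_ ?_
    · intro σ q
      obtain ⟨g, rfl⟩ := QuotientGroup.mk_surjective q
      rw [deflate_mk K2 hsub (fun n hn => hn)]
      exact hsubrat σ g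
    · rw [deflate_one K2 hsub (fun n hn => hn), hm]
  -- first part
  have hb1 : a1 ≤ S p (T.card * f) := by
    rcases Nat.eq_zero_or_pos a1 with h | h
    · rw [h]; exact Nat.zero_le _
    · have hirr := isIrrCharacter_deflate K1 hψ (fun n hn => hn)
      have hfa : ∀ q, deflate K1 ψ q = deflate K1 ψ 1 → q = 1 := fun q hq => deflate_faithful hψc q hq
      obtain ⟨t, ht⟩ := exists_t hp h ha1 hirr hfa
      have h1 : deflate K1 ψ 1 = f := by rw [deflate_one K1 hψc (fun n hn => hn), hf]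
      have h2 := H77.FieldBound.bound hp a1 (P ⧸ K1) h ha1 (deflate K1 ψ) hirr hfa f t h1 ht
      have hfixeq : fixF (deflate K1 ψ) = fixF ψ := by
        apply le_antisymm
        · intro σ hσ
          rw [mem_fixF] at hσ ⊢
          intro m
          rw [← deflate_mk K1 hψc (fun n hn => hn)]; exact hσ _
        · intro σ hσ
          rw [mem_fixF] at hσ ⊢
          intro q
          obtain ⟨m, rfl⟩ := QuotientGroup.mk_surjective q
          rw [deflate_mk K1 hψc (fun n hn => hn)]; exact hσ _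
      rw [hfixeq, ← hTc] at ht
      -- f is a power of p
      have hfd : f ∣ p ^ a := by
        have h3 := H20.Defect.charDegree_dvd_card (⟨ψ, hψ⟩ : IrrCharacter P)
        rw [hP] at h3
        rwa [H77.PQuot.charDegree_eq_of hf] at h3
      obtain ⟨e, _, he⟩ := (Nat.dvd_prime_pow hp).1 hfd
      rw [ht]
      rw [he] at h2 ⊢
      exact conv hp.one_lt h2
  calc a ≤ a1 + a2 := ha12
    _ ≤ S p (T.card * f) + S p m := Nat.add_le_add hb1 hb2
    _ ≤ S p (T.card * f + m) := S_add hp.one_lt _ _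
    _ = S p n := by rw [hnm, add_comm]

end pgroup

end H77.SchurBound
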