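import Mathlib
import Cfsg.Agent.Lib.H4.CA0

set_option autoImplicit false
set_option maxHeartbeats 400000

/-!
# S4369 piece L1: centralizers in PSL(2, F)
-/

namespace H77.CaPsl

open Subgroup H4.CA

universe u

section Mat
variable {F : Type} [Field F]

theorem par {b c d q r s q' r' s' : F} (hv : ¬ (b = 0 ∧ c = 0 ∧ d = 0))
    (E1 : b * r = q * c) (E2 : b * s = q * d) (E3 : c * s = r * d)
    (E1' : b * r' = q' * c) (E2' : b * s' = q' * d) (E3' : c * s' = r' * d) :
    q * r' = q' * r ∧ q * s' = q' * s ∧ r * s' = r' * s := by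
  by_cases hb : b = 0
  · by_cases hc : c = 0
    · have hd : d ≠ 0 := fun h => hv ⟨hb, hc, h⟩
      have q1 : q = 0 := by
        apply mul_left_cancel₀ hd; rw [hb] at E2; linear_combination -E2
      have q2 : r = 0 := by
        apply mul_left_cancel₀ hd; rw [hc] at E3; linear_combination -E3
      have q3 : q' = 0 := by
        apply mul_left_cancel₀ hd; rw [hb] at E2'; linear_combination -E2'
      have q4 : r' = 0 := by
        apply mul_left_cancel₀ hd; rw [hc] at E3'; linear_combination -E3'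
      rw [q1, q2, q3, q4]; simp
    · refine ⟨?_, ?_, ?_⟩
      · apply mul_left_cancel₀ hc
        linear_combination -r' * E1 + r * E1'
      · apply mul_left_cancel₀ (mul_ne_zero hc hc)
        linear_combination -(c * s') * E1 + (b * r) * E3' + (c * s) * E1' - (b * r') * E3
      · apply mul_left_cancel₀ hc
        linear_combination r * E3' - r' * E3
  · refine ⟨?_, ?_, ?_⟩
    · apply mul_left_cancel₀ hb
      linear_combination q * E1' - q' * E1
    · apply mul_left_cancel₀ hb
      linear_combination q * E2' - q' * E2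
    · apply mul_left_cancel₀ (mul_ne_zero hb hb)
      linear_combination (b * s') * E1 + (q * c) * E2' - (b * s) * E1' - (q' * c) * E2

theorem mat_comm (g h k : Matrix (Fin 2) (Fin 2) F)
    (hg : ¬ (g 0 1 = 0 ∧ g 1 0 = 0 ∧ g 0 0 = g 1 1)) (h1 : g * h = h * g) (h2 : g * k = k * g) :
    h * k = k * h := by
  have e1 := congrFun (congrFun h1 0) 0
  have e2 := congrFun (congrFun h1 0) 1
  have e3 := congrFun (congrFun h1 1) 0
  have f1 := congrFun (congrFun h2 0) 0
  have f2 := congrFun (congrFun h2 0) 1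
  have f3 := congrFun (congrFun h2 1) 0
  simp only [Matrix.mul_apply, Fin.sum_univ_two] at e1 e2 e3 f1 f2 f3
  obtain ⟨k1, k2, k3⟩ := par (b := g 0 1) (c := g 1 0) (d := g 0 0 - g 1 1)
    (q := h 0 1) (r := h 1 0) (s := h 0 0 - h 1 1)
    (q' := k 0 1) (r' := k 1 0) (s' := k 0 0 - k 1 1)
    (fun h => hg ⟨h.1, h.2.1, sub_eq_zero.1 h.2.2⟩)
    (by linear_combination e1) (by linear_combination -e2) (by linear_combination e3)
    (by linear_combination f1) (by linear_combination -f2) (by linear_combination f3)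
  ext i j
  fin_cases i <;> fin_cases j <;> simp [Matrix.mul_apply, Fin.sum_univ_two]
  · linear_combination k1
  · linear_combination -k2
  · linear_combination k3
  · linear_combination -k1

end Mat

theorem comm_cases {F : Type} [Field F] (g h : Matrix.SpecialLinearGroup (Fin 2) F)
    (hgh : Commute (QuotientGroup.mk g : Matrix.ProjectiveSpecialLinearGroup (Fin 2) F)
      (QuotientGroup.mk h)) :
    (g : Matrix (Fin 2) (Fin 2) F) * (h : Matrix (Fin 2) (Fin 2) F) =
        (h : Matrix (Fin 2) (Fin 2) F) * (g : Matrix (Fin 2) (Fin 2) F) ∨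
      (h : Matrix (Fin 2) (Fin 2) F) * (g : Matrix (Fin 2) (Fin 2) F) =
        - ((g : Matrix (Fin 2) (Fin 2) F) * (h : Matrix (Fin 2) (Fin 2) F)) := by
  have h0 : (QuotientGroup.mk (g * h) : Matrix.ProjectiveSpecialLinearGroup (Fin 2) F) =
      QuotientGroup.mk (h * g) := hgh
  rw [QuotientGroup.eq, Matrix.SpecialLinearGroup.mem_center_iff] at h0
  obtain ⟨r, hr, hs⟩ := h0
  have hr2 : r = 1 ∨ r = -1 := by
    rw [Fintype.card_fin] at hr
    have h4 : (r - 1) * (r + 1) = 0 := by linear_combination hr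
    rcases mul_eq_zero.1 h4 with h5 | h5
    · left; linear_combination h5
    · right; linear_combination h5
  have hm : (h : Matrix (Fin 2) (Fin 2) F) * (g : Matrix (Fin 2) (Fin 2) F) =
      ((g : Matrix (Fin 2) (Fin 2) F) * (h : Matrix (Fin 2) (Fin 2) F)) * Matrix.scalar (Fin 2) r := by
    rw [hs]
    have : h * g = (g * h) * ((g * h)⁻¹ * (h * g)) := by group
    have h3 := congrArg (Subtype.val) this
    simpa using h3
  rcases hr2 with rfl | rfl
  · left; rw [hm]; simp
  · right; rw [hm]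
    rw [map_neg, map_one]; simp

theorem sq_of_anti {F : Type} [Field F] (g h : Matrix.SpecialLinearGroup (Fin 2) F)
    (h2 : (2 : F) ≠ 0)
    (hgh : (h : Matrix (Fin 2) (Fin 2) F) * (g : Matrix (Fin 2) (Fin 2) F) =
        - ((g : Matrix (Fin 2) (Fin 2) F) * (h : Matrix (Fin 2) (Fin 2) F))) :
    (QuotientGroup.mk g : Matrix.ProjectiveSpecialLinearGroup (Fin 2) F) ^ 2 = 1 := by
  have htr : Matrix.trace (g : Matrix (Fin 2) (Fin 2) F) = 0 := by
    have hi : (h : Matrix (Fin 2) (Fin 2) F) * ((h⁻¹ : Matrix.SpecialLinearGroup (Fin 2) F) : Matrix (Fin 2) (Fin 2) F) = 1 := by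
      rw [← Matrix.SpecialLinearGroup.coe_mul, mul_inv_cancel, Matrix.SpecialLinearGroup.coe_one]
    have h1 : Matrix.trace (g : Matrix (Fin 2) (Fin 2) F) = - Matrix.trace (g : Matrix (Fin 2) (Fin 2) F) := by
      calc Matrix.trace (g : Matrix (Fin 2) (Fin 2) F)
          = Matrix.trace ((g : Matrix (Fin 2) (Fin 2) F) * ((h : Matrix (Fin 2) (Fin 2) F) * ((h⁻¹ : Matrix.SpecialLinearGroup (Fin 2) F) : Matrix (Fin 2) (Fin 2) F))) := by rw [hi, mul_one]
        _ = Matrix.trace (-((h : Matrix (Fin 2) (Fin 2) F) * (g : Matrix (Fin 2) (Fin 2) F)) * ((h⁻¹ : Matrix.SpecialLinearGroup (Fin 2) F) : Matrix (Fin 2) (Fin 2) F)) := by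
            rw [hgh, neg_neg, mul_assoc]
        _ = - Matrix.trace (((h : Matrix (Fin 2) (Fin 2) F) * (g : Matrix (Fin 2) (Fin 2) F)) * ((h⁻¹ : Matrix.SpecialLinearGroup (Fin 2) F) : Matrix (Fin 2) (Fin 2) F)) := by
            rw [neg_mul, Matrix.trace_neg]
        _ = - Matrix.trace ((((h⁻¹ : Matrix.SpecialLinearGroup (Fin 2) F) : Matrix (Fin 2) (Fin 2) F) * (h : Matrix (Fin 2) (Fin 2) F)) * (g : Matrix (Fin 2) (Fin 2) F)) := by
            rw [Matrix.trace_mul_comm, mul_assoc]
        _ = - Matrix.trace (g : Matrix (Fin 2) (Fin 2) F) := by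
            have hi' : ((h⁻¹ : Matrix.SpecialLinearGroup (Fin 2) F) : Matrix (Fin 2) (Fin 2) F) * (h : Matrix (Fin 2) (Fin 2) F) = 1 := by
              rw [← Matrix.SpecialLinearGroup.coe_mul, inv_mul_cancel, Matrix.SpecialLinearGroup.coe_one]
            rw [hi', one_mul]
    have h3 : (2 : F) * Matrix.trace (g : Matrix (Fin 2) (Fin 2) F) = 0 := by linear_combination h1
    exact (mul_eq_zero.1 h3).resolve_left h2
  rw [Matrix.trace_fin_two] at htr
  have hdet := g.2
  rw [Matrix.det_fin_two] at hdet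
  have : (QuotientGroup.mk (g ^ 2) : Matrix.ProjectiveSpecialLinearGroup (Fin 2) F) = 1 := by
    rw [QuotientGroup.eq_one_iff, Matrix.SpecialLinearGroup.mem_center_iff]
    refine ⟨-1, by simp, ?_⟩
    ext i j
    rw [pow_two]
    fin_cases i <;> fin_cases j <;> simp [Matrix.mul_apply, Fin.sum_univ_two]
    · linear_combination hdet - (g 0 0) * htr
    · linear_combination -(g 0 1) * htr
    · linear_combination -(g 1 0) * htr
    · linear_combination hdet - (g 1 1) * htr
  exact this

theorem psl_cent {F : Type} [Field F] [Fintype F] (x : Matrix.ProjectiveSpecialLinearGroup (Fin 2) F)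
    (hx : x ≠ 1) (h2 : x ^ 2 ≠ 1 ∨ CharP F 2) :
    IsMulCommutative (centralizer ({x} : Set (Matrix.ProjectiveSpecialLinearGroup (Fin 2) F))) := by
  obtain ⟨g, rfl⟩ := QuotientGroup.mk_surjective x
  have hns : ¬ ((g : Matrix (Fin 2) (Fin 2) F) 0 1 = 0 ∧ (g : Matrix (Fin 2) (Fin 2) F) 1 0 = 0 ∧
      (g : Matrix (Fin 2) (Fin 2) F) 0 0 = (g : Matrix (Fin 2) (Fin 2) F) 1 1) := by
    rintro ⟨h01, h10, h00⟩
    apply hx
    rw [QuotientGroup.eq_one_iff, Matrix.SpecialLinearGroup.mem_center_iff]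
    have hdet := g.2
    rw [Matrix.det_fin_two, h01, h10, h00] at hdet
    refine ⟨(g : Matrix (Fin 2) (Fin 2) F) 1 1, ?_, ?_⟩
    · rw [Fintype.card_fin]; linear_combination hdet
    · ext i j
      fin_cases i <;> fin_cases j <;> simp
      · exact h00.symm
      · exact h01.symm
      · exact h10.symm
  have key : ∀ h : Matrix.SpecialLinearGroup (Fin 2) F,
      (QuotientGroup.mk h : Matrix.ProjectiveSpecialLinearGroup (Fin 2) F) ∈
        centralizer ({(QuotientGroup.mk g : Matrix.ProjectiveSpecialLinearGroup (Fin 2) F)} : Set (Matrix.ProjectiveSpecialLinearGroup (Fin 2) F)) →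
      (g : Matrix (Fin 2) (Fin 2) F) * (h : Matrix (Fin 2) (Fin 2) F) =
        (h : Matrix (Fin 2) (Fin 2) F) * (g : Matrix (Fin 2) (Fin 2) F) := by
    intro h hh
    rw [mem_centralizer_singleton_iff] at hh
    rcases comm_cases g h hh.symm with h1 | h1
    · exact h1
    · by_cases h20 : (2 : F) = 0
      · have hneg : ∀ M : Matrix (Fin 2) (Fin 2) F, -M = M := by
          intro M
          ext i j
          simp only [Matrix.neg_apply]
          linear_combination (-(M i j)) * h20
        rw [h1, hneg]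
      · exfalso
        rcases h2 with h2 | h2
        · exact h2 (sq_of_anti g h h20 h1)
        · exact h20 (CharTwo.two_eq_zero)
  rw [isMulCommutative_iff]
  rintro ⟨a, ha⟩ ⟨b, hb⟩
  obtain ⟨a, rfl⟩ := QuotientGroup.mk_surjective a
  obtain ⟨b, rfl⟩ := QuotientGroup.mk_surjective b
  have hab := mat_comm _ _ _ hns (key a ha) (key b hb)
  have hab' : a * b = b * a := Subtype.ext (by simpa using hab)
  apply Subtype.ext
  show (QuotientGroup.mk (a * b) : Matrix.ProjectiveSpecialLinearGroup (Fin 2) F) = QuotientGroup.mk (b * a)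
  rw [hab']

theorem kill_psl' {G : Type u} [Group G] [Finite G] (h : Beta2 G)
    (hk : ∀ x : G, Bad x → IsMulCommutative (centralizer ({(x : G ⧸ center G)} : Set (G ⧸ center G))) → False)
    (F : Type) [Field F] [Fintype F] (e : G ⧸ center G ≃* Matrix.ProjectiveSpecialLinearGroup (Fin 2) F) :
    False := by
  obtain ⟨x, hx⟩ := h.bad
  have hx1 : (x : G ⧸ center G) ≠ 1 := by
    rw [Ne, QuotientGroup.eq_one_iff]; exact hx.1
  have hsq : x ^ 2 ∉ center G := by
    intro hc
    have hn : orderOf x ≠ 0 := (orderOf_pos x).ne'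
    obtain ⟨k, m, hm, hkm⟩ := Nat.exists_eq_two_pow_mul_odd hn
    have hp : (x ^ m) ^ 2 ^ k = 1 := by
      rw [← pow_mul, mul_comm, ← hkm, pow_orderOf_eq_one]
    apply h.b0 (x ^ m) ⟨k, hp⟩
    obtain ⟨j, hj⟩ := hm
    have hz : x ^ (2 * j) ∈ center G := by rw [pow_mul]; exact pow_mem hc j
    have hxm : x ^ m = x ^ (2 * j) * x := by rw [hj, pow_succ]
    have hcomm : ∀ a : G, Commute x a → Commute (x ^ m) a := fun a ha => ha.pow_left m
    refine ⟨fun hc2 => hx.1 ?_, ?_⟩
    · rw [hxm] at hc2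
      have := (center G).mul_mem ((center G).inv_mem hz) hc2
      simpa using this
    · obtain ⟨a, b, ha, hb, hab⟩ := hx.2
      exact ⟨a, b, hcomm a ha, hcomm b hb, hab⟩
  apply hk x hx
  have hc := psl_cent (e (x : G ⧸ center G)) (by rwa [Ne, map_eq_one_iff e e.injective]) (Or.inl (by
    rw [← map_pow, Ne, map_eq_one_iff e e.injective]
    intro h1
    apply hsq
    rw [← QuotientGroup.eq_one_iff]; exact h1))
  rw [isMulCommutative_iff] at hc ⊢
  rintro ⟨a, ha⟩ ⟨b, hb⟩
  have ha' : e a ∈ centralizer ({e (x : G ⧸ center G)} : Set (Matrix.ProjectiveSpecialLinearGroup (Fin 2) F)) := by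
    rw [mem_centralizer_singleton_iff] at ha ⊢
    rw [← map_mul, ← map_mul, ha]
  have hb' : e b ∈ centralizer ({e (x : G ⧸ center G)} : Set (Matrix.ProjectiveSpecialLinearGroup (Fin 2) F)) := by
    rw [mem_centralizer_singleton_iff] at hb ⊢
    rw [← map_mul, ← map_mul, hb]
  have := congrArg Subtype.val (hc ⟨e a, ha'⟩ ⟨e b, hb'⟩)
  apply Subtype.ext
  apply e.injective
  simpa using this

end H77.CaPsl
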