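import Cfsg.Agent.Lib.H77.DegP3
import Cfsg.Agent.Lib.H19.Extra

/-!
# Groups with character degrees {1, p}, p prime: the easy direction (helper77)
-/

set_option autoImplicit false
set_option linter.style.haveILetI false
set_option linter.unusedSectionVars false
set_option linter.unusedVariables false
open Cfsg

namespace H77.DegP

open H18.CharBasic H18.CharOrtho H77.PQuot H77.TwoDeg

open scoped ComplexConjugate

universe u

variable {G : Type u} [Group G] [Finite G]

theorem sq_le_index_center (χ : IrrCharacter G) :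
    charDegree χ.1 ^ 2 ≤ (Subgroup.center G).index := by
  classical
  letI := Fintype.ofFinite G
  have h1 := inner_irr_self χ.2
  unfold classInner at h1
  have h4 : (Nat.card G : ℂ) ≠ 0 := by exact_mod_cast (Nat.card_pos (α := G)).ne'
  have h2 : ∑ g : G, χ.1 g * conj (χ.1 g) = Nat.card G := by
    field_simp at h1
    exact h1
  have h3 : ∀ g : G, χ.1 g * conj (χ.1 g) = ((Complex.normSq (χ.1 g) : ℝ) : ℂ) := fun g =>
    Complex.mul_conj _
  have h5 : ∑ g : G, Complex.normSq (χ.1 g) = Nat.card G := by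
    have : ((∑ g : G, Complex.normSq (χ.1 g) : ℝ) : ℂ) = Nat.card G := by
      rw [Complex.ofReal_sum, ← h2]
      exact Finset.sum_congr rfl fun g _ => (h3 g).symm
    exact_mod_cast this
  have h6 : ∀ z ∈ Subgroup.center G, Complex.normSq (χ.1 z) = (charDegree χ.1 : ℝ) ^ 2 := by
    intro z hz
    have h7 := H19.Extra.center_sq χ.2 hz
    rw [h3, ← cast_irr χ] at h7
    exact_mod_cast h7
  have h7 : (Nat.card (Subgroup.center G) : ℝ) * (charDegree χ.1 : ℝ) ^ 2 ≤ Nat.card G := by
    rw [← h5, ← Finset.sum_filter_add_sum_filter_not Finset.univ (fun g => g ∈ Subgroup.center G)]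
    have h8 : ∑ g ∈ Finset.univ.filter (fun g => g ∈ Subgroup.center G), Complex.normSq (χ.1 g) =
        (Nat.card (Subgroup.center G) : ℝ) * (charDegree χ.1 : ℝ) ^ 2 := by
      rw [Finset.sum_congr rfl (g := fun _ => (charDegree χ.1 : ℝ) ^ 2)
        (fun z hz => h6 z (Finset.mem_filter.1 hz).2), Finset.sum_const, nsmul_eq_mul]
      congr 2
      rw [Nat.card_eq_fintype_card]
      exact (Fintype.card_subtype _).symm
    rw [h8]
    have h9 : 0 ≤ ∑ g ∈ Finset.univ.filter (fun g => ¬ g ∈ Subgroup.center G),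
        Complex.normSq (χ.1 g) := Finset.sum_nonneg fun g _ => Complex.normSq_nonneg _
    linarith
  have h8 : Nat.card (Subgroup.center G) * charDegree χ.1 ^ 2 ≤ Nat.card G := by exact_mod_cast h7
  rw [← Subgroup.card_mul_index (Subgroup.center G)] at h8
  exact Nat.le_of_mul_le_mul_left h8 Nat.card_pos

theorem backward (hG : ∃ a b : G, a * b ≠ b * a) {p : ℕ} (hp : p.Prime)
    (h : (∃ A : Subgroup G, A.Normal ∧ (∀ a ∈ A, ∀ b ∈ A, a * b = b * a) ∧ A.index = p) ∨
      (Subgroup.center G).index = p ^ 3) :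
    (∀ χ : IrrCharacter G, charDegree χ.1 = 1 ∨ charDegree χ.1 = p) ∧
      ∃ χ : IrrCharacter G, charDegree χ.1 = p := by
  have h1 : ∀ χ : IrrCharacter G, charDegree χ.1 = 1 ∨ charDegree χ.1 = p := by
    intro χ
    rcases h with ⟨A, hA, hab, hidx⟩ | h
    · haveI := hA
      have h2 := H4.CenterIndex.ito χ.2 (d := charDegree χ.1) (cast_irr χ).symm A hab
      rw [hidx] at h2
      exact (Nat.dvd_prime hp).1 h2
    · have h2 := H4.CenterIndex.ito χ.2 (d := charDegree χ.1) (cast_irr χ).symm
        (Subgroup.center G) (fun a ha b hb => (Subgroup.mem_center_iff.1 hb a))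
      have h3 := sq_le_index_center χ
      rw [h] at h2 h3
      obtain ⟨k, hk, hk'⟩ := (Nat.dvd_prime_pow hp).1 h2
      rw [hk', ← pow_mul] at h3
      have h4 : k * 2 ≤ 3 := (Nat.pow_le_pow_iff_right hp.one_lt).1 h3
      have h5 : k = 0 ∨ k = 1 := by omega
      rcases h5 with rfl | rfl
      · left; rw [hk', pow_zero]
      · right; rw [hk', pow_one]
  refine ⟨h1, ?_⟩
  by_contra! hno
  obtain ⟨a, b, hab⟩ := hG
  exact hab (comm_of_linear' (fun χ => (h1 χ).resolve_right (hno χ)) a b)

end H77.DegP
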