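import Mathlib

set_option autoImplicit false
set_option linter.all false
set_option maxHeartbeats 400000

/-!
# Additive bijections of `F ^ 2` normalizing `SL(2, F)` are semilinear
-/

namespace H77.BZ

open scoped MatrixGroups

theorem sls {F : Type*} [Field F] [Fintype F] (h4 : 4 ≤ Fintype.card F)
    (x : (Fin 2 → F) ≃+ (Fin 2 → F))
    (hnz : ∀ g : SL(2, F), ∃ g' : SL(2, F), ∀ v, x ((g : Matrix (Fin 2) (Fin 2) F).mulVec v) =
      (g' : Matrix (Fin 2) (Fin 2) F).mulVec (x v)) :
    ∃ σ : F ≃+* F, ∀ (l : F) v, x (l • v) = σ l • x v := by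
  classical
  choose f hf using hnz
  haveI : Finite SL(2, F) := Subtype.finite
  have hinj : Function.Injective f := by
    intro a b hab
    apply Subtype.ext
    have h1 : ∀ v, (a : Matrix (Fin 2) (Fin 2) F).mulVec v = (b : Matrix (Fin 2) (Fin 2) F).mulVec v := by
      intro v
      apply x.injective
      rw [hf, hf, hab]
    exact Matrix.mulVec_injective (funext h1)
  have hsurj : Function.Surjective f := Finite.surjective_of_injective hinj
  -- the scalars
  have key : ∀ l : F, ∃ s : F, ∀ v, x (l • v) = s • x v := by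
    intro l
    set y : (Fin 2 → F) → (Fin 2 → F) := fun w => x (l • x.symm w) with hy
    have hyadd : ∀ v w, y (v + w) = y v + y w := by
      intro v w
      simp only [hy, map_add, smul_add]
    have hyc : ∀ (h : SL(2, F)) w, y ((h : Matrix (Fin 2) (Fin 2) F).mulVec w) =
        (h : Matrix (Fin 2) (Fin 2) F).mulVec (y w) := by
      intro h w
      obtain ⟨g, rfl⟩ := hsurj h
      have h1 : x.symm ((f g : Matrix (Fin 2) (Fin 2) F).mulVec w) =
          (g : Matrix (Fin 2) (Fin 2) F).mulVec (x.symm w) := by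
        apply x.injective
        rw [hf, x.apply_symm_apply, x.apply_symm_apply]
      simp only [hy]
      rw [h1, ← Matrix.mulVec_smul, hf]
    have hup : ∀ t a b : F, y ![a + t * b, b] = ![(y ![a, b]) 0 + t * (y ![a, b]) 1, (y ![a, b]) 1] := by
      intro t a b
      have h1 := hyc ⟨!![1, t; 0, 1], by simp [Matrix.det_fin_two]⟩ ![a, b]
      have h2 : (!![1, t; 0, 1] : Matrix (Fin 2) (Fin 2) F).mulVec ![a, b] = ![a + t * b, b] := by
        ext i; fin_cases i <;> simp [Matrix.mulVec, dotProduct, Fin.sum_univ_two]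
      have h3 : ∀ w : Fin 2 → F, (!![1, t; 0, 1] : Matrix (Fin 2) (Fin 2) F).mulVec w = ![w 0 + t * w 1, w 1] := by
        intro w
        ext i; fin_cases i <;> simp [Matrix.mulVec, dotProduct, Fin.sum_univ_two]
      rw [← h3, ← h2]
      exact h1
    have hlo : ∀ t a b : F, y ![a, t * a + b] = ![(y ![a, b]) 0, t * (y ![a, b]) 0 + (y ![a, b]) 1] := by
      intro t a b
      have h1 := hyc ⟨!![1, 0; t, 1], by simp [Matrix.det_fin_two]⟩ ![a, b]
      have h2 : (!![1, 0; t, 1] : Matrix (Fin 2) (Fin 2) F).mulVec ![a, b] = ![a, t * a + b] := by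
        ext i; fin_cases i <;> simp [Matrix.mulVec, dotProduct, Fin.sum_univ_two]
      have h3 : ∀ w : Fin 2 → F, (!![1, 0; t, 1] : Matrix (Fin 2) (Fin 2) F).mulVec w = ![w 0, t * w 0 + w 1] := by
        intro w
        ext i; fin_cases i <;> simp [Matrix.mulVec, dotProduct, Fin.sum_univ_two]
      rw [← h3, ← h2]
      exact h1
    -- y e0 = s e0
    have h10 : (y ![1, 0]) 1 = 0 := by
      have h1 := congrFun (hup 1 1 0) 0
      simp at h1
      exact h1
    have h01 : (y ![0, 1]) 0 = 0 := by
      have h1 := congrFun (hlo 1 0 1) 1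
      simp at h1
      exact h1
    have ha : ∀ t : F, y ![t, 0] = ![t * (y ![0, 1]) 1, 0] := by
      intro t
      have h1 := hup t 0 1
      have h2 : (![0 + t * 1, 1] : Fin 2 → F) = ![t, 0] + ![0, 1] := by
        ext i; fin_cases i <;> simp
      rw [h2, hyadd, h01] at h1
      have h3 : y ![t, 0] = ![0 + t * (y ![0, 1]) 1, (y ![0, 1]) 1] - y ![0, 1] := by rw [← h1]; abel
      rw [h3]
      ext i; fin_cases i <;> simp [h01]
    have hb : ∀ t : F, y ![0, t] = ![0, t * (y ![1, 0]) 0] := by
      intro t
      have h1 := hlo t 1 0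
      have h2 : (![1, t * 1 + 0] : Fin 2 → F) = ![0, t] + ![1, 0] := by
        ext i; fin_cases i <;> simp
      rw [h2, hyadd, h10] at h1
      have h3 : y ![0, t] = ![(y ![1, 0]) 0, t * (y ![1, 0]) 0 + 0] - y ![1, 0] := by rw [← h1]; abel
      rw [h3]
      ext i; fin_cases i <;> simp [h10]
    have hab : (y ![1, 0]) 0 = (y ![0, 1]) 1 := by
      rw [ha 1]; simp
    refine ⟨(y ![0, 1]) 1, fun v => ?_⟩
    have h5 : ∀ w, y w = (y ![0, 1]) 1 • w := by
      intro w
      have h6 : w = ![w 0, 0] + ![0, w 1] := by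
        ext i; fin_cases i <;> simp
      have h8 : y w = y ![w 0, 0] + y ![0, w 1] := by rw [← hyadd, ← h6]
      rw [h8, ha (w 0), hb (w 1), hab]
      ext i; fin_cases i <;> simp [mul_comm]
    have h7 := h5 (x v)
    simp only [hy, x.symm_apply_apply] at h7 ⊢
    exact h7
  choose σ hσ using key
  -- uniqueness
  have he : x ![1, 0] ≠ 0 := by
    intro h
    have h1 : (![1, 0] : Fin 2 → F) = 0 := x.injective (by rw [h, map_zero])
    have h2 := congrFun h1 0
    simp at h2
  have huniq : ∀ s t : F, s • x ![1, 0] = t • x ![1, 0] → s = t := by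
    intro s t h
    have h1 : (s - t) • x ![1, 0] = 0 := by rw [sub_smul, h, sub_self]
    rcases smul_eq_zero.1 h1 with h2 | h2
    · exact sub_eq_zero.1 h2
    · exact absurd h2 he
  let φ : F →+* F :=
    { toFun := σ
      map_one' := by
        apply huniq
        rw [← hσ, one_smul, one_smul]
      map_mul' := by
        intro a b
        apply huniq
        rw [← hσ, mul_smul, hσ, hσ, smul_smul]
      map_zero' := by
        apply huniq
        rw [← hσ, zero_smul, zero_smul, map_zero]
      map_add' := by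
        intro a b
        apply huniq
        rw [← hσ, add_smul, map_add, hσ, hσ, ← add_smul] }
  have hφ : Function.Bijective φ := Finite.injective_iff_bijective.1 φ.injective
  exact ⟨RingEquiv.ofBijective φ hφ, fun l v => hσ l v⟩

end H77.BZ
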