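import Cfsg.Agent.S0867
import Cfsg.Agent.S0868
import Cfsg.Agent.Lib.H78.Galois
import Cfsg.Agent.Lib.H5.BurnsideZero
import Cfsg.Agent.Lib.H31.CoprimeCoset
import Cfsg.Agent.Lib.H77.PQuot
import Cfsg.Agent.Lib.H77.Conv

/-!
# Canonical extensions and the Glauberman correspondence for cyclic groups (helper77)
-/

set_option autoImplicit false
set_option linter.unusedSectionVars false
set_option linter.unusedVariables false
set_option linter.style.haveILetI false
open Cfsg H18 H18.CharBasic H18.CharOrtho H18.CharInd H18.CharQuot H31.Clifford H77.PQuot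
open scoped ComplexConjugate

namespace H77.Canon

universe u

section gal
variable {G : Type u} [Group G] [Finite G]

theorem detChar_ringHom (σ : ℂ →+* ℂ) {χ : G → ℂ} (h : IsCharacter G χ) (g : G) :
    detChar (fun x => σ (χ x)) g = σ (detChar χ g) := by
  obtain ⟨n, ρ, rfl⟩ := h
  have h1 : (fun x => σ (ρ.character x)) = (galRep σ ρ).character :=
    funext fun x => (galRep_character σ ρ x).symm
  rw [h1, DetChar.detChar_rep, DetChar.detChar_rep]
  show LinearMap.det (Matrix.toLin' ((LinearMap.toMatrix' (ρ g)).map σ)) = _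
  rw [LinearMap.det_toLin', ← LinearMap.det_toMatrix' (ρ g), RingHom.map_det]
  rfl

theorem detOrder_ringHom (σ : ℂ →+* ℂ) {χ : G → ℂ} (h : IsCharacter G χ) :
    detOrder (fun x => σ (χ x)) = detOrder χ := by
  have h1 : detChar (fun x => σ (χ x)) = (σ.toMonoidHom.compLeft G) (detChar χ) :=
    funext fun g => detChar_ringHom σ h g
  rw [detOrder, detOrder, h1]
  refine orderOf_injective (σ.toMonoidHom.compLeft G) ?_ _
  intro a b hab
  funext x
  exact σ.injective (congrFun hab x)

theorem detOrder_dvd_card {χ : G → ℂ} (h : IsCharacter G χ) : detOrder χ ∣ Nat.card G := by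
  obtain ⟨f, hf⟩ := DetChar.exists_detHom h
  rw [detOrder, hf, LinExt.orderOf_coe]
  apply orderOf_dvd_of_pow_eq_one
  ext x
  have : (f ^ Nat.card G) x = 1 := by
    rw [MonoidHom.pow_apply, ← map_pow, pow_card_eq_one', map_one]
  exact congrArg Units.val this

end gal

section canon
variable {Γ : Type u} [Group Γ] [Finite Γ] (G : Subgroup Γ) [hG : G.Normal]

/-- uniqueness of the canonical extension -/
theorem canon_unique (hcop : (Nat.card G).Coprime G.index) {χ χ' : Γ → ℂ}
    (hχ : IsIrrCharacter Γ χ) (hχ' : IsIrrCharacter Γ χ') (θ : IrrCharacter G)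
    (h1 : ∀ g : G, χ g = (θ : G → ℂ) g) (h2 : ∀ g : G, χ' g = (θ : G → ℂ) g)
    (hd : (detOrder χ).Coprime G.index) (hd' : (detOrder χ').Coprime G.index) : χ = χ' := by
  have hinv : ∀ (x : Γ) (n : G), (θ : G → ℂ) ⟨x * n * x⁻¹, hG.conj_mem (n : Γ) n.2 x⟩ =
      (θ : G → ℂ) n := by
    intro x n
    rw [← h1, ← h1]
    exact isClassFunction_of_isIrr hχ _ _
  have hc : Nat.Coprime G.index (detOrder (θ : G → ℂ) * charDegree (θ : G → ℂ)) := by
    letI := Fintype.ofFinite G
    apply Nat.Coprime.mul_right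
    · exact (Nat.Coprime.symm hcop).coprime_dvd_right (detOrder_dvd_card (isCharacter_of_isIrr θ.2))
    · exact (Nat.Coprime.symm hcop).coprime_dvd_right
        (H77.Degree.degree_dvd_card θ.2 (cast_irr θ).symm)
  obtain ⟨η, _, h3⟩ := Cfsg.Agent.S0867.result G (θ : G → ℂ) θ.2 hinv _ (cast_irr θ).symm hc
  rw [h3 χ hχ h1 hd.symm, h3 χ' hχ' h2 hd'.symm]

/-- existence of the canonical extension -/
theorem canon_exists (hcop : (Nat.card G).Coprime G.index) (θ : IrrCharacter G)
    (hinv : ∀ (x : Γ) (n : G), (θ : G → ℂ) ⟨x * n * x⁻¹, hG.conj_mem (n : Γ) n.2 x⟩ =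
      (θ : G → ℂ) n) : ∃ χ : IrrCharacter Γ, (∀ g : G, (χ : Γ → ℂ) g = (θ : G → ℂ) g) ∧
      detOrder (χ : Γ → ℂ) ∣ Nat.card G := by
  have hc : Nat.Coprime G.index (detOrder (θ : G → ℂ) * charDegree (θ : G → ℂ)) := by
    letI := Fintype.ofFinite G
    apply Nat.Coprime.mul_right
    · exact (Nat.Coprime.symm hcop).coprime_dvd_right (detOrder_dvd_card (isCharacter_of_isIrr θ.2))
    · exact (Nat.Coprime.symm hcop).coprime_dvd_right
        (H77.Degree.degree_dvd_card θ.2 (cast_irr θ).symm)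
  obtain ⟨η, ⟨h1, h2, h3⟩, _⟩ := Cfsg.Agent.S0867.result G (θ : G → ℂ) θ.2 hinv _ (cast_irr θ).symm hc
  exact ⟨⟨η, h1⟩, h2, h3 ▸ detOrder_dvd_card (isCharacter_of_isIrr θ.2)⟩

/-- the canonical extension is invariant under the Galois automorphisms fixing `|G|`-th roots of
unity -/
theorem canon_pow (hcop : (Nat.card G).Coprime G.index) {χ : Γ → ℂ}
    (hχ : IsIrrCharacter Γ χ) (hirr : IsIrrCharacter G (fun g : G => χ g))
    (hd : (detOrder χ).Coprime G.index) {k : ℕ} (hk1 : k ≡ 1 [MOD Nat.card G])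
    (hk : k.Coprime (Nat.card Γ)) (x : Γ) : χ (x ^ k) = χ x := by
  obtain ⟨σ, hσ⟩ := H78.Galois.exists_ringEquiv Nat.card_pos.ne' hk
  have hc := isCharacter_of_isIrr hχ
  have h1 : ∀ y : Γ, σ (χ y) = χ (y ^ k) :=
    fun y => H78.Galois.char_map_eq_pow dvd_rfl (σ := σ.toRingHom) hσ hc y
  have h2 : IsIrrCharacter Γ (fun y => σ.toRingHom (χ y)) := isIrrCharacter_ringHom _ hχ
  have h3 : ∀ g : G, σ.toRingHom (χ g) = χ g := by
    intro g
    show σ (χ g) = χ g
    rw [h1]
    congr 1
    have h4 : g ^ k = g := by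
      have := pow_eq_pow_of_modEq (hk1.of_dvd (orderOf_dvd_natCard g)) (pow_orderOf_eq_one g)
      rw [this, pow_one]
    exact_mod_cast congrArg Subtype.val h4
  have h4 := canon_unique G hcop h2 hχ ⟨_, hirr⟩ h3 (fun g => rfl)
    (by rw [detOrder_ringHom _ hc]; exact hd) hd
  rw [← h1]
  exact congrFun h4 x

end canon

section fourier

/-- Fourier decomposition along an abelian direct factor. -/
theorem fourier {C S : Type u} [Group C] [Group S] [Fintype C] [Fintype S]
    [Fintype (IrrCharacter S)] (hS : ∀ a b : S, a * b = b * a) {Ψ : C × S → ℂ}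
    (hΨ : IsCharacter (C × S) Ψ) {β : C → ℂ} (hβ : IsIrrCharacter C β) :
    ∃ n : IrrCharacter S → ℕ, ∀ s : S, classInner (fun c => Ψ (c, s)) β =
      ∑ l : IrrCharacter S, (n l : ℂ) * (l : S → ℂ) s := by
  classical
  have hex : ∀ l : IrrCharacter S, ∃ n : ℕ, classInner Ψ (fun x => β x.1 * (l : S → ℂ) x.2) = n := by
    intro l
    apply inner_char_natCast hΨ
    exact isCharacter_mul (isCharacter_comp (MonoidHom.fst C S) (isCharacter_of_isIrr hβ))
      (isCharacter_comp (MonoidHom.snd C S) (isCharacter_of_isIrr l.2))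
  choose n hn using hex
  refine ⟨n, fun s => ?_⟩
  have hSc : (Nat.card S : ℂ) ≠ 0 := card_ne_zero'
  have hCc : (Nat.card C : ℂ) ≠ 0 := card_ne_zero'
  simp only [← hn]
  unfold classInner
  have h1 : ∀ t : S, ∑ l : IrrCharacter S, (l : S → ℂ) s * conj ((l : S → ℂ) t) =
      if t = s then (Nat.card S : ℂ) else 0 := by
    intro t
    rw [H77.Conv.column_transporter]
    split_ifs with h
    · subst h
      norm_cast
      apply Nat.card_congr
      exact Equiv.subtypeUnivEquiv fun x => by rw [hS x t, mul_inv_cancel_right]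
    · norm_cast
      rw [Nat.card_eq_zero]
      left
      refine ⟨fun x => h ?_⟩
      have := x.2
      rw [hS x.1 s, mul_inv_cancel_right] at this
      exact this.symm
  calc (Nat.card C : ℂ)⁻¹ * ∑ c : C, Ψ (c, s) * conj (β c)
      = (Nat.card (C × S) : ℂ)⁻¹ * ∑ c : C, ∑ t : S, Ψ (c, t) * conj (β c) *
          (if t = s then (Nat.card S : ℂ) else 0) := by
        rw [Nat.card_prod, Nat.cast_mul, mul_inv, mul_assoc]
        congr 1
        rw [Finset.mul_sum]
        refine Finset.sum_congr rfl fun c _ => ?_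
        rw [Finset.sum_eq_single s (fun t _ ht => by rw [if_neg ht, mul_zero])
          (fun h => absurd (Finset.mem_univ _) h), if_pos rfl]
        field_simp
    _ = (Nat.card (C × S) : ℂ)⁻¹ * ∑ c : C, ∑ t : S, ∑ l : IrrCharacter S,
          Ψ (c, t) * conj (β c) * ((l : S → ℂ) s * conj ((l : S → ℂ) t)) := by
        congr 1
        refine Finset.sum_congr rfl fun c _ => Finset.sum_congr rfl fun t _ => ?_
        rw [← h1 t, Finset.mul_sum]
    _ = ∑ l : IrrCharacter S, (Nat.card (C × S) : ℂ)⁻¹ * ∑ x : C × S,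
          Ψ x * conj (β x.1 * (l : S → ℂ) x.2) * (l : S → ℂ) s := by
        rw [← Finset.mul_sum]
        congr 1
        symm
        rw [Finset.sum_comm, Fintype.sum_prod_type]
        refine Finset.sum_congr rfl fun c _ => Finset.sum_congr rfl fun t _ => ?_
        refine Finset.sum_congr rfl fun l _ => ?_
        rw [map_mul]; ring
    _ = _ := by
        refine Finset.sum_congr rfl fun l _ => ?_
        rw [← Finset.sum_mul, mul_assoc]

end fourier

section corr
variable {Γ : Type u} [Group Γ] [Fintype Γ] (G C : Subgroup Γ) [hG : G.Normal] (s : Γ)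

/-- sums over the coset `G s` -/
theorem coset_formula [Fintype G] [Fintype C] (hcop : (Nat.card G).Coprime (orderOf s))
    (hC : C = G ⊓ Subgroup.centralizer ({s} : Set Γ)) (F : Γ → ℂ)
    (hF : ∀ x ∈ G, ∀ y : Γ, F (x * y * x⁻¹) = F y) :
    (Nat.card G : ℂ)⁻¹ * ∑ h : G, F (h * s) = (Nat.card C : ℂ)⁻¹ * ∑ c : C, F (c * s) := by
  classical
  letI : Fintype (H31.CoprimeCoset.cent G s) := Fintype.ofFinite _
  have hn : s ∈ Subgroup.normalizer (G : Set Γ) := by
    rw [Subgroup.normalizer_eq_top_iff.2 hG]; exact Subgroup.mem_top s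
  have h1 := H31.CoprimeCoset.sum_coset G s hn hcop.symm F hF
  have hmem : ∀ c : H31.CoprimeCoset.cent G s, ((c : G) : Γ) ∈ C := by
    intro c
    rw [hC, Subgroup.mem_inf]
    exact ⟨(c : G).2, c.2⟩
  have hC' : ∀ c : C, (c : Γ) ∈ G ∧ (c : Γ) ∈ Subgroup.centralizer ({s} : Set Γ) := by
    intro c
    rw [← Subgroup.mem_inf, ← hC]
    exact c.2
  let e : H31.CoprimeCoset.cent G s ≃ C :=
    { toFun := fun c => ⟨((c : G) : Γ), hmem c⟩
      invFun := fun c => ⟨⟨(c : Γ), (hC' c).1⟩, (hC' c).2⟩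
      left_inv := fun c => rfl
      right_inv := fun c => rfl }
  have h2 : ∑ c : H31.CoprimeCoset.cent G s, F (((c : G) : Γ) * s) = ∑ c : C, F (c * s) :=
    Fintype.sum_equiv e _ _ (fun c => rfl)
  have h3 : Nat.card C = Nat.card (H31.CoprimeCoset.cent G s) := (Nat.card_congr e).symm
  have h4 : Nat.card G = Nat.card (G ⧸ H31.CoprimeCoset.cent G s) * Nat.card C := by
    rw [h3]; exact Subgroup.card_eq_card_quotient_mul_card_subgroup _
  have h5 : (Nat.card C : ℂ) ≠ 0 := card_ne_zero'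
  have h6 : (Nat.card (G ⧸ H31.CoprimeCoset.cent G s) : ℂ) ≠ 0 := by
    exact_mod_cast (Nat.card_pos (α := G ⧸ H31.CoprimeCoset.cent G s)).ne'
  rw [h1, h2, h4, nsmul_eq_mul]
  push_cast
  field_simp

variable [Fintype G] [Fintype C]

theorem inner_coset (hcop : (Nat.card G).Coprime (orderOf s))
    (hC : C = G ⊓ Subgroup.centralizer ({s} : Set Γ)) {χ ψ : Γ → ℂ}
    (hχ : IsIrrCharacter Γ χ) (hχG : IsIrrCharacter G (fun g : G => χ g))
    (hψ : IsIrrCharacter Γ ψ) :
    (ψ = χ → classInner (fun c : C => ψ (c * s)) (fun c : C => χ (c * s)) = 1) ∧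
    (classInner (fun g : G => ψ g) (fun g : G => χ g) = 0 →
      classInner (fun c : C => ψ (c * s)) (fun c : C => χ (c * s)) = 0) := by
  have h1 := coset_formula G C s hcop hC (fun x => ψ x * conj (χ x)) (fun x _ y => by
    have h2 : ψ (x * y * x⁻¹) = ψ y := isClassFunction_of_isIrr hψ y x
    have h3 : χ (x * y * x⁻¹) = χ y := isClassFunction_of_isIrr hχ y x
    simp only [h2, h3])
  have h2 := Cfsg.Agent.S0868.result G χ hχ hχG ψ hψ _ rfl
  have h3 : classInner (fun c : C => ψ (c * s)) (fun c : C => χ (c * s)) =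
      (Nat.card G : ℂ)⁻¹ * ∑ h : G, ψ (h * s) * conj (χ (h * s)) := h1.symm
  rw [h3]
  refine ⟨fun h => ?_, fun h => ?_⟩
  · exact congrFun (h2.2.2 h) s
  · exact congrFun (h2.2.1 h) s

end corr

end H77.Canon
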