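import Mathlib
import Cfsg.Agent.Lib.H77.CopSub

/-!
# Invariant characters over invariant characters of a normal subgroup (coprime action)
-/

set_option autoImplicit false
set_option linter.unusedSectionVars false
set_option linter.style.haveILetI false

namespace H77.CopOver

open Cfsg H18 H18.CharBasic H18.CharOrtho H18.CharInd H18.CharQuot H77.Conv H77.Cong H77.Degree
  H77.GlaubP H77.CopChain
open scoped ComplexConjugate

universe u v w

section step

variable {G : Type u} [Group G] {S : Type v} [Group S] (φ : S →* MulAut G) (T : Subgroup S)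
  (N : Subgroup G) (hN : ∀ s, ∀ k ∈ N, φ s k ∈ N)

/-- The two models of the fixed points of `T` in `N`. -/
def fixEquiv : N.subgroupOf (fixSub φ T) ≃* fixSub (restrAct φ N hN) T where
  toFun x := ⟨⟨(x : fixSub φ T), x.2⟩, fun t ht => Subtype.ext (x.1.2 t ht)⟩
  invFun y := ⟨⟨(y : N), fun t ht => congrArg Subtype.val (y.2 t ht)⟩, y.1.2⟩
  left_inv x := rfl
  right_inv y := rfl
  map_mul' x y := rfl

theorem fixEquiv_coe (x : N.subgroupOf (fixSub φ T)) :
    (((fixEquiv φ T N hN x : fixSub (restrAct φ N hN) T) : N) : G) = ((x : fixSub φ T) : G) := rfl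

variable [Fintype G] [Fintype N] [Fintype (fixSub φ T)] [Fintype (N.subgroupOf (fixSub φ T))]
  [Fintype (fixSub (restrAct φ N hN) T)]
  {p : ℕ} [hp : Fact p.Prime] (hT : IsPGroup p T)

include hT

theorem inner_ne_zero_of_corr [hNn : N.Normal] [hTn : T.Normal] (hG : ¬ p ∣ Nat.card G)
    {χ : IrrCharacter G} (hχ : Inv φ χ.1) {β : IrrCharacter (fixSub φ T)}
    (hχβ : ¬ p ∣ mult (fixSub φ T).subtype χ β)
    {θ : IrrCharacter N} (hθ : Inv (restrAct φ N hN) θ.1)
    {θ' : IrrCharacter (fixSub (restrAct φ N hN) T)}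
    (hθθ' : ¬ p ∣ mult (fixSub (restrAct φ N hN) T).subtype θ θ')
    (hβ : classInner (fun x : N.subgroupOf (fixSub φ T) => β.1 x)
      (fun x => θ'.1 (fixEquiv φ T N hN x)) ≠ 0) :
    classInner (fun x : N => χ.1 x) θ.1 ≠ 0 := by
  classical
  have hf1 : Fintype (IrrCharacter G) := Fintype.ofFinite _
  have hf2 : Fintype (IrrCharacter (fixSub φ T)) := Fintype.ofFinite _
  have hf3 : Fintype (IrrCharacter N) := Fintype.ofFinite _
  have hcN : ¬ p ∣ Nat.card N := fun h => hG (h.trans (Subgroup.card_subgroup_dvd_card _))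
  have hcK : ¬ p ∣ Nat.card (fixSub φ T) := fun h => hG (h.trans (Subgroup.card_subgroup_dvd_card _))
  set θ'' : N.subgroupOf (fixSub φ T) → ℂ := fun x => θ'.1 (fixEquiv φ T N hN x) with hθ''
  have hθ''irr : IsIrrCharacter _ θ'' := (isIrrCharacter_mulEquiv (fixEquiv φ T N hN)).mp θ'.2
  -- first computation
  have hA : ∀ γ : IrrCharacter (fixSub φ T), ∃ n : ℕ,
      classInner (fun x : N.subgroupOf (fixSub φ T) => γ.1 x) θ'' = n := fun γ =>
    inner_char_natCast (isCharacter_restrict _ (isCharacter_of_isIrr γ.2))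
      (isCharacter_of_isIrr hθ''irr)
  choose a ha using hA
  have h1 : classInner (fun x : N.subgroupOf (fixSub φ T) => χ.1 ((x : fixSub φ T) : G)) θ''
      = ((∑ γ : IrrCharacter (fixSub φ T), mult (fixSub φ T).subtype χ γ * a γ : ℕ) : ℂ) := by
    have h2 := mem_classFun_expand (f := fun c : fixSub φ T => χ.1 ((fixSub φ T).subtype c))
      (isClassFunction_of_isCharacter (isCharacter_comp (fixSub φ T).subtype
        (isCharacter_of_isIrr χ.2)))
    have h3 : (fun x : N.subgroupOf (fixSub φ T) => χ.1 ((x : fixSub φ T) : G))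
        = ∑ γ : IrrCharacter (fixSub φ T), (mult (fixSub φ T).subtype χ γ : ℂ) •
          (fun x : N.subgroupOf (fixSub φ T) => γ.1 x) := by
      funext x
      have h4 := congrFun h2 (x : fixSub φ T)
      simp only [Finset.sum_apply, Pi.smul_apply, smul_eq_mul, mult_spec] at h4 ⊢
      exact h4
    rw [h3, inner_sum_left]
    push_cast
    refine Finset.sum_congr rfl fun γ _ => ?_
    rw [CharOrtho.inner_smul_left, ha]
  have h5 : (p : ℤ) ∣ ((∑ γ : IrrCharacter (fixSub φ T), mult (fixSub φ T).subtype χ γ * a γ : ℕ) : ℤ)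
      - (mult (fixSub φ T).subtype χ β : ℤ) * a β := by
    rw [← Finset.add_sum_erase _ _ (Finset.mem_univ β)]
    push_cast
    rw [add_sub_cancel_left]
    refine Finset.dvd_sum fun γ hγ => ?_
    have hne : γ ≠ β := (Finset.mem_erase.mp hγ).1
    by_contra h6
    have h7 : ¬ p ∣ mult (fixSub φ T).subtype χ γ := fun h =>
      h6 (Dvd.dvd.mul_right (by exact_mod_cast h) _)
    exact hne (corr_unique (φ.comp T.subtype) hT (fixSub φ T).subtype
      (Subgroup.subtype_injective _) (hC_T φ T) hG (fun t g => hχ t g) h7 hχβ)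
  -- `a β` is prime to `p` by Clifford's theorem
  have haβ : ¬ p ∣ a β := by
    intro hdiv
    have hNK : (N.subgroupOf (fixSub φ T)).Normal := inferInstance
    have h8 := H31.Clifford.degree_eq (N.subgroupOf (fixSub φ T)) β.2 hθ''irr hβ
    have h8' : β.1 1 = (a β : ℂ) *
        ((H31.Clifford.inertia (N.subgroupOf (fixSub φ T)) θ'').index : ℂ) * θ'' 1 := by
      rw [← ha β]; exact h8
    obtain ⟨d, hd⟩ := exists_degree (isCharacter_of_isIrr β.2)
    obtain ⟨e, he⟩ := exists_degree (isCharacter_of_isIrr hθ''irr)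
    rw [hd, he] at h8'
    have h9 : d = a β * (H31.Clifford.inertia (N.subgroupOf (fixSub φ T)) θ'').index * e := by
      exact_mod_cast h8'
    have h10 : p ∣ d := by
      rw [h9]; exact (hdiv.mul_right _).mul_right _
    exact hcK (h10.trans (degree_dvd_card β.2 hd))
  -- second computation
  have hB : ∀ η : IrrCharacter N, ∃ n : ℕ, classInner (fun x : N => χ.1 x) η.1 = n := fun η =>
    inner_char_natCast (isCharacter_restrict _ (isCharacter_of_isIrr χ.2))
      (isCharacter_of_isIrr η.2)
  choose b hb using hB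
  have h11 : classInner (fun x : fixSub (restrAct φ N hN) T => χ.1 ((x : N) : G)) θ'.1
      = ((∑ η : IrrCharacter N, b η * mult (fixSub (restrAct φ N hN) T).subtype η θ' : ℕ) : ℂ) := by
    have h2 := mem_classFun_expand (f := fun c : N => χ.1 c)
      (isClassFunction_of_isCharacter (isCharacter_restrict N (isCharacter_of_isIrr χ.2)))
    have h3 : (fun x : fixSub (restrAct φ N hN) T => χ.1 ((x : N) : G))
        = ∑ η : IrrCharacter N, (b η : ℂ) • (fun x : fixSub (restrAct φ N hN) T => η.1 ((fixSub (restrAct φ N hN) T).subtype x)) := by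
      funext x
      have h4 := congrFun h2 (x : N)
      simp only [Finset.sum_apply, Pi.smul_apply, smul_eq_mul, hb] at h4 ⊢
      exact h4
    rw [h3, inner_sum_left]
    push_cast
    refine Finset.sum_congr rfl fun η _ => ?_
    rw [CharOrtho.inner_smul_left, mult_spec]
  have h12 : CongP p (((∑ η : IrrCharacter N, b η * mult (fixSub (restrAct φ N hN) T).subtype η θ' : ℕ) : ℤ) : ℂ)
      (((b θ * mult (fixSub (restrAct φ N hN) T).subtype θ θ' : ℕ) : ℤ) : ℂ) := by
    have h13 := sum_irr_congP (p := p) ((restrAct φ N hN).comp T.subtype) hT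
      (fun η : IrrCharacter N => ((b η * mult (fixSub (restrAct φ N hN) T).subtype η θ' : ℕ) : ℂ))
      (fun t η η' h => by
        have e1 : mult (fixSub (restrAct φ N hN) T).subtype η' θ' = mult (fixSub (restrAct φ N hN) T).subtype η θ' := by
          have h2 := mult_spec (fixSub (restrAct φ N hN) T).subtype η' θ'
          have h3 := mult_spec (fixSub (restrAct φ N hN) T).subtype η θ'
          have h4 : (fun c : fixSub (restrAct φ N hN) T => η'.1 ((fixSub (restrAct φ N hN) T).subtype c)) = fun c : fixSub (restrAct φ N hN) T => η.1 ((fixSub (restrAct φ N hN) T).subtype c) := by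
            funext c
            rw [h ((fixSub (restrAct φ N hN) T).subtype c)]
            exact congrArg η.1 (c.2 t t.2)
          rw [h4, h3] at h2
          exact_mod_cast h2.symm
        have e2 : b η' = b η := by
          have h2 := hb η'
          have h3 := hb η
          have h4 := classInner_mulEquiv (restrAct φ N hN t) (fun x : N => χ.1 x) η.1
          have h5 : (fun x => (fun x : N => χ.1 x) ((restrAct φ N hN t) x)) = fun x : N => χ.1 x := by
            funext x
            exact hχ t x
          have h6 : (fun x => η.1 ((restrAct φ N hN t) x)) = η'.1 := by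
            funext x
            exact (h x).symm
          rw [h5, h6, h2, h3] at h4
          exact_mod_cast h4
        show ((b η' * mult (fixSub (restrAct φ N hN) T).subtype η' θ' : ℕ) : ℂ) = ((b η * mult (fixSub (restrAct φ N hN) T).subtype η θ' : ℕ) : ℂ)
        rw [e1, e2])
      (fun η => Cong.isIntegral_natCast _)
    have h14 : CongP p (∑ η : IrrCharacter N with Inv ((restrAct φ N hN).comp T.subtype) η.1,
        ((b η * mult (fixSub (restrAct φ N hN) T).subtype η θ' : ℕ) : ℂ)) ((b θ * mult (fixSub (restrAct φ N hN) T).subtype θ θ' : ℕ) : ℂ) := by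
      have hθmem : θ ∈ (Finset.univ.filter fun η : IrrCharacter N =>
          Inv ((restrAct φ N hN).comp T.subtype) η.1) :=
        Finset.mem_filter.mpr ⟨Finset.mem_univ _, fun t g => hθ t g⟩
      rw [← Finset.add_sum_erase _ _ hθmem]
      have h15 : CongP p (∑ η ∈ (Finset.univ.filter fun η : IrrCharacter N =>
          Inv ((restrAct φ N hN).comp T.subtype) η.1).erase θ,
          ((b η * mult (fixSub (restrAct φ N hN) T).subtype η θ' : ℕ) : ℂ)) (∑ η ∈ (Finset.univ.filter fun η : IrrCharacter N =>
          Inv ((restrAct φ N hN).comp T.subtype) η.1).erase θ, (0 : ℂ)) := by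
        refine Cong.sum _ fun η hη => ?_
        rw [Finset.mem_erase, Finset.mem_filter] at hη
        have h16 : p ∣ mult (fixSub (restrAct φ N hN) T).subtype η θ' := by
          by_contra h17
          exact hη.1 (GlaubP.inv_unique ((restrAct φ N hN).comp T.subtype) hT (fixSub (restrAct φ N hN) T).subtype
            (Subgroup.subtype_injective _) (hC_T (restrAct φ N hN) T) hcN hη.2.2
            (fun t g => hθ t g) h17 hθθ')
        have h18 : p ∣ b η * mult (fixSub (restrAct φ N hN) T).subtype η θ' := h16.mul_left _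
        exact (congP_nat_zero_iff hp.out.ne_zero).mpr h18
      have h19 := add (refl (p := p) ((b θ * mult (fixSub (restrAct φ N hN) T).subtype θ θ' : ℕ) : ℂ)) h15
      simpa using h19
    have h20 := trans h13 h14
    push_cast at h20 ⊢
    exact h20
  have h21 := dvd_of_congP_int hp.out.ne_zero h12
  -- the two inner products agree
  have h22 : classInner (fun x : N.subgroupOf (fixSub φ T) => χ.1 ((x : fixSub φ T) : G)) θ''
      = classInner (fun x : fixSub (restrAct φ N hN) T => χ.1 ((x : N) : G)) θ'.1 :=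
    classInner_mulEquiv (fixEquiv φ T N hN) (fun x : fixSub (restrAct φ N hN) T => χ.1 ((x : N) : G)) θ'.1
  rw [h1, h11] at h22
  have h23 : (∑ γ : IrrCharacter (fixSub φ T), mult (fixSub φ T).subtype χ γ * a γ : ℕ)
      = ∑ η : IrrCharacter N, b η * mult (fixSub (restrAct φ N hN) T).subtype η θ' := by exact_mod_cast h22
  -- conclude
  intro h0
  have hbθ : b θ = 0 := by
    have := hb θ
    rw [h0] at this
    exact_mod_cast this.symm
  rw [hbθ, zero_mul, Nat.cast_zero, sub_zero, ← h23] at h21
  have h24 : (p : ℤ) ∣ (mult (fixSub φ T).subtype χ β : ℤ) * a β := by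
    have := dvd_sub h21 h5
    simpa using this
  rcases Int.Prime.dvd_mul' hp.out h24 with h | h
  · exact hχβ (by exact_mod_cast h)
  · exact haβ (by exact_mod_cast h)

end step

section main

/-- Coprime solvable action: over an invariant irreducible character of an invariant normal
subgroup there is an invariant irreducible character. -/
theorem exists_over_inv (n : ℕ) : ∀ (S : Type v) [Group S] [Finite S] (_ : Nat.card S = n)
    (_ : Group.IsSolvable S) (G : Type u) [Group G] [Fintype G]
    (_ : (Nat.card G).Coprime (Nat.card S)) (φ : S →* MulAut G)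
    (N : Subgroup G) [N.Normal] [Fintype N] (hN : ∀ s, ∀ k ∈ N, φ s k ∈ N) (θ : IrrCharacter N),
    Inv (restrAct φ N hN) θ.1 → ∃ χ : IrrCharacter G, Inv φ χ.1 ∧
      classInner (fun x : N => χ.1 x) θ.1 ≠ 0 := by
  induction n using Nat.strong_induction_on with
  | _ n ih =>
  intro S _ _ hn hs G _ _ hcop φ N _ _ hN θ hθ
  rcases subsingleton_or_nontrivial S with hss | hnt
  · obtain ⟨χ, hχ, hne⟩ := exists_over N θ.2
    refine ⟨⟨χ, hχ⟩, ?_, hne⟩
    intro s g
    have : s = 1 := Subsingleton.elim _ _
    rw [this, map_one]; rfl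
  · obtain ⟨p, T, hp, hTn, hT, hT1⟩ := exists_T hs
    have hfact := Fact.mk hp
    have hpG := not_dvd_of_coprime hcop hp hT hT1
    have hpN : ¬ p ∣ Nat.card N := fun h => hpG (h.trans (Subgroup.card_subgroup_dvd_card _))
    have hfin : Fintype (fixSub φ T) := Fintype.ofFinite _
    have hfin2 : Fintype (fixSub (restrAct φ N hN) T) := Fintype.ofFinite _
    have hfin3 : Fintype (N.subgroupOf (fixSub φ T)) := Fintype.ofFinite _
    obtain ⟨θ', hθ'inv, hθθ'⟩ := step_exists (restrAct φ N hN) T hT hpN hθ
    let θ'' : IrrCharacter (N.subgroupOf (fixSub φ T)) :=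
      ⟨fun x => θ'.1 (fixEquiv φ T N hN x), (isIrrCharacter_mulEquiv (fixEquiv φ T N hN)).mp θ'.2⟩
    have hN' : ∀ q, ∀ k ∈ N.subgroupOf (fixSub φ T), quotAct φ T q k ∈ N.subgroupOf (fixSub φ T) := by
      intro q k hk
      obtain ⟨s, rfl⟩ := QuotientGroup.mk_surjective q
      exact hN s k hk
    have hθ''inv : Inv (restrAct (quotAct φ T) (N.subgroupOf (fixSub φ T)) hN') θ''.1 := by
      intro q k
      obtain ⟨s, rfl⟩ := QuotientGroup.mk_surjective q
      exact hθ'inv s (fixEquiv φ T N hN k)
    have hsolv : Group.IsSolvable (S ⧸ T) := by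
      have := hs
      exact Group.isSolvable_of_surjective (QuotientGroup.mk'_surjective T)
    obtain ⟨β, hβinv, hβ⟩ := ih (Nat.card (S ⧸ T)) (hn ▸ card_quot_lt hT1) (S ⧸ T) rfl hsolv
      (fixSub φ T) (Nat.Coprime.of_dvd (Subgroup.card_subgroup_dvd_card _)
        (Subgroup.card_quotient_dvd_card T) hcop) (quotAct φ T) (N.subgroupOf (fixSub φ T)) hN'
      θ'' hθ''inv
    obtain ⟨χ, hχ, hχβ⟩ := step_exists' φ T hT hpG ((inv_quotAct_iff φ T _).mp hβinv)
    exact ⟨χ, hχ, inner_ne_zero_of_corr φ T N hN hT hpG hχ hχβ hθ hθθ' hβ⟩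

end main

end H77.CopOver
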