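import Cfsg.Agent.Lib.H77.OverInv
import Cfsg.Agent.Lib.H77.CopOver
import Cfsg.Agent.Lib.H77.CopSub
import Cfsg.Agent.Lib.H18.CharCentral

/-!
# Invariant characters over characters of a central subgroup (helper77)
-/

set_option autoImplicit false
set_option linter.unusedSectionVars false
set_option linter.unusedVariables false
set_option linter.style.haveILetI false
open Cfsg H18 H18.CharBasic H18.CharOrtho H18.CharInd H18.CharQuot H31.Clifford
open H77.GlaubP H77.CopChain H77.GlPerm H77.OverInv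
open scoped ComplexConjugate commutatorElement

namespace H77.CentralInv

universe u

theorem central_mul {G : Type u} [Group G] [Fintype G] {χ : G → ℂ} (hχ : IsIrrCharacter G χ)
    {z : G} (hz : ∀ x, z * x = x * z) (y : G) : χ (z * y) = χ z / χ 1 * χ y := by
  classical
  have hcl : IsClassFunction G (fun g => if g = z then (1 : ℂ) else 0) := by
    intro g h
    have : h * g * h⁻¹ = z ↔ g = z := by
      constructor
      · intro h1
        have h2 : g = h⁻¹ * z * h := by rw [← h1]; group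
        rw [h2, mul_assoc, hz h, inv_mul_cancel_left]
      · rintro rfl
        rw [← hz, mul_inv_cancel_right]
    simp only [this]
  have h1 := H18.CharCentral.sum_mul_shift hχ hcl y
  simpa using h1

section nat

theorem exists_split (N m : ℕ) (hN : 0 < N) : ∃ a b : ℕ, N = a * b ∧ (∀ p : ℕ, p.Prime → p ∣ a → p ∣ m) ∧
    b.Coprime m := by
  refine ⟨Nat.gcd N (m ^ N), N / Nat.gcd N (m ^ N), (Nat.mul_div_cancel' (Nat.gcd_dvd_left _ _)).symm,
    ?_, ?_⟩
  · intro p hp h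
    exact hp.dvd_of_dvd_pow (h.trans (Nat.gcd_dvd_right _ _))
  · apply Nat.Coprime.symm
    apply Nat.coprime_of_dvd
    intro p hp hpm hpb
    set v := N.factorization p with hv
    have h1 : p ^ v ∣ N := Nat.ordProj_dvd N p
    have h2 : v ≤ N := by
      have h3 : v < p ^ v := Nat.lt_pow_self hp.one_lt
      have h4 : p ^ v ≤ N := Nat.le_of_dvd hN h1
      omega
    have h3 : p ^ v ∣ m ^ N := (pow_dvd_pow_of_dvd hpm v).trans (pow_dvd_pow m h2)
    have h4 : p ^ v ∣ Nat.gcd N (m ^ N) := Nat.dvd_gcd h1 h3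
    have h5 : p ^ (v + 1) ∣ N := by
      rw [pow_succ, ← Nat.mul_div_cancel' (Nat.gcd_dvd_left N (m ^ N))]
      exact Nat.mul_dvd_mul h4 hpb
    exact Nat.pow_succ_factorization_not_dvd hN.ne' hp h5

end nat

section pw
variable {Δ : Type u} [Group Δ] [Fintype Δ] (Q Z : Subgroup Δ) [hQn : Q.Normal]

/-- the exponent `u` and the power homomorphism. -/
theorem exists_exponent (hZQ : Z ≤ Q) (hZc : ∀ z ∈ Z, ∀ x : Δ, z * x = x * z)
    (hcop : Q.index.Coprime (Z.relIndex Q)) :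
    ∃ u : ℕ, (∀ x ∈ Q, ∀ y ∈ Q, (x * y) ^ u = x ^ u * y ^ u) ∧ (∀ x ∈ Q, x ^ u ∈ Z) ∧
      (∀ x ∈ Q, (x ^ u) ^ u = x ^ u) ∧
      ∃ a : ℕ, (∀ p : ℕ, p.Prime → p ∣ a → p ∣ Q.index) ∧ (∀ x ∈ Q, (x ^ a) ^ u = 1) ∧
        ∀ p : ℕ, p.Prime → p ∣ u → p ∣ Nat.card Q → (¬ p ∣ a ∧ ¬ p ∣ Q.index) := by
  classical
  obtain ⟨a, b, hab, ha, hb⟩ := exists_split (Nat.card Q) Q.index Nat.card_pos
  have hcab : a.Coprime b := by
    apply Nat.coprime_of_dvd
    intro p hp hpa hpb
    have := Nat.dvd_gcd hpb (ha p hp hpa)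
    rw [hb] at this
    exact hp.one_lt.ne' (Nat.dvd_one.1 this)
  obtain ⟨u, hu1, hu2⟩ := Nat.chineseRemainder hcab 1 0
  have hbu : b ∣ u := (Nat.modEq_zero_iff_dvd).1 hu2
  set ZQ := Z.subgroupOf Q with hZQdef
  have hZQc : ZQ ≤ Subgroup.center Q := by
    intro z hz
    rw [Subgroup.mem_center_iff]
    intro x
    exact Subtype.ext (hZc z hz x).symm
  have hZQn : ZQ.Normal := ⟨fun z hz x => by
    rw [Subgroup.mem_subgroupOf] at hz ⊢
    push_cast
    rw [← hZc _ hz, mul_inv_cancel_right]; exact hz⟩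
  set n' := (Subgroup.center Q).index with hn'
  have hn'1 : n' ∣ Z.relIndex Q := Subgroup.index_dvd_of_le hZQc
  have hn'2 : n' ∣ Nat.card Q := Subgroup.index_dvd_card _
  have hcopa : ∀ t : ℕ, t ∣ Z.relIndex Q → a.Coprime t := by
    intro t ht
    apply Nat.coprime_of_dvd
    intro p hp hpa hpt
    have := Nat.dvd_gcd (ha p hp hpa) (hpt.trans ht)
    rw [hcop] at this
    exact hp.one_lt.ne' (Nat.dvd_one.1 this)
  have hn'b : n' ∣ b := by
    rw [hab] at hn'2
    exact (hcopa n' hn'1).symm.dvd_of_dvd_mul_left hn'2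
  obtain ⟨t, ht⟩ := hn'b.trans hbu
  have hpow' : ∀ x y : Q, (x * y) ^ n' = x ^ n' * y ^ n' := by
    intro x y
    have := map_mul (MonoidHom.transferCenterPow Q) x y
    exact congrArg Subtype.val this
  have hcen : ∀ x : Q, x ^ n' ∈ Subgroup.center Q := fun x => Subgroup.pow_index_mem _ x
  have hpow : ∀ x y : Q, (x * y) ^ u = x ^ u * y ^ u := by
    intro x y
    rw [ht, pow_mul, hpow', pow_mul, pow_mul]
    exact (Commute.mul_pow (Subgroup.mem_center_iff.1 (hcen y) (x ^ n')) t)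
  have hau : ∀ x : Q, (x ^ u) ^ a = 1 := by
    intro x
    obtain ⟨w, hw⟩ := hbu
    rw [← pow_mul, hw]
    have : b * w * a = Nat.card Q * w := by rw [hab]; ring
    rw [this, pow_mul, pow_card_eq_one', one_pow]
  have hZu : ∀ x : Q, x ^ u ∈ ZQ := by
    intro x
    obtain ⟨w, hw1, hw2⟩ := Nat.chineseRemainder (hcopa (Z.relIndex Q) dvd_rfl) 1 0
    have h1 : (x ^ u) ^ w = x ^ u := by
      rw [pow_eq_pow_of_modEq hw1 (hau x), pow_one]
    obtain ⟨r, hr⟩ := (Nat.modEq_zero_iff_dvd).1 hw2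
    rw [← h1, hr, pow_mul]
    exact ZQ.pow_mem (ZQ.pow_index_mem (x ^ u)) r
  have huu : ∀ x : Q, (x ^ u) ^ u = x ^ u := by
    intro x
    rw [pow_eq_pow_of_modEq hu1 (hau x), pow_one]
  refine ⟨u, ?_, ?_, ?_, a, ha, ?_, ?_⟩
  · intro x hx y hy
    exact congrArg Subtype.val (hpow ⟨x, hx⟩ ⟨y, hy⟩)
  · intro x hx
    exact hZu ⟨x, hx⟩
  · intro x hx
    exact congrArg Subtype.val (huu ⟨x, hx⟩)
  · intro x hx
    have h1 := congrArg Subtype.val (hau ⟨x, hx⟩)
    have h2 : (x ^ u) ^ a = 1 := h1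
    rw [← pow_mul, mul_comm, pow_mul, h2]
  · intro p hp hpu hpc
    have hpa : ¬ p ∣ a := by
      intro hpa
      have h1 : u ≡ 1 [MOD p] := hu1.of_dvd hpa
      have h2 : u ≡ 0 [MOD p] := (Nat.modEq_zero_iff_dvd).2 hpu
      have h3 := (Nat.modEq_zero_iff_dvd).1 (h1.symm.trans h2)
      exact hp.one_lt.ne' (Nat.dvd_one.1 h3)
    refine ⟨hpa, fun hpm => ?_⟩
    rw [hab] at hpc
    rcases hp.dvd_mul.1 hpc with h | h
    · exact hpa h
    · have := Nat.dvd_gcd h hpm
      rw [hb] at this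
      exact hp.one_lt.ne' (Nat.dvd_one.1 this)

end pw

end H77.CentralInv
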