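import Cfsg.Agent.Lib.H77.CentralInv

/-!
# Invariant characters over characters of a central subgroup, main theorem (helper77)
-/

set_option autoImplicit false
set_option linter.unusedSectionVars false
set_option linter.unusedVariables false
set_option linter.style.haveILetI false
open Cfsg H18 H18.CharBasic H18.CharOrtho H18.CharInd H18.CharQuot H31.Clifford
open H77.GlaubP H77.CopChain H77.GlPerm H77.OverInv H77.CentralInv
open scoped ComplexConjugate commutatorElement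

namespace H77.CentralInv2

universe u
variable {Δ : Type u} [Group Δ] [Fintype Δ] (Q Z : Subgroup Δ) [hQn : Q.Normal]

theorem main (hZQ : Z ≤ Q) (hZc : ∀ z ∈ Z, ∀ x : Δ, z * x = x * z)
    (hcop : Q.index.Coprime (Z.relIndex Q)) (hsolv : Group.IsSolvable (Δ ⧸ Q)) (lam : Z →* ℂˣ) :
    ∃ ψ : IrrCharacter Q, (∀ (x : Δ) (q : Q), ψ.1 ⟨x * q * x⁻¹, hQn.conj_mem q q.2 x⟩ = ψ.1 q) ∧
      ∀ (z : Z) (q : Q), ψ.1 (⟨z, hZQ z.2⟩ * q) = lam z * ψ.1 q := by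
  classical
  obtain ⟨u, hmul, hZu, huu, a, ha, hau, hprime⟩ := exists_exponent Q Z hZQ hZc hcop
  -- the normal Hall subgroup
  let K : Subgroup Δ :=
    { carrier := {x | x ∈ Q ∧ x ^ u = 1}
      one_mem' := ⟨Q.one_mem, one_pow u⟩
      mul_mem' := fun {x y} hx hy => ⟨Q.mul_mem hx.1 hy.1, by
        rw [hmul x hx.1 y hy.1, hx.2, hy.2, mul_one]⟩
      inv_mem' := fun {x} hx => ⟨Q.inv_mem hx.1, by rw [inv_pow, hx.2, inv_one]⟩ }
  have hKmem : ∀ x, x ∈ K ↔ x ∈ Q ∧ x ^ u = 1 := fun x => Iff.rfl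
  have hKQ : K ≤ Q := fun x hx => hx.1
  haveI hKn : K.Normal := ⟨fun x hx g => ⟨hQn.conj_mem x hx.1 g, by
    rw [conj_pow, hx.2, mul_one, mul_inv_cancel]⟩⟩
  letI := Fintype.ofFinite K
  letI := Fintype.ofFinite Q
  -- coprimality
  have hKprime : ∀ p : ℕ, p.Prime → p ∣ Nat.card K → (¬ p ∣ a ∧ ¬ p ∣ Q.index) := by
    intro p hp hpK
    haveI : Fact p.Prime := ⟨hp⟩
    obtain ⟨x, hx⟩ := exists_prime_orderOf_dvd_card' p hpK
    have h1 : x ^ u = 1 := Subtype.ext x.2.2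
    have h2 : p ∣ u := hx ▸ orderOf_dvd_of_pow_eq_one h1
    exact hprime p hp h2 (hpK.trans (Subgroup.card_dvd_of_le hKQ))
  have hQKprime : ∀ p : ℕ, p.Prime → p ∣ K.relIndex Q → p ∣ a := by
    intro p hp hpQ
    haveI : Fact p.Prime := ⟨hp⟩
    have hpQ' : p ∣ Nat.card (Q ⧸ K.subgroupOf Q) := hpQ
    obtain ⟨y, hy⟩ := exists_prime_orderOf_dvd_card' p hpQ'
    obtain ⟨x, rfl⟩ := QuotientGroup.mk_surjective y
    rw [← hy]
    apply orderOf_dvd_of_pow_eq_one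
    rw [← QuotientGroup.mk_pow, QuotientGroup.eq_one_iff, Subgroup.mem_subgroupOf]
    exact ⟨(x ^ a).2, hau x x.2⟩
  have hKidx : K.index = K.relIndex Q * Q.index := (Subgroup.relIndex_mul_index hKQ).symm
  have hcopK : (Nat.card K).Coprime K.index := by
    apply Nat.coprime_of_dvd
    intro p hp hpK hpI
    obtain ⟨h1, h2⟩ := hKprime p hp hpK
    rw [hKidx] at hpI
    rcases hp.dvd_mul.1 hpI with h | h
    · exact h1 (hQKprime p hp h)
    · exact h2 h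
  obtain ⟨S, hS⟩ := Subgroup.exists_right_complement'_of_coprime hcopK
  have hScard : Nat.card S = K.index := hS.symm.index_eq_card.symm
  have hKS : K ⊔ S = ⊤ := hS.sup_eq_top
  -- solvability of `S`
  have hQKcomm : ∀ x y : Q ⧸ K.subgroupOf Q, x * y = y * x := by
    intro x y
    obtain ⟨x, rfl⟩ := QuotientGroup.mk_surjective x
    obtain ⟨y, rfl⟩ := QuotientGroup.mk_surjective y
    rw [← QuotientGroup.mk_mul, ← QuotientGroup.mk_mul, QuotientGroup.eq, Subgroup.mem_subgroupOf]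
    refine ⟨((x * y)⁻¹ * (y * x)).2, ?_⟩
    push_cast
    rw [hmul _ (Q.inv_mem (Q.mul_mem x.2 y.2)) _ (Q.mul_mem y.2 x.2), inv_pow,
      hmul _ x.2 _ y.2, hmul _ y.2 _ x.2, hZc _ (hZu x x.2)]
    exact inv_mul_cancel _
  have hsolvK : Group.IsSolvable (Δ ⧸ K) := by
    haveI h1 : Group.IsSolvable (Q ⧸ K.subgroupOf Q) := isSolvable_of_comm hQKcomm
    refine Group.isSolvable_of_ker_le_range
      (QuotientGroup.map (K.subgroupOf Q) K Q.subtype (fun x hx => hx))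
      (QuotientGroup.map K Q (MonoidHom.id Δ) hKQ) ?_
    intro x hx
    obtain ⟨x, rfl⟩ := QuotientGroup.mk_surjective x
    have hxQ : x ∈ Q := by
      rw [MonoidHom.mem_ker] at hx
      exact (QuotientGroup.eq_one_iff x).1 hx
    exact ⟨((⟨x, hxQ⟩ : Q) : Q ⧸ K.subgroupOf Q), rfl⟩
  have hsolvS : Group.IsSolvable S := by
    have hinj : Function.Injective ((QuotientGroup.mk' K).comp S.subtype) := by
      rw [injective_iff_map_eq_one]
      intro s hs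
      have h1 : (s : Δ) ∈ K := (QuotientGroup.eq_one_iff (s : Δ)).1 hs
      have h2 : (s : Δ) ∈ K ⊓ S := ⟨h1, s.2⟩
      rw [hS.disjoint.eq_bot, Subgroup.mem_bot] at h2
      exact Subtype.ext h2
    exact Group.isSolvable_of_isSolvable_injective hinj
  -- the action of `S` on `K`
  have hSK : ∀ s ∈ S, ∀ g ∈ K, s * g * s⁻¹ ∈ K := fun s _ g hg => hKn.conj_mem g hg s
  let φ := H77.CopSub.conjHom K S hSK
  set N₀ := (Z ⊓ K).subgroupOf K with hN₀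
  letI := Fintype.ofFinite N₀
  haveI hN₀n : N₀.Normal := ⟨fun z hz x => by
    have hz' : (z : Δ) ∈ Z ⊓ K := hz
    rw [Subgroup.mem_subgroupOf]
    push_cast
    rw [← hZc _ hz'.1, mul_inv_cancel_right]; exact hz'⟩
  have hN₀Z : ∀ z : N₀, ((z : K) : Δ) ∈ Z := fun z => z.2.1
  have hφN₀ : ∀ s, ∀ k ∈ N₀, φ s k ∈ N₀ := by
    intro s k hk
    have hk' : (k : Δ) ∈ Z ⊓ K := hk
    rw [Subgroup.mem_subgroupOf, H77.CopSub.conjHom_coe, ← hZc _ hk'.1, mul_inv_cancel_right]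
    exact hk'
  let lam₀ : N₀ →* ℂˣ := lam.comp
    { toFun := fun z => ⟨((z : K) : Δ), hN₀Z z⟩
      map_one' := rfl
      map_mul' := fun _ _ => rfl }
  obtain ⟨χ, hχ1, hχ2⟩ := H77.CopOver.exists_over_inv (Nat.card S) S rfl hsolvS K
    (by rw [hScard]; exact hcopK) φ N₀ hφN₀ ⟨fun z => (lam₀ z : ℂ), isIrrCharacter_of_hom lam₀⟩ (by
      intro s z
      show ((lam₀ (restrAct φ N₀ hφN₀ s z) : ℂˣ) : ℂ) = (lam₀ z : ℂ)
      congr 2
      apply Subtype.ext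
      apply Subtype.ext
      rw [restrAct_coe, H77.CopSub.conjHom_coe, ← hZc _ (hN₀Z z), mul_inv_cancel_right])
  -- central values
  have hinert : inertia N₀ (fun z => (lam₀ z : ℂ)) = ⊤ := by
    rw [eq_top_iff]
    intro x _
    rw [mem_inertia_iff]
    intro z
    congr 2
    apply Subtype.ext
    apply Subtype.ext
    push_cast
    rw [← hZc _ (hN₀Z z), mul_inv_cancel_right]
  have hres := restrict_of_inv N₀ χ.2 (isIrrCharacter_of_hom lam₀) hinert hχ2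
  have hχz : ∀ (z : N₀) (k : K), χ.1 ((z : K) * k) = (lam₀ z : ℂ) * χ.1 k := by
    intro z k
    have h1 := congrFun hres z
    have h2 := congrFun hres 1
    rw [Pi.smul_apply, smul_eq_mul] at h1 h2
    rw [map_one, Units.val_one, mul_one] at h2
    have h3 : χ.1 ((1 : N₀) : K) = χ.1 1 := rfl
    rw [h3] at h2
    have hcen : ∀ x : K, (z : K) * x = x * z := fun x => Subtype.ext (hZc _ (hN₀Z z) x)
    rw [central_mul χ.2 hcen k, h1, ← h2]
    have h4 := irr_one_ne_zero χ.2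
    field_simp
  have hχinv : ∀ (x : Δ) (k : K), χ.1 ⟨x * k * x⁻¹, hKn.conj_mem k k.2 x⟩ = χ.1 k := by
    intro x k
    have hx : x ∈ K ⊔ S := hKS ▸ Subgroup.mem_top x
    obtain ⟨y, hy, s, hs, rfl⟩ := Subgroup.mem_sup_of_normal_left.1 hx
    have h1 := isClassFunction_of_isIrr χ.2 ⟨s * k * s⁻¹, hKn.conj_mem k k.2 s⟩ ⟨y, hy⟩
    have h2 : χ.1 ⟨s * k * s⁻¹, hKn.conj_mem k k.2 s⟩ = χ.1 k := hχ1 ⟨s, hs⟩ k
    rw [← h2, ← h1]
    refine congrArg χ.1 (Subtype.ext ?_)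
    push_cast
    group
  -- projections
  have hpKmem : ∀ q : Q, (q : Δ) * ((q : Δ) ^ u)⁻¹ ∈ K := by
    intro q
    have h1 : ((q : Δ) ^ u)⁻¹ ∈ Q := Q.inv_mem (Q.pow_mem q.2 u)
    refine ⟨Q.mul_mem q.2 h1, ?_⟩
    rw [hmul _ q.2 _ h1, inv_pow, huu _ q.2, mul_inv_cancel]
  let pK : Q →* K :=
    { toFun := fun q => ⟨(q : Δ) * ((q : Δ) ^ u)⁻¹, hpKmem q⟩
      map_one' := by
        apply Subtype.ext
        simp
      map_mul' := fun x y => by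
        apply Subtype.ext
        show (x : Δ) * y * (((x : Δ) * y) ^ u)⁻¹ = (x : Δ) * ((x : Δ) ^ u)⁻¹ * ((y : Δ) * ((y : Δ) ^ u)⁻¹)
        rw [hmul _ x.2 _ y.2, mul_inv_rev]
        have h1 := hZc _ (Z.inv_mem (hZu x x.2)) (y * ((y : Δ) ^ u)⁻¹)
        have h2 : (x : Δ) * ((x : Δ) ^ u)⁻¹ * ((y : Δ) * ((y : Δ) ^ u)⁻¹) =
            x * (((x : Δ) ^ u)⁻¹ * ((y : Δ) * ((y : Δ) ^ u)⁻¹)) := by group
        rw [h2, h1]
        group }
  have hpK : ∀ q : Q, ((pK q : K) : Δ) = (q : Δ) * ((q : Δ) ^ u)⁻¹ := fun _ => rfl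
  let pZ : Q →* Z :=
    { toFun := fun q => ⟨(q : Δ) ^ u, hZu q q.2⟩
      map_one' := Subtype.ext (one_pow u)
      map_mul' := fun x y => Subtype.ext (hmul _ x.2 _ y.2) }
  have hsurj : Function.Surjective pK := by
    intro k
    refine ⟨⟨k, hKQ k.2⟩, Subtype.ext ?_⟩
    rw [hpK]
    show (k : Δ) * ((k : Δ) ^ u)⁻¹ = k
    rw [k.2.2, inv_one, mul_one]
  let ψ : IrrCharacter Q := ⟨fun q => ((lam.comp pZ) q : ℂ) * χ.1 (pK q),
    isIrrCharacter_hom_mul (lam.comp pZ) (isIrrCharacter_comp pK hsurj χ.2)⟩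
  refine ⟨ψ, ?_, ?_⟩
  · intro x q
    have h1 : (x * q * x⁻¹) ^ u = (q : Δ) ^ u := by
      rw [conj_pow, ← hZc _ (hZu q q.2), mul_inv_cancel_right]
    show ((lam (pZ ⟨x * q * x⁻¹, _⟩) : ℂˣ) : ℂ) * χ.1 (pK ⟨x * q * x⁻¹, _⟩) =
      ((lam (pZ q) : ℂˣ) : ℂ) * χ.1 (pK q)
    have h2 : pZ ⟨x * q * x⁻¹, hQn.conj_mem q q.2 x⟩ = pZ q := Subtype.ext h1
    rw [h2, ← hχinv x (pK q)]
    congr 1
    refine congrArg χ.1 (Subtype.ext ?_)
    show x * q * x⁻¹ * ((x * q * x⁻¹) ^ u)⁻¹ = x * ((q : Δ) * ((q : Δ) ^ u)⁻¹) * x⁻¹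
    rw [h1, ← mul_assoc x, mul_assoc (x * q), mul_assoc (x * q),
      hZc _ (Z.inv_mem (hZu q q.2)) x⁻¹]
  · intro z q
    show ((lam (pZ (⟨z, hZQ z.2⟩ * q)) : ℂˣ) : ℂ) * χ.1 (pK (⟨z, hZQ z.2⟩ * q)) =
      lam z * (((lam (pZ q) : ℂˣ) : ℂ) * χ.1 (pK q))
    rw [map_mul, map_mul, map_mul]
    have hz0 : pK ⟨z, hZQ z.2⟩ ∈ N₀ := by
      rw [Subgroup.mem_subgroupOf]
      refine ⟨?_, (pK ⟨z, hZQ z.2⟩).2⟩
      rw [hpK]
      exact Z.mul_mem z.2 (Z.inv_mem (hZu z (hZQ z.2)))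
    have h1 := hχz ⟨_, hz0⟩ (pK q)
    rw [h1]
    have h2 : lam z = lam (pZ ⟨z, hZQ z.2⟩) * lam₀ ⟨_, hz0⟩ := by
      show lam z = lam (pZ ⟨z, hZQ z.2⟩) * lam ⟨((pK ⟨z, hZQ z.2⟩ : K) : Δ), _⟩
      rw [← map_mul]
      congr 1
      apply Subtype.ext
      show (z : Δ) = (z : Δ) ^ u * ((z : Δ) * ((z : Δ) ^ u)⁻¹)
      rw [hZc _ z.2 (((z : Δ) ^ u)⁻¹), mul_inv_cancel_left]
    rw [h2]
    push_cast
    ring

end H77.CentralInv2
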