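import Cfsg.Agent.Lib.H77.Garrison

/-!
# Nilpotent length and the number of degrees (H77.NilLen)
-/

set_option autoImplicit false
set_option linter.style.haveILetI false
set_option linter.unusedSectionVars false
open Cfsg

namespace H77.NilLen

open H18.CharBasic H18.CharOrtho H18.CharInd H18.CharQuot H77.PQuot

universe u

/-- `B / (A ∩ B)` is nilpotent -/
def NilSec {G : Type u} [Group G] (A B : Subgroup G) : Prop :=
  ∃ (Q : Type u) (_ : Group Q) (f : B →* Q), Group.IsNilpotent Q ∧ A.subgroupOf B = f.ker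

/-- the set of degrees -/
def cdSet (G : Type u) [Group G] : Set ℕ := {d | ∃ χ : IrrCharacter G, charDegree (χ : G → ℂ) = d}

theorem cdSet_finite {G : Type u} [Group G] [Finite G] : (cdSet G).Finite := by
  haveI : Finite (IrrCharacter G) := instFiniteIrr
  exact Set.finite_range (fun χ : IrrCharacter G => charDegree (χ : G → ℂ))

theorem degree_infl {G : Type u} [Group G] [Finite G] (K : Subgroup G) [K.Normal] (χ : IrrCharacter (G ⧸ K)) :
    ∃ ψ : IrrCharacter G, charDegree ψ.1 = charDegree χ.1 ∧ ∀ g : G, ψ.1 g = χ.1 (g : G ⧸ K) := by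
  refine ⟨⟨_, isIrrCharacter_comp (QuotientGroup.mk' K) (QuotientGroup.mk'_surjective K) χ.2⟩, ?_, fun g => rfl⟩
  have h1 := cast_irr (⟨_, isIrrCharacter_comp (QuotientGroup.mk' K) (QuotientGroup.mk'_surjective K) χ.2⟩ :
    IrrCharacter G)
  have h2 := cast_irr χ
  have h3 : ((charDegree (fun x => χ.1 (QuotientGroup.mk' K x)) : ℕ) : ℂ) = charDegree χ.1 := by
    rw [h2]
    exact h1.trans (by simp)
  exact_mod_cast h3

theorem cdSet_quot {G : Type u} [Group G] [Finite G] (K : Subgroup G) [K.Normal] :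
    cdSet (G ⧸ K) ⊆ cdSet G := by
  rintro d ⟨χ, hχ⟩
  obtain ⟨ψ, h1, -⟩ := degree_infl K χ
  exact ⟨ψ, h1.trans hχ⟩

theorem card_lt {G : Type u} [Group G] [Finite G] (hs : Group.IsSolvable G) (hF : fittingSubgroup G ≠ ⊤) :
    (cdSet (G ⧸ fittingSubgroup G)).ncard < (cdSet G).ncard := by
  classical
  apply Set.ncard_lt_ncard _ cdSet_finite
  refine ⟨cdSet_quot _, ?_⟩
  intro hsub
  -- the largest degree of G/F
  obtain ⟨b, ⟨χ, hχ⟩, hmax⟩ := Set.exists_max_image (cdSet (G ⧸ fittingSubgroup G)) id cdSet_finite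
    ⟨_, ⟨⟨fun _ => 1, isIrrCharacter_one⟩, rfl⟩⟩
  obtain ⟨ψ, h1, h2⟩ := degree_infl (fittingSubgroup G) χ
  let K := kerSub ψ.1 (isCharacter_of_isIrr ψ.2)
  have hK : ∀ g : G, g ∈ K ↔ ψ.1 g = ψ.1 1 := fun g => mem_kerSub _
  have hFK : fittingSubgroup G ≤ K := by
    intro g hg
    rw [hK, h2, h2, (QuotientGroup.eq_one_iff g).2 hg]
    rfl
  obtain ⟨η, hη, -⟩ : ∃ η : IrrCharacter G, charDegree ψ.1 < charDegree η.1 ∧
      ∃ L : Subgroup G, (∀ g : G, g ∈ L ↔ η.1 g = η.1 1) ∧ L < K := by
    by_cases hle : K ≤ fittingSubgroup G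
    · have hKF : K = fittingSubgroup G := le_antisymm hle hFK
      exact H77.Garrison.part2 K ψ.2 hK hKF inferInstance (by rw [hKF]; exact hF)
    · exact H77.Garrison.part1 K ψ.2 hK hle
  have h3 := hmax _ (hsub ⟨η, rfl⟩)
  simp only [id] at h3
  omega

theorem exists_chain (m : ℕ) : ∀ {G : Type u} [Group G] [Finite G] (_ : Nat.card G = m)
    (_ : Group.IsSolvable G) (n : ℕ) (_ : (cdSet G).ncard = n),
    ∃ N : ℕ → Subgroup G, N 0 = ⊥ ∧ N n = ⊤ ∧ Monotone N ∧ (∀ i, (N i).Normal) ∧
      ∀ i, NilSec (N i) (N (i + 1)) := by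
  induction m using Nat.strong_induction_on with
  | _ m ih =>
  intro G _ _ hm hs n hn
  classical
  have hn1 : 1 ≤ n := by
    rw [← hn]
    exact (Set.ncard_pos cdSet_finite).2 ⟨_, ⟨⟨fun _ => 1, isIrrCharacter_one⟩, rfl⟩⟩
  by_cases hF : fittingSubgroup G = ⊤
  · have hnil : Group.IsNilpotent G := by
      have h1 : Group.IsNilpotent (fittingSubgroup G) := H1.Cores.isNilpotent_fittingSubgroup
      rw [hF] at h1
      exact Group.nilpotent_of_mulEquiv Subgroup.topEquiv
    refine ⟨fun i => if i = 0 then ⊥ else ⊤, if_pos rfl, if_neg (by omega), ?_, ?_, ?_⟩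
    · intro i j hij
      by_cases hi : i = 0
      · simp only [hi, if_true]; exact bot_le
      · simp only [hi, if_false]
        rw [if_neg (by omega)]
    · intro i
      by_cases hi : i = 0
      · simp only [hi, if_true]; infer_instance
      · simp only [hi, if_false]; infer_instance
    · intro i
      by_cases hi : i = 0
      · subst hi
        simp only [if_true, Nat.zero_add, one_ne_zero, if_false]
        refine ⟨G, inferInstance, (⊤ : Subgroup G).subtype, hnil, ?_⟩
        rw [Subgroup.ker_subtype, Subgroup.bot_subgroupOf]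
      · simp only [hi, if_false]
        rw [if_neg (by omega)]
        refine ⟨G, inferInstance, 1, hnil, ?_⟩
        rw [MonoidHom.ker_one, Subgroup.subgroupOf_self]
  · by_cases hG1 : Nat.card G = 1
    · exfalso
      apply hF
      haveI : Subsingleton G := (Nat.card_eq_one_iff_unique.1 hG1).1
      exact Subsingleton.elim _ _
    have hFne : fittingSubgroup G ≠ ⊥ := by
      -- a nontrivial solvable group has a nontrivial Fitting subgroup
      haveI : Nontrivial G := by
        rw [← not_subsingleton_iff_nontrivial]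
        intro h
        exact hG1 (Nat.card_eq_one_iff_unique.2 ⟨h, ⟨1⟩⟩)
      intro hbot
      let S : Set (Subgroup G) := {N | N.Normal ∧ N ≠ ⊥}
      have hS : S.Nonempty := ⟨⊤, inferInstance, top_ne_bot⟩
      obtain ⟨M, hM⟩ := (Set.toFinite S).exists_minimal hS
      haveI := hM.prop.1
      obtain ⟨hc, -⟩ := H1.Solv.minimal_normal_elementary hs M hM.prop.2 (fun N hN hle => by
        by_cases h0 : N = ⊥
        · left; exact h0
        · right; exact le_antisymm hle (hM.le_of_le ⟨hN, h0⟩ hle))
      have h1 : Group.IsNilpotent M := by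
        letI : CommGroup M := { (inferInstance : Group M) with mul_comm := fun a b => mul_comm' a b }
        exact CommGroup.isNilpotent
      have h2 := H1.Cores.le_fittingSubgroup hM.prop.1 h1
      rw [hbot, le_bot_iff] at h2
      exact hM.prop.2 h2
    have hlt : Nat.card (G ⧸ fittingSubgroup G) < m := by
      rw [← hm, Subgroup.card_eq_card_quotient_mul_card_subgroup (fittingSubgroup G)]
      have h1 : 1 < Nat.card (fittingSubgroup G) := by
        rw [Subgroup.one_lt_card_iff_ne_bot]; exact hFne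
      have h2 : 0 < Nat.card (G ⧸ fittingSubgroup G) := Nat.card_pos
      nlinarith
    obtain ⟨N', h0, h1, hmono, hnorm, hsec⟩ := ih _ hlt (G := G ⧸ fittingSubgroup G) rfl inferInstance _ rfl
    have hcl := card_lt hs hF
    rw [hn] at hcl
    refine ⟨fun i => match i with
      | 0 => ⊥
      | (i + 1) => (N' i).comap (QuotientGroup.mk' (fittingSubgroup G)), rfl, ?_, ?_, ?_, ?_⟩
    · obtain ⟨k, rfl⟩ : ∃ k, n = k + 1 := ⟨n - 1, by omega⟩
      change (N' k).comap (QuotientGroup.mk' (fittingSubgroup G)) = ⊤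
      have h2 : N' k = ⊤ := by
        rw [eq_top_iff, ← h1]
        exact hmono (by omega)
      rw [h2, Subgroup.comap_top]
    · apply monotone_nat_of_le_succ
      intro i
      match i with
      | 0 => exact bot_le
      | (i + 1) => exact Subgroup.comap_mono (hmono (Nat.le_succ i))
    · intro i
      match i with
      | 0 => exact inferInstanceAs (⊥ : Subgroup G).Normal
      | (i + 1) => exact (hnorm i).comap _
    · intro i
      match i with
      | 0 =>
        change NilSec ⊥ ((N' 0).comap (QuotientGroup.mk' (fittingSubgroup G)))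
        rw [h0, MonoidHom.comap_bot, QuotientGroup.ker_mk']
        refine ⟨fittingSubgroup G, inferInstance, MonoidHom.id _, H1.Cores.isNilpotent_fittingSubgroup, ?_⟩
        rw [MonoidHom.ker_id, Subgroup.bot_subgroupOf]
      | (i + 1) =>
        change NilSec ((N' i).comap (QuotientGroup.mk' (fittingSubgroup G)))
          ((N' (i + 1)).comap (QuotientGroup.mk' (fittingSubgroup G)))
        obtain ⟨Q, hQ, f, hQn, hf⟩ := hsec i
        refine ⟨Q, hQ, f.comp ((QuotientGroup.mk' (fittingSubgroup G)).subgroupComap (N' (i + 1))), hQn, ?_⟩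
        ext x
        rw [MonoidHom.mem_ker, MonoidHom.comp_apply, ← MonoidHom.mem_ker, ← hf]
        rfl

theorem nil_of_sec {G : Type u} [Group G] {A B : Subgroup G} (h : NilSec A B)
    (hn : (A.subgroupOf B).Normal) : Group.IsNilpotent (B ⧸ A.subgroupOf B) := by
  obtain ⟨Q, hQ, f, hQn, hf⟩ := h
  have e1 : (B ⧸ A.subgroupOf B) ≃* (B ⧸ f.ker) := QuotientGroup.quotientMulEquivOfEq hf
  have e2 : (B ⧸ f.ker) ≃* f.range := QuotientGroup.quotientKerEquivRange f
  haveI : Group.IsNilpotent f.range := inferInstance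
  exact Group.nilpotent_of_mulEquiv (e1.trans e2).symm

end H77.NilLen
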