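import Cfsg.Agent.Lib.H77.TwoDegMain
import Cfsg.Agent.Lib.H77.NilLen
import Cfsg.Agent.S0176
import Cfsg.Agent.Lib.H77.FSCount

/-!
# Taketa's theorem (H77.Taketa)
-/

set_option autoImplicit false
set_option linter.style.haveILetI false
set_option linter.unusedSectionVars false
open Cfsg

namespace H77.Taketa

open H18.CharBasic H18.CharOrtho H18.CharInd H18.CharQuot H77.PQuot H31.Clifford H77.TwoDeg H77.NilLen

universe u

variable {G : Type u} [Group G] [Finite G]

/-- every irreducible character is induced from a linear character -/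
def MGroup (G : Type u) [Group G] [Fintype G] : Prop :=
  ∀ χ : G → ℂ, IsIrrCharacter G χ → ∃ (U : Subgroup G) (lam : U →* ℂˣ), χ = indFun U (fun h => (lam h : ℂ))

theorem linear_ker (f : G →* ℂˣ) {x : G} (hx : x ∈ commutator G) : f x = 1 := by
  have h1 : commutator G ≤ f.ker := by
    rw [commutator_def, Subgroup.commutator_le]
    intro a _ b _
    rw [MonoidHom.mem_ker, map_commutatorElement, commutatorElement_eq_one_iff_mul_comm, mul_comm]
  exact h1 hx

theorem ind_ker [Fintype G] (U : Subgroup G) (f : U →* ℂˣ) {x : G}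
    (hx : ∀ g : G, ∃ h : g * x * g⁻¹ ∈ U, f ⟨g * x * g⁻¹, h⟩ = 1) :
    indFun U (fun h => (f h : ℂ)) x = indFun U (fun h => (f h : ℂ)) 1 := by
  rw [indFun_apply', indFun_apply']
  congr 1
  refine Finset.sum_congr rfl fun g _ => ?_
  obtain ⟨h, hh⟩ := hx g
  rw [ext_mem U _ h, hh]
  have h1 : g * 1 * g⁻¹ ∈ U := by simp
  rw [ext_mem U _ h1]
  have h2 : (⟨g * 1 * g⁻¹, h1⟩ : U) = 1 := Subtype.ext (by simp)
  rw [h2, map_one]

theorem ind_one_core [Fintype G] (U : Subgroup G) {x : G}
    (hx : indFun U (fun _ => (1 : ℂ)) x = U.index) : ∀ g : G, g * x * g⁻¹ ∈ U := by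
  classical
  rw [indFun_apply'] at hx
  have h3 : ∀ g : G, extendByZero U (fun _ => (1 : ℂ)) (g * x * g⁻¹) = if g * x * g⁻¹ ∈ U then 1 else 0 := by
    intro g
    by_cases hg : g * x * g⁻¹ ∈ U
    · rw [if_pos hg, ext_mem U _ hg]
    · rw [if_neg hg, ext_notMem U _ hg]
  rw [Finset.sum_congr rfl fun g _ => h3 g, ← Finset.sum_filter, Finset.sum_const, nsmul_eq_mul, mul_one] at hx
  have hU0 : (Nat.card U : ℂ) ≠ 0 := by exact_mod_cast Nat.card_pos.ne'
  rw [inv_mul_eq_iff_eq_mul₀ hU0] at hx
  have h5 : (Finset.univ.filter fun g : G => g * x * g⁻¹ ∈ U).card = Nat.card G := by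
    rw [← Subgroup.card_mul_index U]
    exact_mod_cast hx
  have h6 : (Finset.univ.filter fun g : G => g * x * g⁻¹ ∈ U) = Finset.univ := by
    rw [← Finset.card_eq_iff_eq_univ, h5, Nat.card_eq_fintype_card]
  intro g
  have h7 : g ∈ Finset.univ.filter fun g : G => g * x * g⁻¹ ∈ U := by rw [h6]; exact Finset.mem_univ g
  exact (Finset.mem_filter.1 h7).2

theorem aux [Fintype G] (hM : MGroup G) (d : ℕ) : ∀ χ : IrrCharacter G, charDegree χ.1 = d →
    ∀ x ∈ derivedSeries G ({e ∈ cdSet G | e ≤ d}.ncard), χ.1 x = χ.1 1 := by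
  induction d using Nat.strong_induction_on with
  | _ d ih =>
  intro χ hχ x hx
  classical
  haveI : Finite (IrrCharacter G) := instFiniteIrr
  letI := Fintype.ofFinite (IrrCharacter G)
  have hfin : {e ∈ cdSet G | e ≤ d}.Finite := cdSet_finite.subset (Set.sep_subset _ _)
  have hn1 : 1 ≤ {e ∈ cdSet G | e ≤ d}.ncard := (Set.ncard_pos hfin).2 ⟨d, ⟨χ, hχ⟩, le_rfl⟩
  obtain ⟨U, lam, hU⟩ := hM χ.1 χ.2
  letI := Fintype.ofFinite U
  have hUd : U.index = d := by
    have h1 := cast_irr χ
    rw [hχ] at h1
    have h2 := congrFun hU 1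
    rw [indFun_one, map_one, Units.val_one, mul_one] at h2
    rw [h2] at h1
    exact_mod_cast h1.symm
  by_cases hd1 : d = 1
  · -- linear
    obtain ⟨f, hf⟩ := exists_hom_of_degree_one (isCharacter_of_isIrr χ.2)
      (by rw [← cast_irr χ, hχ, hd1, Nat.cast_one])
    rw [hf]
    have h1 : x ∈ commutator G := by
      have h2 : derivedSeries G ({e ∈ cdSet G | e ≤ d}.ncard) ≤ derivedSeries G 1 :=
        derivedSeries_antitone G hn1
      rw [derivedSeries_one] at h2
      exact h2 hx
    change ((f x : ℂˣ) : ℂ) = ((f 1 : ℂˣ) : ℂ)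
    rw [linear_ker f h1, map_one]
  · obtain ⟨n, hn⟩ : ∃ n, {e ∈ cdSet G | e ≤ d}.ncard = n + 1 := ⟨_, (Nat.sub_add_cancel hn1).symm⟩
    rw [hn] at hx
    have hdpos : 0 < d := by rw [← hUd]; exact Nat.pos_of_ne_zero Subgroup.index_ne_zero_of_finite
    -- constituents of `1_U^G`
    have hone : IsCharacter U (fun _ => (1 : ℂ)) := isCharacter_of_isIrr isIrrCharacter_one
    have hπ : IsCharacter G (indFun U (fun _ => (1 : ℂ))) := isCharacter_ind U hone
    have h1G : classInner (indFun U (fun _ => (1 : ℂ))) (fun _ => (1 : ℂ)) = 1 := by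
      rw [frobenius U _ (isClassFunction_of_isIrr isIrrCharacter_one)]
      exact inner_irr_self isIrrCharacter_one
    have hsub := H77.SubChar.sub_isCharacter hπ (isIrrCharacter_one (G := G)) (by rw [h1G]; exact one_ne_zero)
    have hsmall : ∀ ψ : IrrCharacter G, classInner (indFun U (fun _ => (1 : ℂ))) ψ.1 ≠ 0 →
        charDegree ψ.1 < d := by
      intro ψ hψ
      by_cases hψ1 : ψ.1 = fun _ => 1
      · have h2 := cast_irr ψ
        rw [hψ1] at h2
        have h2' : ((charDegree (fun _ : G => (1 : ℂ)) : ℕ) : ℂ) = 1 := h2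
        have h3 : charDegree ψ.1 = 1 := by
          rw [hψ1]; exact_mod_cast h2'
        omega
      · have h2 : classInner (indFun U (fun _ => (1 : ℂ)) - fun _ => (1 : ℂ)) ψ.1 ≠ 0 := by
          rw [H18.CharOrtho.inner_sub_left,
            inner_irr_ne (isIrrCharacter_one (G := G)) ψ.2 (fun h => hψ1 h.symm), sub_zero]
          exact hψ
        have h3 := H77.SubChar.degree_le hsub ψ.2 h2 (a := d - 1) (b := charDegree ψ.1)
          (by
            rw [Pi.sub_apply, indFun_one, mul_one, hUd, Nat.cast_sub hdpos, Nat.cast_one])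
          (cast_irr ψ).symm
        omega
    have hD : ∀ y ∈ derivedSeries G n, ∀ g : G, g * y * g⁻¹ ∈ U := by
      intro y hy
      apply ind_one_core
      have h2 := H4.CharOrth.classFunction_eq_sum (isClassFunction_of_isCharacter hπ)
      have h3 := congrFun h2 y
      have h4 := congrFun h2 1
      rw [Finset.sum_apply] at h3 h4
      rw [indFun_one, mul_one] at h4
      rw [h3, h4]
      refine Finset.sum_congr rfl fun ψ _ => ?_
      rw [Pi.smul_apply, Pi.smul_apply]
      by_cases h0 : classInner (indFun U (fun _ => (1 : ℂ))) ψ.1 = 0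
      · rw [h0, zero_smul, zero_smul]
      · congr 1
        have h5 := hsmall ψ h0
        refine ih _ h5 ψ rfl y ?_
        have h6 : {e ∈ cdSet G | e ≤ charDegree ψ.1}.ncard < {e ∈ cdSet G | e ≤ d}.ncard := by
          apply Set.ncard_lt_ncard _ hfin
          refine ⟨fun e he => ⟨he.1, he.2.trans h5.le⟩, fun hsub => ?_⟩
          have h7 : d ∈ {e ∈ cdSet G | e ≤ charDegree ψ.1} := hsub ⟨⟨χ, hχ⟩, le_rfl⟩
          exact absurd h7.2 (not_le.2 h5)
        exact derivedSeries_antitone G (by omega) hy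
    -- the next term
    rw [hU]
    apply ind_ker
    have hnorm : (derivedSeries G (n + 1)).Normal := inferInstance
    intro g
    have hxg : g * x * g⁻¹ ∈ derivedSeries G (n + 1) := hnorm.conj_mem x hx g
    have hle : derivedSeries G n ≤ U := by
      intro y hy
      have := hD y hy 1
      simpa using this
    have hle2 : derivedSeries G (n + 1) ≤ (commutator U).map U.subtype := by
      rw [derivedSeries_succ, commutator_def, Subgroup.map_commutator, ← MonoidHom.range_eq_map,
        Subgroup.range_subtype]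
      exact Subgroup.commutator_mono hle hle
    obtain ⟨u, hu, hux⟩ := hle2 hxg
    have huU : g * x * g⁻¹ ∈ U := by rw [← hux]; exact u.2
    refine ⟨huU, ?_⟩
    have : (⟨g * x * g⁻¹, huU⟩ : U) = u := Subtype.ext hux.symm
    rw [this]
    exact linear_ker lam hu

/-- Taketa's theorem -/
theorem taketa [Fintype G] (hM : MGroup G) : derivedSeries G (cdSet G).ncard = ⊥ := by
  rw [eq_bot_iff]
  intro x hx
  rw [Subgroup.mem_bot]
  have key : ∀ χ : IrrCharacter G, (χ : G → ℂ) x = (χ : G → ℂ) 1 := by
    intro χ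
    refine aux hM _ χ rfl x ?_
    exact derivedSeries_antitone G (Set.ncard_le_ncard (Set.sep_subset _ _) cdSet_finite) hx
  have h1 : IsConj x 1 := (H4.CharCount.isConj_iff_irr _ _).2 key
  exact isConj_one_right.1 h1.symm

theorem mgroup_of_nilpotent [Fintype G] (h : Group.IsNilpotent G) : MGroup G := by
  intro χ hχ
  exact Cfsg.Agent.S0176.result χ hχ

theorem two_deg (m : ℕ) (hm1 : m ≠ 1)
    (hcd : ∀ χ : IrrCharacter G, charDegree χ.1 = 1 ∨ charDegree χ.1 = m)
    (hm : ∃ χ : IrrCharacter G, charDegree χ.1 = m) : derivedSeries G 2 = ⊥ := by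
  classical
  letI := Fintype.ofFinite G
  rcases H77.TwoDegMain.main m hm1 hcd hm with ⟨A, hA, hab, hi⟩ | ⟨p, e, hp, he, P, A, hP, hA, hPp, hab, hPA, hPA'⟩
  · -- `G/A` is abelian
    letI := Fintype.ofFinite (G ⧸ A)
    have h1 : ∀ χ : IrrCharacter (G ⧸ A), charDegree χ.1 = 1 := by
      intro χ
      obtain ⟨ψ, hψ, -⟩ := infl_degree A χ
      rcases hcd ψ with h | h
      · rw [← hψ]; exact h
      · exfalso
        haveI : Finite (IrrCharacter (G ⧸ A)) := instFiniteIrr
        letI := Fintype.ofFinite (IrrCharacter (G ⧸ A))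
        have h2 := H77.FSCount.sum_sq (G := G ⧸ A)
        have h3 : charDegree χ.1 ^ 2 ≤ Nat.card (G ⧸ A) := by
          rw [← h2]
          exact Finset.single_le_sum (f := fun χ : IrrCharacter (G ⧸ A) => charDegree χ.1 ^ 2)
            (fun _ _ => Nat.zero_le _) (Finset.mem_univ χ)
        have h4 : Nat.card (G ⧸ A) = m := hi
        rw [h4, ← hψ, h] at h3
        have hm0 : 0 < m := by rw [← hi]; exact Nat.pos_of_ne_zero Subgroup.index_ne_zero_of_finite
        have h5 : m * m ≤ m * 1 := by rw [mul_one, ← sq]; exact h3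
        have h6 := Nat.le_of_mul_le_mul_left h5 hm0
        omega
    have h2 := comm_of_linear' h1
    have h3 : commutator G ≤ A := by
      rw [commutator_def, Subgroup.commutator_le]
      intro a _ b _
      rw [← QuotientGroup.eq_one_iff, commutatorElement_def, QuotientGroup.mk_mul, QuotientGroup.mk_mul,
        QuotientGroup.mk_mul, h2 (a : G ⧸ A) b, QuotientGroup.mk_inv, QuotientGroup.mk_inv]
      group
    rw [eq_bot_iff, derivedSeries_succ, derivedSeries_one, Subgroup.commutator_le]
    intro a ha b hb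
    rw [Subgroup.mem_bot, commutatorElement_eq_one_iff_mul_comm]
    exact hab a (h3 ha) b (h3 hb)
  · haveI := Fact.mk hp
    have hnil : Group.IsNilpotent G := by
      have h1 : P ≤ fittingSubgroup G := H1.Cores.le_fittingSubgroup hP hPp.isNilpotent
      have h2 : Group.IsNilpotent A := by
        letI : CommGroup A := { (inferInstance : Group A) with
          mul_comm := fun a b => Subtype.ext (hab a a.2 b b.2) }
        exact CommGroup.isNilpotent
      have h3 : A ≤ fittingSubgroup G := H1.Cores.le_fittingSubgroup hA h2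
      have h4 : fittingSubgroup G = ⊤ := by
        rw [eq_top_iff, ← hPA']; exact sup_le h1 h3
      have h5 : Group.IsNilpotent (fittingSubgroup G) := H1.Cores.isNilpotent_fittingSubgroup
      rw [h4] at h5
      exact Group.nilpotent_of_mulEquiv Subgroup.topEquiv
    have h1 := taketa (mgroup_of_nilpotent hnil)
    have h2 : (cdSet G).ncard = 2 := by
      have h3 : cdSet G = {1, m} := by
        ext d
        simp only [cdSet, Set.mem_ofPred_eq, Set.mem_insert_iff, Set.mem_singleton_iff]
        constructor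
        · rintro ⟨χ, rfl⟩; exact hcd χ
        · rintro (rfl | rfl)
          · refine ⟨⟨_, isIrrCharacter_one⟩, ?_⟩
            have h4 := cast_irr (⟨_, isIrrCharacter_one⟩ : IrrCharacter G)
            have h5 : ((charDegree (⟨_, isIrrCharacter_one⟩ : IrrCharacter G).1 : ℕ) : ℂ) = 1 := h4
            exact_mod_cast h5
          · exact hm
      rw [h3]
      exact Set.ncard_pair (Ne.symm hm1)
    rw [h2] at h1
    exact h1

end H77.Taketa
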