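import Cfsg.Agent.Lib.H77.TwoDeg
import Cfsg.Agent.Lib.H77.Taketa
import Cfsg.Agent.Lib.H4.CenterIndex

/-!
# Groups with character degrees {1, p}, p prime (helper77)
-/

set_option autoImplicit false
set_option linter.style.haveILetI false
set_option linter.unusedSectionVars false
set_option linter.unusedVariables false
open Cfsg

namespace H77.DegP

open H18.CharBasic H18.CharOrtho H18.CharInd H18.CharQuot H77.PQuot H31.Clifford H77.GlPerm
open H77.TwoDeg

universe u

section stab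

variable {G : Type u} [Group G] [Finite G] (A : Subgroup G) [hA : A.Normal]

/-- stabilizer of a linear character of a normal subgroup -/
def stab (l : A →* ℂˣ) : Subgroup G where
  carrier := {g | cjh A g l = l}
  one_mem' := cjh_one A l
  mul_mem' := by
    intro a b ha hb
    show cjh A (a * b) l = l
    rw [← cjh_mul, ha, hb]
  inv_mem' := by
    intro a ha
    show cjh A a⁻¹ l = l
    have h1 : cjh A a l = l := ha
    conv_lhs => rw [← h1]
    rw [cjh_mul, mul_inv_cancel, cjh_one]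

theorem mem_stab {l : A →* ℂˣ} {g : G} : g ∈ stab A l ↔ cjh A g l = l := Iff.rfl

theorem stab_mem {l : A →* ℂˣ} {g : G} (h : g ∈ stab A l) (a : A) :
    l ⟨g * a * g⁻¹, hA.conj_mem a a.2 g⟩ = l a := by
  have h1 := DFunLike.congr_fun h a
  exact h1

variable (hab : ∀ a ∈ A, ∀ b ∈ A, a * b = b * a)
include hab

theorem cjh_mem (l : A →* ℂˣ) {g : G} (hg : g ∈ A) : cjh A g l = l := by
  ext n
  rw [cjh_apply]
  congr 2
  apply Subtype.ext
  show g * n * g⁻¹ = (n : G)
  rw [hab g hg n n.2, mul_inv_cancel_right]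

theorem le_stab (l : A →* ℂˣ) : A ≤ stab A l := fun _ hg => cjh_mem A hab l hg

theorem key (p : ℕ) (hp : p.Prime)
    (hcd : ∀ χ : IrrCharacter G, charDegree χ.1 = 1 ∨ charDegree χ.1 = p)
    (l : A →* ℂˣ) (hl : stab A l ≠ ⊤) :
    (stab A l).index = p ∧ ∃ f : stab A l →* ℂˣ, ∀ (a : G) (ha : a ∈ A),
      f ⟨a, le_stab A hab l ha⟩ = l ⟨a, ha⟩ := by
  classical
  letI := Fintype.ofFinite G
  letI := Fintype.ofFinite A
  letI := Fintype.ofFinite (stab A l)
  have hlam : IsIrrCharacter A (fun a => (l a : ℂ)) := by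
    have h1 := isIrrCharacter_hom_mul l (isIrrCharacter_one (G := A))
    have h2 : (fun a => (l a : ℂ) * (1 : ℂ)) = fun a => (l a : ℂ) := by
      funext a; rw [mul_one]
    rwa [h2] at h1
  obtain ⟨χ, hχ, h1⟩ := exists_over A hlam
  obtain ⟨ψ, hψ, h2, h3, h4⟩ := H4.CenterIndex.exists_corr A hχ hlam h1 (stab A l)
    (le_stab A hab l) (fun g => by
      rw [mem_stab]
      constructor
      · intro h
        funext a
        exact congrArg (fun z : ℂˣ => (z : ℂ)) (DFunLike.congr_fun h a)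
      · intro h
        ext a
        exact congrFun h a)
  obtain ⟨e, he0, he⟩ := exists_degree_pos hψ
  have h5 : charDegree χ = (stab A l).index * e := by
    have h6 := cast_irr' hχ
    rw [← h3, indFun_one, he] at h6
    rw [← h3]
    exact_mod_cast h6
  have h6 : (stab A l).index ≠ 1 := fun h => hl (Subgroup.index_eq_one.1 h)
  have h7 : (stab A l).index * e = p := by
    rcases hcd ⟨χ, hχ⟩ with h | h
    · exfalso
      change charDegree χ = 1 at h
      rw [h5] at h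
      exact h6 (Nat.eq_one_of_mul_eq_one_right h)
    · rw [← h5]; exact h
  have h8 : (stab A l).index = p := by
    rcases (Nat.dvd_prime hp).1 (Dvd.intro _ h7) with h | h
    · exact absurd h h6
    · exact h
  have h9 : e = 1 := by
    rw [h8] at h7
    exact Nat.eq_of_mul_eq_mul_left hp.pos (by rw [h7, mul_one])
  refine ⟨h8, ?_⟩
  rw [h9, Nat.cast_one] at he
  obtain ⟨f, hf⟩ := exists_hom_of_degree_one (isCharacter_of_isIrr hψ) he
  refine ⟨f, ?_⟩
  intro a ha
  have e1 := congrFun h4 ⟨a, ha⟩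
  have e2 := congrFun h4 1
  simp only [resH_apply, Pi.smul_apply, smul_eq_mul, map_one, Units.val_one, mul_one] at e1 e2
  have e3 : classInner (resH (le_stab A hab l) ψ) (fun a => (l a : ℂ)) = 1 := by
    rw [← e2]; exact he
  rw [e3, one_mul, hf] at e1
  exact Units.ext e1

end stab


section tools

/-- separation of points from subgroups in finite abelian groups -/
theorem exists_sep {B : Type u} [Group B] [Finite B] (hB : ∀ x y : B, x * y = y * x)
    (D : Subgroup B) {x : B} (hx : x ∉ D) : ∃ l : B →* ℂˣ, (∀ d ∈ D, l d = 1) ∧ l x ≠ 1 := by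
  haveI : D.Normal := ⟨fun n hn g => by rw [hB g n, mul_inv_cancel_right]; exact hn⟩
  have h1 : (x : B ⧸ D) ∉ commutator (B ⧸ D) := by
    have h2 : commutator (B ⧸ D) = ⊥ := by
      rw [commutator_def, Subgroup.commutator_eq_bot_iff_le_centralizer]
      intro y _
      rw [Subgroup.mem_centralizer_iff]
      intro z _
      obtain ⟨y, rfl⟩ := QuotientGroup.mk_surjective y
      obtain ⟨z, rfl⟩ := QuotientGroup.mk_surjective z
      rw [← QuotientGroup.mk_mul, ← QuotientGroup.mk_mul, hB]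
    rw [h2, Subgroup.mem_bot, QuotientGroup.eq_one_iff]
    exact hx
  obtain ⟨f, hf⟩ := exists_hom_ne_one h1
  refine ⟨f.comp (QuotientGroup.mk' D), fun d hd => ?_, hf⟩
  rw [MonoidHom.comp_apply, QuotientGroup.mk'_apply, (QuotientGroup.eq_one_iff d).2 hd, map_one]

theorem exists_sep_one {B : Type u} [Group B] [Finite B] (hB : ∀ x y : B, x * y = y * x)
    {x : B} (hx : x ≠ 1) : ∃ l : B →* ℂˣ, l x ≠ 1 := by
  obtain ⟨l, _, h⟩ := exists_sep hB ⊥ (x := x) (by rwa [Subgroup.mem_bot])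
  exact ⟨l, h⟩

theorem exists_root {p : ℕ} (hp : p.Prime) {z x : ℂˣ} (hz : z ^ p = 1) (hx : x ^ p = 1)
    (hx1 : x ≠ 1) : ∃ i : ℕ, z * x ^ i = 1 := by
  haveI : Fact p.Prime := ⟨hp⟩
  have h1 : orderOf x = p := orderOf_eq_prime hx hx1
  have h2 : IsPrimitiveRoot x p := by
    rw [← h1]; exact IsPrimitiveRoot.orderOf x
  haveI : NeZero p := ⟨hp.ne_zero⟩
  have h3 : ((z⁻¹ : ℂˣ) : ℂ) ^ p = 1 := by
    rw [← Units.val_pow_eq_pow_val, inv_pow, hz, inv_one, Units.val_one]
  obtain ⟨i, _, hi⟩ := (IsPrimitiveRoot.coe_units_iff.2 h2).eq_pow_of_pow_eq_one h3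
  refine ⟨i, ?_⟩
  have h4 : x ^ i = z⁻¹ := Units.ext (by rw [Units.val_pow_eq_pow_val]; exact hi)
  rw [h4, mul_inv_cancel]

/-- a normal subgroup of prime index -/
theorem exists_pow_mem {G : Type u} [Group G] {p : ℕ} (hp : p.Prime) (N : Subgroup G) [N.Normal]
    (hN : N.index = p) {y : G} (hy : y ∉ N) (s : G) : ∃ j : ℕ, s * y ^ j ∈ N := by
  classical
  haveI : Fact p.Prime := ⟨hp⟩
  have h1 : Nat.card (G ⧸ N) = p := hN
  haveI : Finite (G ⧸ N) := Nat.finite_of_card_ne_zero (by rw [h1]; exact hp.ne_zero)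
  have h2 : (y : G ⧸ N) ≠ 1 := fun h => hy ((QuotientGroup.eq_one_iff y).1 h)
  have h3 : ((s⁻¹ : G) : G ⧸ N) ∈ Subgroup.zpowers (y : G ⧸ N) := mem_zpowers_of_prime_card h1 h2
  rw [mem_zpowers_iff_mem_range_orderOf] at h3
  obtain ⟨j, _, hj⟩ := Finset.mem_image.1 h3
  refine ⟨j, ?_⟩
  rw [← QuotientGroup.eq_one_iff, QuotientGroup.mk_mul, QuotientGroup.mk_pow]
  change (s : G ⧸ N) * (y : G ⧸ N) ^ j = 1
  have hj' : (y : G ⧸ N) ^ j = ((s⁻¹ : G) : G ⧸ N) := hj
  rw [hj', QuotientGroup.mk_inv, mul_inv_cancel]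

theorem eig {Q : Type u} [CommGroup Q] {p : ℕ} (hp : p.Prime) (hQ : ∀ q : Q, q ^ p = 1)
    (L : Q →* Q) (h : ∀ q, ∃ j : ℤ, L q = q ^ j) : ∃ c : ℤ, ∀ q, L q = q ^ c := by
  haveI : Fact p.Prime := ⟨hp⟩
  letI : Module (ZMod p) (Additive Q) := AddCommGroup.zmodModule (n := p) (fun x => hQ x.toMul)
  let L' : Additive Q →ₗ[ZMod p] Additive Q := (MonoidHom.toAdditive L).toZModLinearMap p
  obtain ⟨c, hc⟩ := LinearMap.exists_eq_smul_id_of_forall_notLinearIndependent (f := L') (by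
    intro v hv
    obtain ⟨j, hj⟩ := h v.toMul
    have h1 : L' v = (j : ZMod p) • v := by
      rw [Int.cast_smul_eq_zsmul]
      exact congrArg Additive.ofMul hj
    rw [LinearIndependent.pair_iff] at hv
    have h2 := (hv (-(j : ZMod p)) 1 (by rw [h1, one_smul, neg_smul, neg_add_cancel])).2
    exact one_ne_zero h2)
  refine ⟨(c.val : ℕ), fun q => ?_⟩
  have h1 : L' (Additive.ofMul q) = c • (Additive.ofMul q) := by rw [hc]; rfl
  have h2 : c • (Additive.ofMul q) = (c.val : ℕ) • (Additive.ofMul q) := by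
    rw [← Nat.cast_smul_eq_nsmul (ZMod p), ZMod.natCast_zmod_val]
  rw [h2] at h1
  rw [zpow_natCast]
  exact congrArg Additive.toMul h1

theorem eig' {G : Type u} [Group G] {Q : Type u} [CommGroup Q] {p : ℕ} (hp : p.Prime)
    (f₁ f₂ : G →* Q) (hQ : ∀ h, f₁ h ^ p = 1) (h : ∀ x, ∃ j : ℤ, f₂ x = f₁ x ^ j) :
    ∃ c : ℤ, ∀ x, f₂ x = f₁ x ^ c := by
  have h1 : ∀ x, f₂ x ∈ f₁.range := fun x => by
    obtain ⟨j, hj⟩ := h x
    rw [hj]
    exact Subgroup.zpow_mem _ (MonoidHom.mem_range.2 ⟨x, rfl⟩) j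
  let f₂' : G →* f₁.range := f₂.codRestrict f₁.range h1
  have hker : f₁.rangeRestrict.ker ≤ f₂'.ker := by
    intro x hx
    rw [MonoidHom.mem_ker] at hx ⊢
    have hx' : f₁ x = 1 := congrArg Subtype.val hx
    apply Subtype.ext
    change f₂ x = 1
    obtain ⟨j, hj⟩ := h x
    rw [hj, hx', one_zpow]
  let L : f₁.range →* f₁.range :=
    (f₁.rangeRestrict).liftOfSurjective f₁.rangeRestrict_surjective ⟨f₂', hker⟩
  have hL : ∀ x, L (f₁.rangeRestrict x) = f₂' x := fun x =>
    MonoidHom.liftOfRightInverse_comp_apply _ _ _ _ x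
  obtain ⟨c, hc⟩ := eig hp (Q := f₁.range) (by
    rintro ⟨_, x, rfl⟩
    exact Subtype.ext (hQ x)) L (by
    rintro ⟨_, x, rfl⟩
    obtain ⟨j, hj⟩ := h x
    refine ⟨j, ?_⟩
    have := hL x
    apply Subtype.ext
    refine (congrArg Subtype.val this).trans ?_
    exact hj)
  refine ⟨c, fun x => ?_⟩
  have h2 := hc (f₁.rangeRestrict x)
  rw [hL] at h2
  exact congrArg Subtype.val h2

end tools

end H77.DegP
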