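import Cfsg.Agent.Lib.H77.DegP

/-!
# Groups with character degrees {1, p}, p prime: the structure of A (helper77)
-/

set_option autoImplicit false
set_option linter.style.haveILetI false
set_option linter.unusedSectionVars false
set_option linter.unusedVariables false
open Cfsg

namespace H77.DegP

open H77.TwoDeg

open scoped commutatorElement

universe u

section part2

variable {G : Type u} [Group G] [Finite G] (A : Subgroup G) [hA : A.Normal]

/-- `[l, g] = l^g / l` -/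
def br (l : A →* ℂˣ) (g : G) : A →* ℂˣ := cjh A g l * l⁻¹

theorem hom_mul_inv {B : Type u} [Group B] (f g : B →* ℂˣ) : f * g⁻¹ = 1 ↔ f = g := by
  constructor
  · intro h
    ext b
    have h1 : f b * (g b)⁻¹ = 1 := DFunLike.congr_fun h b
    rw [mul_inv_eq_one.1 h1]
  · rintro rfl
    ext b
    change ((f b * (f b)⁻¹ : ℂˣ) : ℂ) = ((1 : ℂˣ) : ℂ)
    rw [mul_inv_cancel]

theorem hom_eq_inv {B : Type u} [Group B] {f g : B →* ℂˣ} (h : f * g = 1) : f = g⁻¹ := by
  ext b
  have h1 : f b * g b = 1 := DFunLike.congr_fun h b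
  change ((f b : ℂˣ) : ℂ) = (((g b)⁻¹ : ℂˣ) : ℂ)
  rw [eq_inv_of_mul_eq_one_left h1]

theorem hom_inv_inv {B : Type u} [Group B] (f : B →* ℂˣ) : (f⁻¹)⁻¹ = f := by
  ext b
  change (((f b)⁻¹⁻¹ : ℂˣ) : ℂ) = _
  rw [inv_inv]

theorem br_one_iff {l : A →* ℂˣ} {g : G} : br A l g = 1 ↔ g ∈ stab A l :=
  hom_mul_inv _ _

theorem br_apply (l : A →* ℂˣ) (g : G) (b : A) :
    br A l g b = l ⟨g * b * g⁻¹, hA.conj_mem b b.2 g⟩ * (l b)⁻¹ := rfl

theorem br_mul_self (l : A →* ℂˣ) (g : G) : br A l g * l = cjh A g l := by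
  ext b
  change ((cjh A g l b * (l b)⁻¹ * l b : ℂˣ) : ℂ) = _
  rw [inv_mul_cancel_right]

variable (hab : ∀ a ∈ A, ∀ b ∈ A, a * b = b * a) (hcomm : ∀ g h : G, ⁅g, h⁆ ∈ A)

include hab hcomm

theorem cjh_comm (a b : G) (l : A →* ℂˣ) : cjh A (a * b) l = cjh A (b * a) l := by
  have h1 : a * b = ⁅a, b⁆ * (b * a) := by rw [commutatorElement_def]; group
  rw [h1, ← cjh_mul, cjh_mem A hab l (hcomm a b)]

theorem stab_normal (l : A →* ℂˣ) : (stab A l).Normal := by
  refine ⟨fun n hn g => ?_⟩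
  have h1 : g * n * g⁻¹ = ⁅g, n⁆ * n := by rw [commutatorElement_def]; group
  rw [h1]
  exact (stab A l).mul_mem (le_stab A hab l (hcomm g n)) hn

theorem br_stab (l : A →* ℂˣ) {t : G} (ht : t ∈ stab A l) (g : G) :
    cjh A t (br A l g) = br A l g := by
  rw [br, cjh_hmul, cjh_inv, cjh_mul, cjh_comm A hab hcomm g t l, ← cjh_mul, (mem_stab A).1 ht]

theorem br_mul_left {l : A →* ℂˣ} {t : G} (ht : t ∈ stab A l) (s : G) :
    br A l (t * s) = br A l s := by
  rw [br, br, ← cjh_mul, (mem_stab A).1 ht]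

variable {p : ℕ} (hp : p.Prime)
  (hidx : ∀ l : A →* ℂˣ, stab A l ≠ ⊤ → (stab A l).index = p)
include hp hidx

theorem not_le {l m : A →* ℂˣ} (hl : stab A l ≠ ⊤) (hm : stab A m ≠ ⊤)
    (hne : stab A l ≠ stab A m) : ¬ stab A l ≤ stab A m := by
  intro h
  rcases h.lt_or_eq with h | h
  · have := Subgroup.index_strictAnti h
    rw [hidx l hl, hidx m hm] at this
    exact lt_irrefl _ this
  · exact hne h

theorem sup_top {l m : A →* ℂˣ} (hl : stab A l ≠ ⊤) (hm : stab A m ≠ ⊤)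
    (hne : stab A l ≠ stab A m) : stab A l ⊔ stab A m = ⊤ := by
  have h1 := Subgroup.relIndex_mul_index (le_sup_left : stab A l ≤ stab A l ⊔ stab A m)
  rw [hidx l hl] at h1
  rcases (Nat.dvd_prime hp).1 (Dvd.intro_left _ h1) with h | h
  · exact Subgroup.index_eq_one.1 h
  · exfalso
    rw [h] at h1
    have h2 : (stab A l).relIndex (stab A l ⊔ stab A m) = 1 :=
      Nat.eq_of_mul_eq_mul_right hp.pos (by rw [h1, one_mul])
    have h3 : stab A m ≤ stab A l := le_sup_right.trans (Subgroup.relIndex_eq_one.1 h2)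
    exact not_le A hab hcomm hp hidx hm hl (Ne.symm hne) h3

theorem br_swap {l m : A →* ℂˣ} (hl : stab A l ≠ ⊤) (hm : stab A m ≠ ⊤)
    (hne : stab A l ≠ stab A m) (g : G) :
    (∃ h, br A l g = br A m h) ∧ ∀ x, cjh A x (br A l g) = br A l g := by
  haveI := stab_normal A hab hcomm l
  haveI := stab_normal A hab hcomm m
  have htop := sup_top A hab hcomm hp hidx hl hm hne
  have hg : g ∈ ((stab A l ⊔ stab A m : Subgroup G) : Set G) := by rw [htop]; trivial
  rw [Subgroup.mul_normal] at hg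
  obtain ⟨t, ht, s, hs, rfl⟩ := Set.mem_mul.1 hg
  rw [br_mul_left A hab hcomm ht]
  by_cases hsl : s ∈ stab A l
  · have h1 : br A l s = 1 := (br_one_iff A).2 hsl
    rw [h1]
    refine ⟨⟨1, ?_⟩, fun x => ?_⟩
    · exact ((br_one_iff A).2 (stab A m).one_mem).symm
    · ext b
      rfl
  · obtain ⟨y, hyl, hym⟩ := Set.not_subset.1 (not_le A hab hcomm hp hidx hl hm hne)
    have hlm : y ∉ stab A (l * m) := by
      intro h
      apply hym
      have h1 : cjh A y l * cjh A y m = l * m := h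
      rw [(mem_stab A).1 hyl] at h1
      exact mul_left_cancel h1
    have hlm' : stab A (l * m) ≠ ⊤ := fun h => hlm (by rw [h]; trivial)
    haveI := stab_normal A hab hcomm (l * m)
    obtain ⟨j, hj⟩ := exists_pow_mem hp (stab A (l * m)) (hidx _ hlm') hlm s
    have hyj : y ^ j ∈ stab A l := (stab A l).pow_mem hyl j
    have h1 : cjh A s l * cjh A (y ^ j) m = l * m := by
      have h2 : cjh A (s * y ^ j) l * cjh A (s * y ^ j) m = l * m := hj
      rw [cjh_comm A hab hcomm s (y ^ j) l, ← cjh_mul A (y ^ j) s l, (mem_stab A).1 hyj,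
        ← cjh_mul A s (y ^ j) m, (mem_stab A).1 hs] at h2
      exact h2
    have h2 : br A l s * br A m (y ^ j) = 1 := by
      have h3 : br A l s * br A m (y ^ j) = (cjh A s l * cjh A (y ^ j) m) * (l * m)⁻¹ := by
        rw [br, br]
        ext b
        simp only [MonoidHom.mul_apply, MonoidHom.inv_apply, mul_inv]
        push_cast
        ring
      rw [h3, h1, hom_mul_inv]
    have h3 : br A l s = (br A m (y ^ j))⁻¹ := hom_eq_inv h2
    have h4 : ∀ x, cjh A x (br A l s) = br A l s := by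
      intro x
      have h5 : stab A l ⊔ stab A m ≤ stab A (br A l s) := by
        apply sup_le
        · intro t ht
          exact br_stab A hab hcomm l ht s
        · intro t ht
          rw [mem_stab, h3, cjh_inv, br_stab A hab hcomm m ht]
      rw [htop] at h5
      exact h5 (Subgroup.mem_top x)
    refine ⟨⟨(y ^ j)⁻¹, ?_⟩, h4⟩
    have h5 : cjh A (y ^ j)⁻¹ (br A m (y ^ j)) = br A m (y ^ j) := by
      have h6 : br A m (y ^ j) = (br A l s)⁻¹ := by rw [h3, hom_inv_inv]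
      rw [h6, cjh_inv, h4]
    have h6 : cjh A (y ^ j)⁻¹ (br A m (y ^ j)) = (br A m (y ^ j)⁻¹)⁻¹ := by
      rw [br, br, cjh_hmul, cjh_inv, cjh_mul, mul_inv_cancel, cjh_one]
      ext b
      simp only [MonoidHom.mul_apply, MonoidHom.inv_apply, mul_inv, inv_inv]
      rw [mul_comm]
    rw [h3, ← h5, h6, hom_inv_inv]

/-- all commutators `[n, g]` lie in one set -/
theorem br_all {l m : A →* ℂˣ} (hl : stab A l ≠ ⊤) (hm : stab A m ≠ ⊤)
    (hne : stab A l ≠ stab A m) (n : A →* ℂˣ) (g : G) : ∃ h, br A n g = br A l h := by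
  by_cases hn : stab A n = ⊤
  · refine ⟨1, ?_⟩
    rw [(br_one_iff A).2 (by rw [hn]; trivial), (br_one_iff A).2 (stab A l).one_mem]
  · by_cases h1 : stab A n = stab A l
    · have h2 : stab A n ≠ stab A m := by rw [h1]; exact hne
      obtain ⟨h, hh⟩ := (br_swap A hab hcomm hp hidx hn hm h2 g).1
      obtain ⟨h', hh'⟩ := (br_swap A hab hcomm hp hidx hm hl (Ne.symm hne) h).1
      exact ⟨h', by rw [hh, hh']⟩
    · exact (br_swap A hab hcomm hp hidx hn hl h1 g).1

/-- the invariant character `κ` -/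
theorem exists_kappa {l m : A →* ℂˣ} (hl : stab A l ≠ ⊤) (hm : stab A m ≠ ⊤)
    (hne : stab A l ≠ stab A m) : ∃ k : A →* ℂˣ, k ≠ 1 ∧ k ^ p = 1 ∧ (∀ x, cjh A x k = k) ∧
      (∃ (n : A →* ℂˣ) (g : G), k = br A n g) ∧
      ∀ (n : A →* ℂˣ) (g : G), br A n g ∈ Subgroup.zpowers k := by
  have hx : ∃ x, x ∉ stab A l := by
    by_contra! h
    exact hl (eq_top_iff.2 fun x _ => h x)
  obtain ⟨x, hx⟩ := hx
  haveI := stab_normal A hab hcomm l
  have hinv : ∀ g y, cjh A y (br A l g) = br A l g := fun g =>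
    (br_swap A hab hcomm hp hidx hl hm hne g).2
  have hmul : ∀ g h, br A l (g * h) = br A l g * br A l h := by
    intro g h
    have h1 : cjh A (g * h) l = br A l g * cjh A h l := by
      rw [← cjh_mul, ← br_mul_self A l g, cjh_hmul, hinv]
    rw [br, h1, br, br]
    ext b
    simp only [MonoidHom.mul_apply, MonoidHom.inv_apply]
    rw [mul_assoc]
  have hpow : ∀ j : ℕ, br A l (x ^ j) = br A l x ^ j := by
    intro j
    induction j with
    | zero =>
      rw [pow_zero]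
      exact (br_one_iff A).2 (stab A l).one_mem
    | succ j ih =>
      rw [pow_succ, hmul, ih]
      ext b
      simp only [MonoidHom.mul_apply, MonoidHom.pow_apply, pow_succ]
  have hk : br A l x ≠ 1 := fun h => hx ((br_one_iff A).1 h)
  refine ⟨br A l x, hk, ?_, hinv x, ⟨l, x, rfl⟩, ?_⟩
  · rw [← hpow, br_one_iff]
    have := Subgroup.pow_index_mem (stab A l) x
    rwa [hidx l hl] at this
  · intro n g
    obtain ⟨h, hh⟩ := br_all A hab hcomm hp hidx hl hm hne n g
    obtain ⟨j, hj⟩ := exists_pow_mem hp (stab A l) (hidx l hl) hx h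
    rw [← br_one_iff, hmul, hpow] at hj
    have h1 : br A l h = (br A l x ^ j)⁻¹ := hom_eq_inv hj
    rw [hh, h1]
    exact Subgroup.inv_mem _ (Subgroup.pow_mem _ (Subgroup.mem_zpowers _) j)

end part2

section part3

variable {G : Type u} [Group G] [Finite G] (A : Subgroup G) [hA : A.Normal]
variable (hab : ∀ a ∈ A, ∀ b ∈ A, a * b = b * a)
  (hC : ∀ g : G, (∀ a ∈ A, g * a = a * g) → g ∈ A)
  {p : ℕ} (hp : p.Prime) {k : A →* ℂˣ} (hk1 : k ≠ 1) (hkp : k ^ p = 1)
  (hkinv : ∀ x, cjh A x k = k) (hkbr : ∃ (n : A →* ℂˣ) (g : G), k = br A n g)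
  (hkall : ∀ (n : A →* ℂˣ) (g : G), br A n g ∈ Subgroup.zpowers k)
include hab hC hp hk1 hkp hkinv hkbr hkall

theorem mem_center_iff_k (b : A) : (b : G) ∈ Subgroup.center G ↔ k b = 1 := by
  rw [Subgroup.mem_center_iff]
  constructor
  · intro h
    obtain ⟨n, g, rfl⟩ := hkbr
    rw [br_apply]
    have h1 : (⟨g * b * g⁻¹, hA.conj_mem b b.2 g⟩ : A) = b :=
      Subtype.ext (by show g * b * g⁻¹ = (b : G); rw [h g, mul_inv_cancel_right])
    rw [h1, mul_inv_cancel]
  · intro h g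
    by_contra hne
    have hd : (⟨g * b * g⁻¹, hA.conj_mem b b.2 g⟩ : A) * b⁻¹ ≠ 1 := by
      intro h1
      rw [mul_inv_eq_one] at h1
      apply hne
      have h2 : g * b * g⁻¹ = (b : G) := congrArg Subtype.val h1
      rw [← h2]
      simp only [mul_assoc, inv_mul_cancel, mul_one]
      rw [← mul_assoc g b g⁻¹, h2]
    obtain ⟨l, hl⟩ := exists_sep_one (fun x y : A => Subtype.ext (hab x x.2 y y.2)) hd
    apply hl
    have h1 : l (⟨g * b * g⁻¹, hA.conj_mem b b.2 g⟩ * b⁻¹) = br A l g b := by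
      rw [map_mul, map_inv, br_apply]
    obtain ⟨i, hi⟩ := Subgroup.mem_zpowers_iff.1 (hkall l g)
    rw [h1, ← hi]
    change (k ^ i) b = 1
    rw [MonoidHom.zpow_apply, h, one_zpow]

theorem struct : ∃ a ∈ A, a ∉ Subgroup.center G ∧ a ^ p ∈ Subgroup.center G ∧
    (∀ b ∈ A, ∃ i : ℕ, b * a ^ i ∈ Subgroup.center G) ∧
    (∀ g, a⁻¹ * (g * a * g⁻¹) ∈ Subgroup.center G) ∧ Subgroup.center G ≤ A ∧
    (Subgroup.center G).relIndex A = p := by
  haveI : Fact p.Prime := ⟨hp⟩
  have hc := mem_center_iff_k A hab hC hp hk1 hkp hkinv hkbr hkall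
  obtain ⟨a, ha⟩ : ∃ a : A, k a ≠ 1 := by
    by_contra! h
    exact hk1 (by ext a; rw [h a]; rfl)
  have hkap : ∀ b : A, k b ^ p = 1 := fun b => by
    have := DFunLike.congr_fun hkp b
    rwa [MonoidHom.pow_apply] at this
  have hgen : ∀ b : A, ∃ i : ℕ, k b * k a ^ i = 1 := fun b => exists_root hp (hkap b) (hkap a) ha
  have hord : orderOf (k a) = p := orderOf_eq_prime (hkap a) ha
  refine ⟨a, a.2, ?_, ?_, ?_, ?_, ?_, ?_⟩
  · rw [hc a]; exact ha
  · have := (hc (a ^ p)).2 (by rw [map_pow, hkap])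
    exact this
  · intro b hb
    obtain ⟨i, hi⟩ := hgen ⟨b, hb⟩
    refine ⟨i, ?_⟩
    have := (hc (⟨b, hb⟩ * a ^ i)).2 (by rw [map_mul, map_pow, hi])
    exact this
  · intro g
    have := (hc (a⁻¹ * ⟨g * a * g⁻¹, hA.conj_mem a a.2 g⟩)).2 (by
      rw [map_mul, map_inv, stab_mem A (hkinv g) a, inv_mul_cancel])
    exact this
  · intro z hz
    apply hC
    intro a _
    rw [Subgroup.mem_center_iff.1 hz a]
  · have h1 : (Subgroup.center G).subgroupOf A = k.ker := by
      ext b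
      rw [Subgroup.mem_subgroupOf, MonoidHom.mem_ker, hc b]
    rw [Subgroup.relIndex, h1, Subgroup.index_ker]
    have h2 : k.range = Subgroup.zpowers (k a) := by
      apply le_antisymm
      · rintro _ ⟨b, rfl⟩
        obtain ⟨i, hi⟩ := hgen b
        rw [eq_inv_of_mul_eq_one_left hi]
        exact Subgroup.inv_mem _ (Subgroup.pow_mem _ (Subgroup.mem_zpowers _) i)
      · rw [Subgroup.zpowers_le]
        exact ⟨a, rfl⟩
    rw [h2, Nat.card_zpowers, hord]

end part3

end H77.DegP
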