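import Cfsg.Agent.Lib.H77.DegP2

/-!
# Groups with character degrees {1, p}, p prime: the abelian subgroup of index p (helper77)
-/

set_option autoImplicit false
set_option linter.style.haveILetI false
set_option linter.unusedSectionVars false
set_option linter.unusedVariables false
open Cfsg

namespace H77.DegP

open H77.TwoDeg

open scoped commutatorElement

universe u

/-- the centre as a commutative group -/
abbrev zcg (G : Type u) [Group G] : CommGroup (Subgroup.center G) :=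
  { (inferInstance : Group (Subgroup.center G)) with
    mul_comm := fun a b => Subtype.ext (Subgroup.mem_center_iff.1 b.2 a) }

theorem mem_closure_pair' {G : Type u} [Group G] {x y z : Subgroup.center G}
    (h : z ∈ Subgroup.closure ({x, y} : Set (Subgroup.center G))) : ∃ m n : ℤ, x ^ m * y ^ n = z := by
  letI := zcg G
  exact (Subgroup.mem_closure_pair (C := Subgroup.center G)).1 h

section part4

variable {G : Type u} [Group G] [Finite G]

/-- the homomorphism `g ↦ ⁅a⁻¹, g⁆ = a⁻¹ a^g` when its values are central -/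
def Fh {a : G} (hF : ∀ g : G, a⁻¹ * (g * a * g⁻¹) ∈ Subgroup.center G) : G →* Subgroup.center G where
  toFun g := ⟨a⁻¹ * (g * a * g⁻¹), hF g⟩
  map_one' := by apply Subtype.ext; simp
  map_mul' g h := by
    apply Subtype.ext
    have h1 := Subgroup.mem_center_iff.1 (hF h)
    show a⁻¹ * (g * h * a * (g * h)⁻¹) = a⁻¹ * (g * a * g⁻¹) * (a⁻¹ * (h * a * h⁻¹))
    calc a⁻¹ * (g * h * a * (g * h)⁻¹) = a⁻¹ * (g * a * ((a⁻¹ * (h * a * h⁻¹)) * g⁻¹)) := by group
      _ = a⁻¹ * (g * a * (g⁻¹ * (a⁻¹ * (h * a * h⁻¹)))) := by rw [h1 g⁻¹]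
      _ = _ := by group

/-- the homomorphism `h ↦ ⁅g, h⁆` when its values are central -/
def Bh {g : G} (hB : ∀ h : G, ⁅g, h⁆ ∈ Subgroup.center G) : G →* Subgroup.center G where
  toFun h := ⟨⁅g, h⁆, hB h⟩
  map_one' := by apply Subtype.ext; simp
  map_mul' h h' := by
    apply Subtype.ext
    have h1 := Subgroup.mem_center_iff.1 (hB h')
    show ⁅g, h * h'⁆ = ⁅g, h⁆ * ⁅g, h'⁆
    calc ⁅g, h * h'⁆ = ⁅g, h⁆ * (h * ⁅g, h'⁆ * h⁻¹) := by
          simp only [commutatorElement_def]; group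
      _ = ⁅g, h⁆ * ⁅g, h'⁆ := by rw [h1 h, mul_inv_cancel_right]

variable {a : G} (hF : ∀ g : G, a⁻¹ * (g * a * g⁻¹) ∈ Subgroup.center G)

theorem Fh_coe (g : G) : (Fh hF g : G) = a⁻¹ * (g * a * g⁻¹) := rfl

theorem conj_a (g : G) : g * a * g⁻¹ = a * (Fh hF g : G) := by
  rw [Fh_coe, mul_inv_cancel_left]

theorem central (z : Subgroup.center G) (g : G) : g * (z : G) = z * g :=
  Subgroup.mem_center_iff.1 z.2 g

theorem conjz (g : G) (c : ℤ) : g * a ^ c * g⁻¹ = a ^ c * (Fh hF g : G) ^ c := by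
  rw [← _root_.conj_zpow, conj_a hF]
  exact (show Commute a (Fh hF g : G) from central (Fh hF g) a).mul_zpow c

theorem Fh_pow {p : ℕ} (hap : a ^ p ∈ Subgroup.center G) (g : G) : Fh hF g ^ p = 1 := by
  apply Subtype.ext
  have h1 := conjz hF g p
  rw [zpow_natCast, Subgroup.mem_center_iff.1 hap g, mul_inv_cancel_right, zpow_natCast] at h1
  have h2 : a ^ p * (Fh hF g : G) ^ p = a ^ p * 1 := by rw [← h1, mul_one]
  exact mul_left_cancel h2

variable (A : Subgroup G) [hA : A.Normal]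
variable (hab : ∀ a ∈ A, ∀ b ∈ A, a * b = b * a)
  (hcomm : ∀ g h : G, ⁅g, h⁆ ∈ A)
  (hC : ∀ g : G, (∀ a ∈ A, g * a = a * g) → g ∈ A)
  {p : ℕ} (hp : p.Prime)
  (hpair : ∀ l : A →* ℂˣ, stab A l ≠ ⊤ → ∀ g ∈ stab A l, ∀ h ∈ stab A l,
    l ⟨⁅g, h⁆, hcomm g h⟩ = 1)
  (haA : a ∈ A) (haZ : a ∉ Subgroup.center G) (hap : a ^ p ∈ Subgroup.center G)
  (hgen : ∀ b ∈ A, ∃ i : ℕ, b * a ^ i ∈ Subgroup.center G)
  (hZA : Subgroup.center G ≤ A)

include hgen in
theorem conj_b {b : G} (hb : b ∈ A) : ∃ i : ℕ, ∀ x : G, x * b * x⁻¹ * (Fh hF x : G) ^ i = b := by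
  obtain ⟨i, hi⟩ := hgen b hb
  refine ⟨i, fun x => ?_⟩
  have h1 := Subgroup.mem_center_iff.1 hi x
  have h2 : x * a ^ i * x⁻¹ = a ^ i * (Fh hF x : G) ^ i := by
    have := conjz hF x i
    rwa [zpow_natCast, zpow_natCast] at this
  have h3 : x * b * x⁻¹ * (Fh hF x : G) ^ i * a ^ i = b * a ^ i := by
    have h4 : (Fh hF x : G) ^ i * a ^ i = a ^ i * (Fh hF x : G) ^ i :=
      ((show Commute a (Fh hF x : G) from central (Fh hF x) a).pow_pow i i).eq.symm
    calc x * b * x⁻¹ * (Fh hF x : G) ^ i * a ^ i = x * b * x⁻¹ * ((Fh hF x : G) ^ i * a ^ i) := by group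
      _ = x * b * x⁻¹ * (x * a ^ i * x⁻¹) := by rw [h4, h2]
      _ = x * (b * a ^ i) * x⁻¹ := by group
      _ = b * a ^ i := by rw [h1, mul_inv_cancel_right]
  exact mul_right_cancel h3

include hgen haA in
theorem mem_stab_iff {l : A →* ℂˣ} {x : G} :
    x ∈ stab A l ↔ l (Subgroup.inclusion hZA (Fh hF x)) = 1 := by
  constructor
  · intro h
    have h1 := stab_mem A h ⟨a, haA⟩
    have h2 : (⟨x * (⟨a, haA⟩ : A) * x⁻¹, hA.conj_mem _ haA x⟩ : A) =
        ⟨a, haA⟩ * Subgroup.inclusion hZA (Fh hF x) := Subtype.ext (conj_a hF x)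
    rw [h2, map_mul] at h1
    have h3 : l ⟨a, haA⟩ * l (Subgroup.inclusion hZA (Fh hF x)) = l ⟨a, haA⟩ * 1 := by
      rw [h1, mul_one]
    exact mul_left_cancel h3
  · intro h
    rw [mem_stab]
    ext b
    obtain ⟨i, hi⟩ := conj_b hF A hgen b.2
    have h1 : cjh A x l b * l (Subgroup.inclusion hZA (Fh hF x)) ^ i = l b := by
      rw [cjh_apply, ← map_pow, ← map_mul]
      congr 1
      exact Subtype.ext (hi x)
    rw [h, one_pow, mul_one] at h1
    rw [h1]

include hgen hC haA in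
theorem mem_of_Fh {x : G} (h : Fh hF x = 1) : x ∈ A := by
  apply hC
  intro b hb
  obtain ⟨i, hi⟩ := conj_b hF A hgen hb
  have h1 := hi x
  rw [h, OneMemClass.coe_one, one_pow, mul_one] at h1
  exact mul_inv_eq_iff_eq_mul.1 h1

include hab haA in
theorem Fh_of_mem {x : G} (h : x ∈ A) : Fh hF x = 1 := by
  apply Subtype.ext
  rw [Fh_coe, hab x h a haA, mul_inv_cancel_right, inv_mul_cancel]
  rfl

include hab hpair haA hgen hZA in
theorem comm_eq (hbig : ∀ g h : G, ∃ x, Fh hF x ∉ Subgroup.closure {Fh hF g, Fh hF h}) (g h : G) :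
    ∃ m n : ℤ, ⁅g, h⁆ = (Fh hF g : G) ^ m * (Fh hF h : G) ^ n := by
  have hB : ∀ x y : A, x * y = y * x := fun x y => Subtype.ext (hab x x.2 y y.2)
  have hst : ∀ {l : A →* ℂˣ} {x : G}, x ∈ stab A l ↔ l (Subgroup.inclusion hZA (Fh hF x)) = 1 :=
    fun {l x} => mem_stab_iff hF A haA hgen hZA
  set c : A := ⟨⁅g, h⁆, hcomm g h⟩ with hc
  let D : Subgroup A := (Subgroup.closure {Fh hF g, Fh hF h}).map (Subgroup.inclusion hZA)
  have hgD : Subgroup.inclusion hZA (Fh hF g) ∈ D :=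
    ⟨_, Subgroup.subset_closure (by simp), rfl⟩
  have hhD : Subgroup.inclusion hZA (Fh hF h) ∈ D :=
    ⟨_, Subgroup.subset_closure (by simp), rfl⟩
  have hcD : c ∈ D := by
    by_contra hno
    obtain ⟨l, hl1, hl2⟩ := exists_sep hB D hno
    have hgl : g ∈ stab A l := hst.2 (hl1 _ hgD)
    have hhl : h ∈ stab A l := hst.2 (hl1 _ hhD)
    have htop : stab A l = ⊤ := by
      by_contra hne
      exact hl2 (hpair l hne g hgl h hhl)
    obtain ⟨x, hx⟩ := hbig g h
    have hxD : Subgroup.inclusion hZA (Fh hF x) ∉ D := by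
      rintro ⟨y, hy, hyx⟩
      apply hx
      rw [Subgroup.inclusion_injective hZA hyx.symm]
      exact hy
    obtain ⟨e, he1, he2⟩ := exists_sep hB D hxD
    have hge : g ∈ stab A e := hst.2 (he1 _ hgD)
    have hhe : h ∈ stab A e := hst.2 (he1 _ hhD)
    have hxe : x ∉ stab A e := fun h => he2 (hst.1 h)
    have h1 := hpair e (fun h => hxe (by rw [h]; trivial)) g hge h hhe
    have hxl : x ∈ stab A l := by rw [htop]; trivial
    have hxle : x ∉ stab A (l * e) := by
      intro h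
      rw [hst, MonoidHom.mul_apply, hst.1 hxl, one_mul] at h
      exact he2 h
    have h2 := hpair (l * e) (fun h => hxle (by rw [h]; trivial)) g
      (hst.2 (by rw [MonoidHom.mul_apply, hl1 _ hgD, he1 _ hgD, one_mul])) h
      (hst.2 (by rw [MonoidHom.mul_apply, hl1 _ hhD, he1 _ hhD, one_mul]))
    rw [MonoidHom.mul_apply, h1, mul_one] at h2
    exact hl2 h2
  obtain ⟨y, hy, hyc⟩ := hcD
  have hy' : y ∈ Subgroup.closure ({Fh hF g, Fh hF h} : Set (Subgroup.center G)) := hy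
  obtain ⟨m, n, hmn⟩ := mem_closure_pair' hy'
  refine ⟨m, n, ?_⟩
  have h1 : ((Subgroup.inclusion hZA y : A) : G) = ⁅g, h⁆ := congrArg Subtype.val hyc
  rw [← h1, ← hmn]
  rfl

theorem comm_left (g h : G) (c : ℤ) : ⁅g * a ^ c, h⁆ = (Fh hF h : G) ^ (-c) * ⁅g, h⁆ := by
  have h1 := conjz hF h (-c)
  have hz : ∀ x : G, x * (Fh hF h : G) ^ (-c) = (Fh hF h : G) ^ (-c) * x := fun x =>
    central (Fh hF h ^ (-c)) x
  calc ⁅g * a ^ c, h⁆ = g * a ^ c * (h * a ^ (-c) * h⁻¹) * h * g⁻¹ * h⁻¹ := by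
        rw [commutatorElement_def, mul_inv_rev, zpow_neg]; group
    _ = g * (Fh hF h : G) ^ (-c) * h * g⁻¹ * h⁻¹ := by rw [h1]; group
    _ = (Fh hF h : G) ^ (-c) * ⁅g, h⁆ := by rw [hz g, commutatorElement_def]; group

/-- the good element `g' = g a^c` -/
theorem exists_good (hp : p.Prime) (hap : a ^ p ∈ Subgroup.center G) (g : G)
    (hce : ∀ h : G, ∃ m n : ℤ, ⁅g, h⁆ = (Fh hF g : G) ^ m * (Fh hF h : G) ^ n) :
    ∃ c : ℤ, ∀ h : G, ∃ i : ℤ, ⁅g * a ^ c, h⁆ = (Fh hF g : G) ^ i := by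
  have hB : ∀ h : G, ⁅g, h⁆ ∈ Subgroup.center G := by
    intro h
    obtain ⟨m, n, hmn⟩ := hce h
    rw [hmn]
    exact (Fh hF g ^ m * Fh hF h ^ n).2
  letI := zcg G
  let Q := Subgroup.center G ⧸ Subgroup.zpowers (Fh hF g)
  let f₁ : G →* Q := (QuotientGroup.mk' _).comp (Fh hF)
  let f₂ : G →* Q := (QuotientGroup.mk' _).comp (Bh hB)
  obtain ⟨c, hc⟩ := eig' hp f₁ f₂ (by
    intro h
    have h1 := Fh_pow hF hap h
    have h2 : f₁ h ^ p = QuotientGroup.mk' (Subgroup.zpowers (Fh hF g)) (Fh hF h ^ p) := by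
      rw [map_pow]; rfl
    rw [h2, h1, map_one]) (by
    intro h
    obtain ⟨m, n, hmn⟩ := hce h
    refine ⟨n, ?_⟩
    have h1 : Bh hB h = Fh hF g ^ m * Fh hF h ^ n := Subtype.ext hmn
    have h2 : f₂ h = QuotientGroup.mk' (Subgroup.zpowers (Fh hF g)) (Bh hB h) := rfl
    have h3 : QuotientGroup.mk' (Subgroup.zpowers (Fh hF g)) (Fh hF g ^ m) = 1 := by
      rw [QuotientGroup.mk'_apply, QuotientGroup.eq_one_iff]
      exact Subgroup.zpow_mem _ (Subgroup.mem_zpowers _) m
    rw [h2, h1, map_mul, h3, one_mul, map_zpow]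
    rfl)
  refine ⟨c, fun h => ?_⟩
  have h1 := hc h
  have h2 : QuotientGroup.mk' (Subgroup.zpowers (Fh hF g)) (Fh hF h ^ (-c) * Bh hB h) = 1 := by
    rw [map_mul, map_zpow]
    change f₁ h ^ (-c) * f₂ h = 1
    rw [h1, zpow_neg, inv_mul_cancel]
  rw [QuotientGroup.mk'_apply, QuotientGroup.eq_one_iff, Subgroup.mem_zpowers_iff] at h2
  obtain ⟨i, hi⟩ := h2
  refine ⟨i, ?_⟩
  rw [comm_left hF]
  exact (congrArg Subtype.val hi).symm

include hab hpair haA hgen hZA hC in
theorem main4 (hp : p.Prime) (hap : a ^ p ∈ Subgroup.center G)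
    (hbig : ∀ g h : G, ∃ x, Fh hF x ∉ Subgroup.closure {Fh hF g, Fh hF h}) {g₀ : G} (hg₀ : g₀ ∉ A) :
    ∃ C : Subgroup G, C.Normal ∧ (∀ x ∈ C, ∀ y ∈ C, x * y = y * x) ∧ C.index = p := by
  haveI : Fact p.Prime := ⟨hp⟩
  have hcomAA : ∀ x y : A, x * y = y * x := fun x y => Subtype.ext (hab x x.2 y y.2)
  have hst : ∀ {l : A →* ℂˣ} {x : G}, x ∈ stab A l ↔ l (Subgroup.inclusion hZA (Fh hF x)) = 1 :=
    fun {l x} => mem_stab_iff hF A haA hgen hZA
  have hce := comm_eq hF A hab hcomm hpair haA hgen hZA hbig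
  have hcc : ∀ g h : G, ⁅g, h⁆ ∈ Subgroup.center G := by
    intro g h
    obtain ⟨m, n, hmn⟩ := hce g h
    rw [hmn]
    exact (Fh hF g ^ m * Fh hF h ^ n).2
  obtain ⟨c, hc⟩ := exists_good hF hp hap g₀ (hce g₀)
  set g := g₀ * a ^ c with hg
  have hFa : Fh hF a = 1 := Fh_of_mem hF A hab haA haA
  have hFg : Fh hF g = Fh hF g₀ := by rw [hg, map_mul, map_zpow, hFa, one_zpow, mul_one]
  have hgA : g ∉ A := by
    intro h
    apply hg₀
    have : g₀ = g * (a ^ c)⁻¹ := by rw [hg]; group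
    rw [this]
    exact A.mul_mem h (A.inv_mem (A.zpow_mem haA c))
  have hFg1 : Fh hF g ≠ 1 := fun h => hgA (mem_of_Fh hF A hC haA hgen h)
  have hlF : ∀ (l : A →* ℂˣ) (x : G), l (Subgroup.inclusion hZA (Fh hF x)) ^ p = 1 := by
    intro l x
    rw [← map_pow, ← map_pow, Fh_pow hF hap, map_one, map_one]
  let γ : G →* Subgroup.center G := Bh (g := g) (hcc g)
  have hker : γ.ker = Subgroup.centralizer ({g} : Set G) := by
    ext h
    rw [MonoidHom.mem_ker, Subgroup.mem_centralizer_singleton_iff]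
    constructor
    · intro h1
      have h2 : ⁅g, h⁆ = 1 := congrArg Subtype.val h1
      exact (commutatorElement_eq_one_iff_mul_comm.1 h2).symm
    · intro h1
      apply Subtype.ext
      exact commutatorElement_eq_one_iff_mul_comm.2 h1.symm
  have hidx : (Subgroup.centralizer ({g} : Set G)).index = p := by
    rw [← hker, Subgroup.index_ker]
    have h1 : γ.range ≤ Subgroup.zpowers (Fh hF g₀) := by
      rintro _ ⟨h, rfl⟩
      obtain ⟨i, hi⟩ := hc h
      rw [Subgroup.mem_zpowers_iff]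
      exact ⟨i, Subtype.ext hi.symm⟩
    have h2 : Nat.card γ.range ∣ p := by
      refine (Subgroup.card_dvd_of_le h1).trans ?_
      rw [Nat.card_zpowers]
      exact orderOf_dvd_of_pow_eq_one (Fh_pow hF hap g₀)
    rcases (Nat.dvd_prime hp).1 h2 with h | h
    · exfalso
      have h3 : γ.range = ⊥ := Subgroup.card_eq_one.1 h
      have h4 : g ∈ Subgroup.center G := by
        rw [Subgroup.mem_center_iff]
        intro x
        have h5 : γ x ∈ γ.range := ⟨x, rfl⟩
        rw [h3, Subgroup.mem_bot] at h5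
        have h6 : x ∈ γ.ker := h5
        rw [hker, Subgroup.mem_centralizer_singleton_iff] at h6
        exact h6
      exact hgA (hZA h4)
    · exact h
  refine ⟨Subgroup.centralizer {g}, ?_, ?_, hidx⟩
  · refine ⟨fun n hn x => ?_⟩
    have h1 : x * n * x⁻¹ = ⁅x, n⁆ * n := by rw [commutatorElement_def]; group
    rw [h1]
    refine Subgroup.mul_mem _ ?_ hn
    rw [Subgroup.mem_centralizer_singleton_iff]
    exact (Subgroup.mem_center_iff.1 (hcc x n) g).symm
  · -- the argument for characters nontrivial at `Fh g`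
    have hkey : ∀ l : A →* ℂˣ, l (Subgroup.inclusion hZA (Fh hF g)) ≠ 1 → ∀ x y : G,
        x * g = g * x → y * g = g * y → l ⟨⁅x, y⁆, hcomm x y⟩ = 1 := by
      intro l hl x y hx hy
      have hne : stab A l ≠ ⊤ := by
        intro h
        apply hl
        rw [← hst, h]
        trivial
      obtain ⟨i, hi⟩ := exists_root hp (hlF l x) (hlF l g) hl
      obtain ⟨j, hj⟩ := exists_root hp (hlF l y) (hlF l g) hl
      have h1 : x * g ^ i ∈ stab A l := by
        rw [hst, map_mul, map_pow, map_mul, map_pow, map_mul, map_pow]; exact hi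
      have h2 : y * g ^ j ∈ stab A l := by
        rw [hst, map_mul, map_pow, map_mul, map_pow, map_mul, map_pow]; exact hj
      have h3 := hpair l hne _ h1 _ h2
      have h4 : ⁅x * g ^ i, y * g ^ j⁆ = ⁅x, y⁆ := by
        have cx : Commute x g := hx
        have cy : Commute y g := hy
        have e1 : g ^ i * (y * g ^ j) = y * g ^ j * g ^ i := by
          rw [← mul_assoc, ((cy.pow_right i).eq).symm, mul_assoc, mul_assoc,
            (Commute.refl g).pow_pow i j |>.eq]
        rw [commutatorElement_def, commutatorElement_def, mul_inv_rev, mul_inv_rev]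
        calc x * g ^ i * (y * g ^ j) * ((g ^ i)⁻¹ * x⁻¹) * ((g ^ j)⁻¹ * y⁻¹)
            = x * (g ^ i * (y * g ^ j)) * (g ^ i)⁻¹ * x⁻¹ * (g ^ j)⁻¹ * y⁻¹ := by
              simp only [mul_assoc]
          _ = x * (y * (g ^ j * x⁻¹) * (g ^ j)⁻¹ * y⁻¹) := by
              rw [e1]; simp only [mul_assoc, mul_inv_cancel_left]
          _ = x * y * x⁻¹ * y⁻¹ := by
              rw [((cx.inv_left.pow_right j).eq).symm]
              simp only [mul_assoc, mul_inv_cancel_left]
      have h5 : (⟨⁅x * g ^ i, y * g ^ j⁆, hcomm _ _⟩ : A) = ⟨⁅x, y⁆, hcomm x y⟩ := Subtype.ext h4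
      rw [h5] at h3
      exact h3
    intro x hx y hy
    rw [Subgroup.mem_centralizer_singleton_iff] at hx hy
    by_contra hxy
    have hd : (⟨⁅x, y⁆, hcomm x y⟩ : A) ≠ 1 := by
      intro h
      apply hxy
      exact commutatorElement_eq_one_iff_mul_comm.1 (congrArg Subtype.val h)
    obtain ⟨l, hl⟩ := exists_sep_one hcomAA hd
    by_cases hlu : l (Subgroup.inclusion hZA (Fh hF g)) = 1
    · have hu : Subgroup.inclusion hZA (Fh hF g) ≠ 1 := by
        intro h
        apply hFg1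
        exact Subgroup.inclusion_injective hZA (by rw [h, map_one])
      obtain ⟨e, he⟩ := exists_sep_one hcomAA hu
      have h1 := hkey e he x y hx hy
      have h2 := hkey (l * e) (by rw [MonoidHom.mul_apply, hlu, one_mul]; exact he) x y hx hy
      rw [MonoidHom.mul_apply, h1, mul_one] at h2
      exact hl h2
    · exact hl (hkey l hlu x y hx hy)

end part4

section final

variable {G : Type u} [Group G] [Finite G]

/-- the closure of two elements of order dividing `p` in the centre has order at most `p²`. -/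
theorem card_closure_le {p : ℕ} (hp : p.Prime) {x y : Subgroup.center G} (hx : x ^ p = 1)
    (hy : y ^ p = 1) :
    Nat.card (Subgroup.closure ({x, y} : Set (Subgroup.center G))) ≤ p ^ 2 := by
  haveI : NeZero p := ⟨hp.ne_zero⟩
  have hred : ∀ {z : Subgroup.center G}, z ^ p = 1 → ∀ m : ℤ, ∃ i : Fin p, z ^ m = z ^ (i : ℕ) := by
    intro z hz m
    have h0 : (0 : ℤ) < p := by exact_mod_cast hp.pos
    refine ⟨⟨(m % p).toNat, ?_⟩, ?_⟩
    · have := Int.emod_lt_of_pos m h0
      have := Int.emod_nonneg m h0.ne'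
      omega
    · have h1 := Int.emod_nonneg m h0.ne'
      show z ^ m = z ^ ((m % p).toNat)
      rw [← zpow_natCast, Int.toNat_of_nonneg h1]
      conv_lhs => rw [← Int.emod_add_mul_ediv m p, zpow_add, zpow_mul, zpow_natCast, hz, one_zpow,
        mul_one]
  let f : Fin p × Fin p → Subgroup.closure ({x, y} : Set (Subgroup.center G)) := fun ij =>
    ⟨x ^ (ij.1 : ℕ) * y ^ (ij.2 : ℕ), Subgroup.mul_mem _
      (Subgroup.pow_mem _ (Subgroup.subset_closure (by simp)) _)
      (Subgroup.pow_mem _ (Subgroup.subset_closure (by simp)) _)⟩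
  have hf : Function.Surjective f := by
    rintro ⟨z, hz⟩
    obtain ⟨m, n, hmn⟩ := mem_closure_pair' hz
    obtain ⟨i, hi⟩ := hred hx m
    obtain ⟨j, hj⟩ := hred hy n
    refine ⟨(i, j), Subtype.ext ?_⟩
    show x ^ (i : ℕ) * y ^ (j : ℕ) = z
    rw [← hi, ← hj, hmn]
  have := Nat.card_le_card_of_surjective f hf
  rwa [Nat.card_prod, Nat.card_fin, ← pow_two] at this

/-- the hard direction of S4459 -/
theorem forward (hG : ∃ a b : G, a * b ≠ b * a) {p : ℕ} (hp : p.Prime)
    (hcd : ∀ χ : IrrCharacter G, charDegree χ.1 = 1 ∨ charDegree χ.1 = p)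
    (hex : ∃ χ : IrrCharacter G, charDegree χ.1 = p) :
    (∃ A : Subgroup G, A.Normal ∧ (∀ a ∈ A, ∀ b ∈ A, a * b = b * a) ∧ A.index = p) ∨
      (Subgroup.center G).index = p ^ 3 := by
  classical
  haveI : Fact p.Prime := ⟨hp⟩
  -- maximal abelian subgroup containing the derived subgroup
  have hder : ∀ a ∈ commutator G, ∀ b ∈ commutator G, a * b = b * a := by
    have h1 := H77.Taketa.two_deg p hp.ne_one hcd hex
    rw [derivedSeries_succ, derivedSeries_one] at h1
    intro a ha b hb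
    have h2 : ⁅a, b⁆ ∈ ⁅commutator G, commutator G⁆ := Subgroup.commutator_mem_commutator ha hb
    rw [h1, Subgroup.mem_bot] at h2
    exact commutatorElement_eq_one_iff_mul_comm.1 h2
  let S : Set (Subgroup G) := {A | commutator G ≤ A ∧ ∀ a ∈ A, ∀ b ∈ A, a * b = b * a}
  have hSn : S.Nonempty := ⟨commutator G, le_rfl, hder⟩
  obtain ⟨A, hAmax⟩ := (Set.toFinite S).exists_maximal hSn
  have hcA : commutator G ≤ A := hAmax.prop.1
  have hab := hAmax.prop.2
  have hcomm : ∀ g h : G, ⁅g, h⁆ ∈ A := fun g h =>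
    hcA (Subgroup.commutator_mem_commutator (Subgroup.mem_top g) (Subgroup.mem_top h))
  haveI hA : A.Normal := by
    refine ⟨fun n hn g => ?_⟩
    have h1 : g * n * g⁻¹ = ⁅g, n⁆ * n := by rw [commutatorElement_def]; group
    rw [h1]
    exact A.mul_mem (hcomm g n) hn
  have hC : ∀ g : G, (∀ a ∈ A, g * a = a * g) → g ∈ A := by
    intro g hg
    have h1 : A ⊔ Subgroup.zpowers g ∈ S := by
      refine ⟨hcA.trans le_sup_left, ?_⟩
      have hcz : ∀ a ∈ A, ∀ j : ℤ, a * g ^ j = g ^ j * a := fun a ha j =>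
        ((show Commute g a from hg a ha).zpow_left j).eq.symm
      intro x hx y hy
      have hx' : x ∈ ((A ⊔ Subgroup.zpowers g : Subgroup G) : Set G) := hx
      have hy' : y ∈ ((A ⊔ Subgroup.zpowers g : Subgroup G) : Set G) := hy
      rw [Subgroup.normal_mul] at hx' hy'
      obtain ⟨a, ha, _, ⟨i, rfl⟩, rfl⟩ := Set.mem_mul.1 hx'
      obtain ⟨b, hb, _, ⟨j, rfl⟩, rfl⟩ := Set.mem_mul.1 hy'
      show a * g ^ i * (b * g ^ j) = b * g ^ j * (a * g ^ i)
      calc a * g ^ i * (b * g ^ j) = a * (g ^ i * b) * g ^ j := by group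
        _ = a * b * (g ^ i * g ^ j) := by rw [← hcz b hb i]; group
        _ = b * a * (g ^ j * g ^ i) := by rw [hab a ha b hb, ← zpow_add, ← zpow_add, add_comm]
        _ = b * (a * g ^ j) * g ^ i := by group
        _ = b * g ^ j * (a * g ^ i) := by rw [hcz a ha j]; group
    have h2 := hAmax.le_of_ge h1 le_sup_left
    exact h2 (Subgroup.mem_sup_right (Subgroup.mem_zpowers g))
  have hkey := key A hab p hp hcd
  have hidx : ∀ l : A →* ℂˣ, stab A l ≠ ⊤ → (stab A l).index = p := fun l hl => (hkey l hl).1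
  have hpair : ∀ l : A →* ℂˣ, stab A l ≠ ⊤ → ∀ g ∈ stab A l, ∀ h ∈ stab A l,
      l ⟨⁅g, h⁆, hcomm g h⟩ = 1 := by
    intro l hl g hg h hh
    obtain ⟨f, hf⟩ := (hkey l hl).2
    rw [← hf]
    have h1 : (⟨⁅g, h⁆, le_stab A hab l (hcomm g h)⟩ : stab A l) = ⁅(⟨g, hg⟩ : stab A l), ⟨h, hh⟩⁆ :=
      Subtype.ext rfl
    rw [h1, map_commutatorElement, commutatorElement_eq_one_iff_mul_comm, mul_comm]
  have hcomAA : ∀ x y : A, x * y = y * x := fun x y => Subtype.ext (hab x x.2 y y.2)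
  have hAtop : A ≠ ⊤ := by
    intro h
    obtain ⟨a, b, hne⟩ := hG
    exact hne (hab a (by rw [h]; trivial) b (by rw [h]; trivial))
  -- a noninvariant character
  have hmem : ∀ g : G, (∀ l : A →* ℂˣ, g ∈ stab A l) → g ∈ A := by
    intro g hg
    apply hC
    intro a ha
    by_contra hne
    have hd : (⟨g * a * g⁻¹, hA.conj_mem a ha g⟩ : A) * ⟨a, ha⟩⁻¹ ≠ 1 := by
      intro h1
      rw [mul_inv_eq_one] at h1
      exact hne (mul_inv_eq_iff_eq_mul.1 (congrArg Subtype.val h1))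
    obtain ⟨l, hl⟩ := exists_sep_one hcomAA hd
    apply hl
    rw [map_mul, map_inv, stab_mem A (hg l) ⟨a, ha⟩, mul_inv_cancel]
  have hexl : ∃ l : A →* ℂˣ, stab A l ≠ ⊤ := by
    by_contra! h
    apply hAtop
    rw [eq_top_iff]
    intro g _
    exact hmem g (fun l => by rw [h l]; trivial)
  obtain ⟨l, hl⟩ := hexl
  by_cases hall : ∀ m : A →* ℂˣ, stab A m ≠ ⊤ → stab A m = stab A l
  · left
    refine ⟨A, hA, hab, ?_⟩
    rw [← hidx l hl]
    congr 1
    apply le_antisymm (le_stab A hab l)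
    intro g hg
    apply hmem
    intro m
    by_cases hm : stab A m = ⊤
    · rw [hm]; trivial
    · rw [hall m hm]; exact hg
  · push Not at hall
    obtain ⟨m, hm, hml⟩ := hall
    obtain ⟨k, hk1, hkp, hkinv, hkbr, hkall⟩ :=
      exists_kappa A hab hcomm hp hidx hl hm (Ne.symm hml)
    obtain ⟨a, haA, haZ, hap, hgen, hF, hZA, hrel⟩ :=
      struct A hab hC hp hk1 hkp hkinv hkbr hkall
    have hker : (Fh hF).ker = A := by
      ext x
      rw [MonoidHom.mem_ker]
      exact ⟨mem_of_Fh hF A hC haA hgen, Fh_of_mem hF A hab haA⟩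
    have hcard : Nat.card (Fh hF).range = A.index := by
      rw [← hker, Subgroup.index_ker]
    have hpg : IsPGroup p (Fh hF).range := by
      rintro ⟨_, x, rfl⟩
      exact ⟨1, by rw [pow_one]; exact Subtype.ext (Fh_pow hF hap x)⟩
    obtain ⟨n, hn⟩ := IsPGroup.iff_card.1 hpg
    rw [hcard] at hn
    have hZidx : (Subgroup.center G).index = p * p ^ n := by
      rw [← Subgroup.relIndex_mul_index hZA, hrel, hn]
    match n, hn, hZidx with
    | 0, hn, _ =>
      exfalso
      rw [pow_zero] at hn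
      exact hAtop (Subgroup.index_eq_one.1 hn)
    | 1, hn, _ =>
      left
      exact ⟨A, hA, hab, by rw [hn, pow_one]⟩
    | 2, _, hZidx =>
      right
      rw [hZidx]; ring
    | n + 3, hn, _ =>
      left
      have hbig : ∀ g h : G, ∃ x, Fh hF x ∉ Subgroup.closure {Fh hF g, Fh hF h} := by
        intro g h
        by_contra! hno
        have h1 : (Fh hF).range ≤ Subgroup.closure {Fh hF g, Fh hF h} := by
          rintro _ ⟨x, rfl⟩
          exact hno x
        have h2 := Subgroup.card_le_of_le h1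
        have h3 := card_closure_le hp (Fh_pow hF hap g) (Fh_pow hF hap h)
        rw [hcard, hn] at h2
        have h4 : p ^ 2 < p ^ (n + 3) := Nat.pow_lt_pow_right hp.one_lt (by omega)
        omega
      obtain ⟨g₀, hg₀⟩ : ∃ g₀, g₀ ∉ A := by
        by_contra! h
        exact hAtop (eq_top_iff.2 fun g _ => h g)
      exact main4 hF A hab hcomm hC hpair haA hgen hZA hp hap hbig hg₀

end final

end H77.DegP
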