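import Cfsg.Agent.Lib.H77.GalIdx
import Cfsg.Agent.Lib.H77.PQuot
import Cfsg.Agent.Lib.H77.DegP

/-!
# A bound for `p`-groups with a faithful irreducible character (S4489) (helper77)
-/

set_option autoImplicit false
set_option linter.style.haveILetI false
set_option linter.unusedSectionVars false
set_option linter.unusedVariables false
open Cfsg

namespace H77.FieldBound

open H18.CharBasic H18.CharOrtho H18.CharInd H18.CharQuot H31.Clifford H77.GalIdx

universe u

variable {P : Type u} [Group P] [Fintype P]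

theorem map_indFun (σ : ℂ ≃+* ℂ) (M : Subgroup P) (θ : M → ℂ) (g : P) :
    σ (indFun M θ g) = indFun M (fun m => σ (θ m)) g := by
  rw [indFun_apply, indFun_apply, map_mul, map_inv₀, map_natCast, map_sum]
  congr 1
  refine Finset.sum_congr rfl fun x _ => ?_
  by_cases hx : x⁻¹ * g * x ∈ M
  · rw [ext_mem M _ hx, ext_mem M _ hx]
  · rw [ext_notMem M _ hx, ext_notMem M _ hx, map_zero]

theorem fix_le (M : Subgroup P) (θ : M → ℂ) : fixF θ ≤ fixF (indFun M θ) := by
  intro σ hσ
  rw [mem_fixF] at hσ ⊢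
  intro g
  rw [map_indFun]
  congr 1
  funext m
  exact hσ m

/-- base case -/
theorem base {p a : ℕ} (hp : p.Prime) (ha : 0 < a) (hP : Nat.card P = p ^ a) {χ : P → ℂ}
    (hχ : IsIrrCharacter P χ) (hfaith : ∀ g, χ g = χ 1 → g = 1) (h1 : χ 1 = 1) :
    (fixF χ).index = (p - 1) * p ^ (a - 1) := by
  obtain ⟨f, hf⟩ := exists_hom_of_degree_one (isCharacter_of_isIrr hχ) h1
  have hinj : Function.Injective ((Units.coeHom ℂ).comp f) := by
    rw [injective_iff_map_eq_one]
    intro g hg
    apply hfaith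
    rw [h1, hf]
    exact hg
  haveI : IsCyclic P := isCyclic_of_injective_ringHom _ hinj
  obtain ⟨g, hg⟩ := IsCyclic.exists_generator (α := P)
  have hord : orderOf g = p ^ a := by rw [orderOf_eq_card_of_forall_mem_zpowers hg, hP]
  have hprim : IsPrimitiveRoot (χ g) (p ^ a) := by
    have h2 : orderOf (χ g) = p ^ a := by
      have h3 := orderOf_injective ((Units.coeHom ℂ).comp f) hinj g
      rw [hf, ← hord]
      exact h3
    rw [← h2]
    exact IsPrimitiveRoot.orderOf _
  have hfix : fixF χ = fixS {χ g} := by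
    apply le_antisymm
    · exact fixS_anti (by rintro _ rfl; exact ⟨g, rfl⟩)
    · intro σ hσ
      rw [mem_fixF]
      intro x
      have hx := hg x
      rw [← mem_powers_iff_mem_zpowers] at hx
      obtain ⟨i, rfl⟩ := hx
      have h4 : χ (g ^ i) = χ g ^ i := by rw [hf]; simp
      show σ (χ (g ^ i)) = χ (g ^ i)
      rw [h4, map_pow, hσ _ rfl]
  rw [hfix, index_root (pow_ne_zero a hp.ne_zero) hprim, Nat.totient_prime_pow hp ha, mul_comm]

section step

variable {p : ℕ} (M : Subgroup P) [hM : M.Normal] {θ : M → ℂ} (hθ : IsIrrCharacter M θ)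
  (hχ : IsIrrCharacter P (indFun M θ))

include hθ hχ

theorem inertia_eq : inertia M θ = M := by
  classical
  letI := Fintype.ofFinite M
  have h1 := norm_ind M hθ
  rw [inner_irr_self hχ, mul_one] at h1
  have h2 : Nat.card M = Nat.card (inertia M θ) := by exact_mod_cast h1
  exact (Subgroup.eq_of_le_of_card_ge (le_inertia M (isClassFunction_of_isIrr hθ)) h2.ge).symm

theorem conj_of_fix {σ : ℂ ≃+* ℂ} (hσ : σ ∈ fixF (indFun M θ)) :
    ∃ x, (fun m => σ (θ m)) = conjFunN M x θ := by
  classical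
  letI := Fintype.ofFinite M
  have hirr : IsIrrCharacter M (fun m => σ (θ m)) := isIrrCharacter_ringHom (σ : ℂ →+* ℂ) hθ
  have hind : indFun M (fun m => σ (θ m)) = indFun M θ := by
    funext g
    rw [← map_indFun]
    exact mem_fixF.1 hσ g
  have h1 : classInner (fun m : M => indFun M θ m) θ ≠ 0 := by
    apply classInner_ne_zero_symm.1
    rw [← frobenius M θ (isClassFunction_of_isIrr hχ), inner_irr_self hχ]
    exact one_ne_zero
  have h2 : classInner (fun m : M => indFun M θ m) (fun m => σ (θ m)) ≠ 0 := by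
    apply classInner_ne_zero_symm.1
    rw [← frobenius M _ (isClassFunction_of_isIrr hχ), hind, inner_irr_self hχ]
    exact one_ne_zero
  exact constituents_conj M hχ hθ hirr h1 h2

theorem notMem_of {σ : ℂ ≃+* ℂ} (hσ : σ ∉ fixF θ) {x : P}
    (hx : (fun m => σ (θ m)) = conjFunN M x θ) : x ∉ M := by
  intro h
  apply hσ
  rw [cj_mem M (isClassFunction_of_isIrr hθ) h] at hx
  rw [mem_fixF]
  exact fun m => congrFun hx m

theorem relIndex_eq (hp : p.Prime) (hidx : M.index = p) {σ : ℂ ≃+* ℂ} (hσ : σ ∈ fixF (indFun M θ))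
    (hσ' : σ ∉ fixF θ) : (fixF θ).relIndex (fixF (indFun M θ)) = p := by
  classical
  obtain ⟨x, hx⟩ := conj_of_fix M hθ hχ hσ
  have hxM := notMem_of M hθ hχ hσ' hx
  have hpow : ∀ i : ℕ, conjFunN M (x ^ i) θ = fun m => (σ ^ i) (θ m) := by
    intro i
    induction i with
    | zero =>
      rw [pow_zero, cj_one]
      rfl
    | succ i ih =>
      rw [pow_succ, ← cj_mul, ih]
      funext m
      have h1 := congrFun hx m
      rw [cj_apply] at h1 ⊢
      show (σ ^ i) (θ _) = (σ ^ (i + 1)) (θ m)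
      rw [← h1, pow_succ]
      rfl
  have hstab : (fixF θ).subgroupOf (fixF (indFun M θ)) =
      MulAction.stabilizer (fixF (indFun M θ)) θ := by
    ext τ
    rw [Subgroup.mem_subgroupOf, mem_fixF, MulAction.mem_stabilizer_iff]
    constructor
    · intro h; funext m; exact h m
    · intro h m; exact congrFun h m
  rw [Subgroup.relIndex, hstab, MulAction.index_stabilizer]
  have horb : MulAction.orbit (fixF (indFun M θ)) θ = (orb M θ : Set (M → ℂ)) := by
    ext φ
    rw [Finset.mem_coe, mem_orb]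
    constructor
    · rintro ⟨τ, rfl⟩
      obtain ⟨y, hy⟩ := conj_of_fix M hθ hχ τ.2
      exact ⟨y, hy⟩
    · rintro ⟨y, rfl⟩
      obtain ⟨j, hj⟩ := H77.DegP.exists_pow_mem hp M hidx hxM y⁻¹
      refine ⟨⟨σ ^ j, Subgroup.pow_mem _ hσ j⟩, ?_⟩
      have h1 : x ^ j = y * (y⁻¹ * x ^ j) := by group
      have h2 := hpow j
      rw [h1, ← cj_mul, cj_mem M (isClassFunction_of_isIrr (isIrrCharacter_conjN M y hθ)) hj] at h2
      rw [h2]
      rfl
  rw [horb, Set.ncard_coe_finset, card_orb, inertia_eq M hθ hχ, hidx]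

theorem faithful_of (hp : p.Prime) (hidx : M.index = p) {σ : ℂ ≃+* ℂ} (hσ : σ ∈ fixF (indFun M θ))
    (hσ' : σ ∉ fixF θ) (hfaith : ∀ g, indFun M θ g = indFun M θ 1 → g = 1) :
    ∀ m, θ m = θ 1 → m = 1 := by
  classical
  letI := Fintype.ofFinite M
  obtain ⟨x, hx⟩ := conj_of_fix M hθ hχ hσ
  have hxM := notMem_of M hθ hχ hσ' hx
  have hxk : ∀ m : M, θ m = θ 1 → ∀ j : ℕ, conjFunN M (x ^ j) θ m = θ 1 := by
    intro m hm j
    induction j generalizing m with
    | zero => rw [pow_zero, cj_one, hm]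
    | succ j ih =>
      rw [pow_succ', ← cj_mul]
      show conjFunN M x θ ⟨x ^ j * m * (x ^ j)⁻¹, _⟩ = θ 1
      rw [← hx]
      have h1 : θ ⟨x ^ j * m * (x ^ j)⁻¹, hM.conj_mem m m.2 (x ^ j)⟩ = θ 1 := ih m hm
      show σ (θ _) = θ 1
      rw [h1]
      obtain ⟨d, hd⟩ := exists_degree (isCharacter_of_isIrr hθ)
      rw [hd, map_natCast]
  intro m hm
  apply Subtype.ext
  apply hfaith
  rw [ind_restrict_apply M θ m]
  have h3 : indFun M θ 1 = (Nat.card M : ℂ)⁻¹ * ∑ x : P, conjFunN M x θ 1 :=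
    ind_restrict_apply M θ 1
  rw [h3]
  congr 1
  refine Finset.sum_congr rfl fun y _ => ?_
  obtain ⟨j, hj⟩ := H77.DegP.exists_pow_mem hp M hidx hxM y⁻¹
  have h1 : x ^ j = y * (y⁻¹ * x ^ j) := by group
  have h2 := hxk m hm j
  rw [h1, ← cj_mul, cj_mem M (isClassFunction_of_isIrr (isIrrCharacter_conjN M y hθ)) hj] at h2
  rw [h2, cj_at_one]

theorem index_le (hfaith : ∀ g, indFun M θ g = indFun M θ 1 → g = 1) :
    Nat.card M ≤ (kerSub θ (isCharacter_of_isIrr hθ)).index ^ M.index := by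
  classical
  letI := Fintype.ofFinite M
  letI := Fintype.ofFinite (P ⧸ M)
  let K : P → Subgroup M := fun y =>
    kerSub (conjFunN M y θ) (isCharacter_of_isIrr (isIrrCharacter_conjN M y hθ))
  have hK : ∀ y, (K y).index = (kerSub θ (isCharacter_of_isIrr hθ)).index := by
    intro y
    have h1 : K y = (kerSub θ (isCharacter_of_isIrr hθ)).comap
        (MulAut.conjNormal y : MulAut M).toMonoidHom := by
      ext m
      show conjFunN M y θ m = conjFunN M y θ 1 ↔ θ _ = θ 1
      rw [cj_at_one]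
      rfl
    rw [h1]
    exact Subgroup.index_comap_of_surjective _ (MulAut.conjNormal y : MulAut M).surjective
  have hbot : (⨅ q : P ⧸ M, K q.out) = ⊥ := by
    rw [eq_bot_iff]
    intro m hm
    rw [Subgroup.mem_iInf] at hm
    rw [Subgroup.mem_bot]
    apply Subtype.ext
    apply hfaith
    rw [ind_restrict_apply M θ m]
    have h3 : indFun M θ 1 = (Nat.card M : ℂ)⁻¹ * ∑ x : P, conjFunN M x θ 1 :=
      ind_restrict_apply M θ 1
    rw [h3]
    congr 1
    refine Finset.sum_congr rfl fun y _ => ?_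
    have h1 : conjFunN M ((y : P ⧸ M).out) θ m = conjFunN M ((y : P ⧸ M).out) θ 1 := hm (y : P ⧸ M)
    have h2 : y⁻¹ * (y : P ⧸ M).out ∈ M := by
      rw [← QuotientGroup.eq, QuotientGroup.out_eq']
    have h4 : (y : P ⧸ M).out = y * (y⁻¹ * (y : P ⧸ M).out) := by group
    rw [h4, ← cj_mul, cj_mem M (isClassFunction_of_isIrr (isIrrCharacter_conjN M y hθ)) h2] at h1
    exact h1
  have h1 := Subgroup.index_iInf_le (fun q : P ⧸ M => K q.out)
  rw [hbot, Subgroup.index_bot, Finset.prod_congr rfl (fun q _ => hK q.out), Finset.prod_const,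
    Finset.card_univ, ← Nat.card_eq_fintype_card] at h1
  exact h1

end step

theorem exists_index_p {p a : ℕ} (hp : p.Prime) (hP : Nat.card P = p ^ a) {χ : P → ℂ}
    (hχ : IsIrrCharacter P χ) (h1 : χ 1 ≠ 1) : ∃ (M : Subgroup P) (θ : M → ℂ), M.Normal ∧
      M.index = p ∧ IsIrrCharacter M θ ∧ indFun M θ = χ := by
  classical
  haveI : Fact p.Prime := ⟨hp⟩
  have hpg : IsPGroup p P := IsPGroup.of_card hP
  haveI : Group.IsNilpotent P := hpg.isNilpotent
  obtain ⟨U, lam, hU⟩ := H4.Monomial.isMon_of_nilpotent hχ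
  letI := Fintype.ofFinite U
  have hUt : U ≠ ⊤ := by
    rintro rfl
    apply h1
    rw [hU, indFun_one, Subgroup.index_top]
    simp
  have ha : a ≠ 0 := by
    rintro rfl
    rw [pow_zero] at hP
    haveI : Subsingleton P := (Nat.card_eq_one_iff_unique.1 hP).1
    exact hUt (Subsingleton.elim _ _)
  obtain ⟨b, rfl⟩ := Nat.exists_eq_succ_of_ne_zero ha
  obtain ⟨c, hc⟩ := IsPGroup.iff_card.1 (hpg.to_subgroup U)
  have hcb : c ≤ b := by
    have h2 : p ^ c ∣ p ^ (b + 1) := by
      rw [← hc, ← hP]; exact Subgroup.card_subgroup_dvd_card U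
    have h3 : c ≤ b + 1 := (Nat.pow_dvd_pow_iff_le_right hp.one_lt).1 h2
    rcases Nat.lt_or_ge b c with h | h
    · exfalso
      have h4 : c = b + 1 := by omega
      apply hUt
      apply Subgroup.eq_top_of_card_eq
      rw [hc, hP, h4]
    · exact h
  obtain ⟨M, hMc, hUM⟩ := Sylow.exists_subgroup_card_pow_prime_le p (n := c) (m := b)
    (by rw [hP]; exact pow_dvd_pow p (Nat.le_succ b)) U hc hcb
  have hidx : M.index = p := by
    have h2 := Subgroup.card_mul_index M
    rw [hMc, hP, pow_succ] at h2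
    exact Nat.eq_of_mul_eq_mul_left (pow_pos hp.pos b) h2
  have hMn : M.Normal := by
    apply Subgroup.normal_of_index_eq_minFac_card
    rw [hidx, hP]
    exact (hp.pow_minFac (Nat.succ_ne_zero b)).symm
  letI := Fintype.ofFinite M
  have h2 := indFun_trans U M hUM (fun u => (lam u : ℂ))
  rw [← hU] at h2
  refine ⟨M, _, hMn, hidx, ?_, h2⟩
  apply H19.Berger.irr_of_ind M _ (by rw [h2]; exact hχ)
  apply isCharacter_ind
  have h3 : (fun x : U.subgroupOf M => (lam ⟨(x : M), Subgroup.mem_subgroupOf.mp x.2⟩ : ℂ)) =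
      fun x => ((lam.comp (Subgroup.subgroupOfEquivOfLe hUM).toMonoidHom) x : ℂ) := rfl
  rw [h3]
  have h4 := isCharacter_hom_mul (lam.comp (Subgroup.subgroupOfEquivOfLe hUM).toMonoidHom)
    (isCharacter_of_isIrr (isIrrCharacter_one (G := U.subgroupOf M)))
  simpa using h4

/-- the arithmetic of the induction step, same fields -/
theorem arith1 {p a b f t : ℕ} (hp : 1 < p) (hf : 0 < f) (hab : a ≤ 1 + b * p)
    (h : (p - 1) * b ≤ (f - 1) + (p - 1) * (t + 1) * f) :
    (p - 1) * a ≤ (p * f - 1) + (p - 1) * (t + 1) * (p * f) := by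
  obtain ⟨q, rfl⟩ : ∃ q, p = q + 1 := ⟨p - 1, by omega⟩
  obtain ⟨g, rfl⟩ : ∃ g, f = g + 1 := ⟨f - 1, by omega⟩
  simp only [Nat.add_sub_cancel] at h ⊢
  have h1 : q * a ≤ q * (1 + b * (q + 1)) := Nat.mul_le_mul_left q hab
  have h2 : (q + 1) * (g + 1) - 1 = q * g + q + g := by
    have : (q + 1) * (g + 1) = q * g + q + g + 1 := by ring
    omega
  rw [h2]
  nlinarith

/-- the arithmetic of the induction step, bigger field -/
theorem arith2 {p a f t : ℕ} (hp : 1 < p) (hf : 0 < f)
    (h : (p - 1) * a ≤ (f - 1) + (p - 1) * (t + 1 + 1) * f) :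
    (p - 1) * (a + 1) ≤ (p * f - 1) + (p - 1) * (t + 1) * (p * f) := by
  obtain ⟨q, rfl⟩ : ∃ q, p = q + 1 := ⟨p - 1, by omega⟩
  obtain ⟨g, rfl⟩ : ∃ g, f = g + 1 := ⟨f - 1, by omega⟩
  simp only [Nat.add_sub_cancel] at h ⊢
  have h2 : (q + 1) * (g + 1) - 1 = q * g + q + g := by
    have : (q + 1) * (g + 1) = q * g + q + g + 1 := by ring
    omega
  rw [h2]
  have hq : 1 ≤ q := by omega
  have h3 : q * (a + 1) = q * a + q := by ring
  rw [h3]
  have h4 : q * (t + 1 + 1) * (g + 1) = q * (t + 1) * (g + 1) + q * (g + 1) := by ring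
  have h5 : q * (t + 1) * ((q + 1) * (g + 1)) = q * (t + 1) * (g + 1) + q * (q * ((t + 1) * (g + 1))) := by
    ring
  have h6 : q * 1 ≤ q * (q * ((t + 1) * (g + 1))) := by
    apply Nat.mul_le_mul_left
    have : 1 ≤ (t + 1) * (g + 1) := Nat.mul_pos (Nat.succ_pos t) (Nat.succ_pos g)
    exact Nat.mul_pos hq this
  rw [h4] at h
  rw [h5]
  have h7 : q * (g + 1) = q * g + q := by ring
  omega

/-- the bound of S4489, with the degree of the field of values as an index in `Aut ℂ` -/
theorem bound {p : ℕ} (hp : p.Prime) : ∀ (a : ℕ) (P : Type u) [Group P] [Fintype P],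
    0 < a → Nat.card P = p ^ a → ∀ χ : P → ℂ, IsIrrCharacter P χ →
    (∀ g, χ g = χ 1 → g = 1) → ∀ f t : ℕ, χ 1 = f → (fixF χ).index = (p - 1) * p ^ t →
    (p - 1) * a ≤ (f - 1) + (p - 1) * (t + 1) * f := by
  intro a
  induction a using Nat.strong_induction_on with
  | _ a ih =>
  intro P _ _ ha hP χ hχ hfaith f t hf ht
  classical
  haveI : Fact p.Prime := ⟨hp⟩
  have hp1 : 0 < p - 1 := Nat.sub_pos_of_lt hp.one_lt
  by_cases h1 : χ 1 = 1
  · rw [base hp ha hP hχ hfaith h1] at ht
    have h2 : p ^ (a - 1) = p ^ t := Nat.eq_of_mul_eq_mul_left hp1 ht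
    have h3 : a - 1 = t := Nat.pow_right_injective hp.two_le h2
    have h4 : f = 1 := by rw [h1] at hf; exact_mod_cast hf.symm
    rw [h4]
    have h5 : t + 1 = a := by omega
    rw [h5]
    omega
  obtain ⟨M, θ, hM, hidx, hθ, hind⟩ := exists_index_p hp hP hχ h1
  haveI := hM
  letI := Fintype.ofFinite M
  subst hind
  obtain ⟨f', hf'0, hf'⟩ := exists_degree_pos hθ
  have hff : f = p * f' := by
    rw [indFun_one, hidx, hf'] at hf
    exact_mod_cast hf.symm
  have hcM : Nat.card M = p ^ (a - 1) := by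
    have h2 := Subgroup.card_mul_index M
    rw [hidx, hP] at h2
    have h3 : p ^ a = p ^ (a - 1) * p := by rw [← pow_succ, Nat.sub_add_cancel ha]
    rw [h3] at h2
    exact Nat.eq_of_mul_eq_mul_right hp.pos h2
  -- a > 1
  have ha1 : 0 < a - 1 := by
    by_contra hcon
    have h2 : a = 1 := by omega
    rw [h2, pow_one] at hP
    haveI : IsCyclic P := isCyclic_of_prime_card hP
    have h3 := degree_one_of_comm (G := P) (fun x y => by
      letI := IsCyclic.commGroup (α := P)
      exact mul_comm x y) hχ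
    exact h1 h3
  by_cases hfix : fixF (indFun M θ) ≤ fixF θ
  · -- same field
    have hK := index_le M hθ hχ hfaith
    set K := kerSub θ (isCharacter_of_isIrr hθ) with hKdef
    rw [hcM, hidx] at hK
    have hKd : K.index ∣ p ^ (a - 1) := by rw [← hcM]; exact K.index_dvd_card
    obtain ⟨b, hb, hKb⟩ := (Nat.dvd_prime_pow hp).1 hKd
    rw [hKb, ← pow_mul] at hK
    have hab : a - 1 ≤ b * p := (Nat.pow_le_pow_iff_right hp.one_lt).1 hK
    have hb0 : 0 < b := by
      rcases Nat.eq_zero_or_pos b with h | h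
      · rw [h, zero_mul] at hab; omega
      · exact h
    letI := Fintype.ofFinite (M ⧸ K)
    have hKt : ∀ n ∈ K, θ n = θ 1 := fun n hn => hn
    have hirr := isIrrCharacter_deflate K hθ hKt
    have hmk : ∀ m : M, deflate K θ (m : M ⧸ K) = θ m :=
      fun m => deflate_mk K (isCharacter_of_isIrr hθ) hKt m
    have hrange : fixF (deflate K θ) = fixF θ := by
      apply le_antisymm
      · intro σ hσ
        rw [mem_fixF] at hσ ⊢
        intro m
        rw [← hmk]; exact hσ _
      · intro σ hσ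
        rw [mem_fixF] at hσ ⊢
        intro q
        obtain ⟨m, rfl⟩ := QuotientGroup.mk_surjective q
        rw [hmk]; exact hσ _
    have hfeq : fixF θ = fixF (indFun M θ) := le_antisymm (fix_le M θ) hfix
    have h2 := ih b (by omega) (M ⧸ K) hb0 hKb (deflate K θ) hirr (by
      intro q hq
      obtain ⟨m, rfl⟩ := QuotientGroup.mk_surjective q
      rw [hmk, ← QuotientGroup.mk_one, hmk] at hq
      exact (QuotientGroup.eq_one_iff m).2 hq) f' t (by
      rw [← QuotientGroup.mk_one, hmk, hf']) (by rw [hrange, hfeq, ht])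
    rw [hff]
    exact arith1 hp.one_lt hf'0 (by omega) h2
  · obtain ⟨σ, hσ, hσ'⟩ := Set.not_subset.1 hfix
    have hrel := relIndex_eq M hθ hχ hp hidx hσ hσ'
    have hfa := faithful_of M hθ hχ hp hidx hσ hσ' hfaith
    have h2 := ih (a - 1) (by omega) M ha1 hcM θ hθ hfa f' (t + 1) hf' (by
      rw [← Subgroup.relIndex_mul_index (fix_le M θ), hrel, ht, pow_succ]; ring)
    rw [hff]
    have h3 := arith2 hp.one_lt hf'0 h2
    rwa [Nat.sub_add_cancel ha] at h3

end H77.FieldBound

namespace H77.FieldBound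

open Cfsg H18.CharBasic H77.GalIdx

theorem index_fixF {G : Type*} [Group G] [Finite G] {χ : G → ℂ} (hχ : IsCharacter G χ) :
    (fixF χ).index = Module.finrank ℚ (IntermediateField.adjoin ℚ (Set.range χ)) := by
  apply index_eq_finrank (Set.finite_range χ)
  rintro _ ⟨g, rfl⟩
  exact (char_isIntegral hχ g).tower_top

end H77.FieldBound
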