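import Cfsg.Agent.Lib.H84.FixField
import Cfsg.Agent.Lib.H78.Galois
import Cfsg.Agent.Lib.H31.Clifford
import Cfsg.Agent.Lib.H19.Berger1
import Cfsg.Agent.Lib.H4.Monomial

/-!
# Degrees of fields of values as indices in `Aut ℂ` (helper77)
-/

set_option autoImplicit false
set_option linter.style.haveILetI false
set_option linter.unusedSectionVars false
set_option linter.unusedVariables false
open Cfsg IntermediateField

namespace H77.GalIdx

universe u

/-- pointwise stabilizer in `Aut ℂ` of a set of complex numbers -/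
def fixS (s : Set ℂ) : Subgroup (ℂ ≃+* ℂ) where
  carrier := {σ | ∀ z ∈ s, σ z = z}
  mul_mem' := by
    intro a b ha hb z hz
    show a (b z) = z
    rw [hb z hz, ha z hz]
  one_mem' := fun z _ => rfl
  inv_mem' := by
    intro a ha z hz
    show a.symm z = z
    conv_lhs => rw [← ha z hz]
    exact a.symm_apply_apply z

theorem mem_fixS {s : Set ℂ} {σ : ℂ ≃+* ℂ} : σ ∈ fixS s ↔ ∀ z ∈ s, σ z = z := Iff.rfl

theorem fixS_anti {s t : Set ℂ} (h : s ⊆ t) : fixS t ≤ fixS s := fun _ hσ z hz => hσ z (h hz)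

theorem index_eq_finrank {s : Set ℂ} (hs : s.Finite) (hint : ∀ z ∈ s, IsIntegral ℚ z) :
    (fixS s).index = Module.finrank ℚ (adjoin ℚ s) := by
  classical
  have hfd : FiniteDimensional ℚ (adjoin ℚ s) := by
    haveI := hs.to_subtype
    exact IntermediateField.finiteDimensional_adjoin hint
  haveI hcount : Countable (adjoin ℚ s) := H84.FixField.countable_adjoin hint
  let Φ : (ℂ ≃+* ℂ) → (adjoin ℚ s →ₐ[ℚ] ℂ) := fun σ =>
    (RingHom.toRatAlgHom (σ : ℂ →+* ℂ)).comp (adjoin ℚ s).val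
  have hΦ : ∀ σ (x : adjoin ℚ s), Φ σ x = σ x := fun σ x => rfl
  have hsurj : Function.Surjective Φ := by
    intro f
    obtain ⟨σ, hσ⟩ := H78.Galois.exists_ringEquiv_of_embeddings (adjoin ℚ s).val.toRingHom f.toRingHom
    refine ⟨σ, ?_⟩
    ext x
    exact hσ x
  have hker : ∀ σ τ : ℂ ≃+* ℂ, σ⁻¹ * τ ∈ fixS s ↔ Φ σ = Φ τ := by
    intro σ τ
    constructor
    · intro h
      ext x
      rw [hΦ, hΦ]
      have h1 := H84.FixField.fix_adjoin (σ⁻¹ * τ) h x x.2
      have h2 : σ.symm (τ (x : ℂ)) = x := h1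
      rw [← h2, σ.apply_symm_apply, h2]
    · intro h z hz
      have h1 := DFunLike.congr_fun h ⟨z, subset_adjoin ℚ s hz⟩
      rw [hΦ, hΦ] at h1
      show σ.symm (τ z) = z
      rw [← h1]
      exact σ.symm_apply_apply z
  have hcard : Nat.card ((ℂ ≃+* ℂ) ⧸ fixS s) = Nat.card (adjoin ℚ s →ₐ[ℚ] ℂ) := by
    let Ψ : (ℂ ≃+* ℂ) ⧸ fixS s → (adjoin ℚ s →ₐ[ℚ] ℂ) := Quotient.lift Φ (by
      intro a b hab
      exact (hker a b).1 (QuotientGroup.leftRel_apply.1 hab))
    apply Nat.card_congr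
    refine Equiv.ofBijective Ψ ⟨?_, ?_⟩
    · rintro ⟨a⟩ ⟨b⟩ hab
      exact Quotient.sound (QuotientGroup.leftRel_apply.2 ((hker a b).2 hab))
    · intro f
      obtain ⟨σ, hσ⟩ := hsurj f
      exact ⟨QuotientGroup.mk σ, hσ⟩
  rw [Subgroup.index, hcard, Nat.card_eq_fintype_card, AlgHom.card]

/-- stabilizer of a primitive root of unity -/
theorem index_root {n : ℕ} (hn : n ≠ 0) {z : ℂ} (hz : IsPrimitiveRoot z n) :
    (fixS {z}).index = n.totient := by
  haveI : NeZero n := ⟨hn⟩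
  have h1 : fixS {z} = MulAction.stabilizer (ℂ ≃+* ℂ) z := by
    ext σ
    rw [mem_fixS, MulAction.mem_stabilizer_iff]
    constructor
    · intro h; exact h z rfl
    · rintro h _ rfl; exact h
  rw [h1, MulAction.index_stabilizer]
  have h2 : MulAction.orbit (ℂ ≃+* ℂ) z = (primitiveRoots n ℂ : Set ℂ) := by
    ext w
    rw [Finset.mem_coe, mem_primitiveRoots (Nat.pos_of_ne_zero hn)]
    constructor
    · rintro ⟨σ, rfl⟩
      exact hz.map_of_injective σ.injective
    · intro hw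
      obtain ⟨k, _, hkc, hke⟩ := (hz.isPrimitiveRoot_iff).1 hw
      obtain ⟨σ, hσ⟩ := H78.Galois.exists_ringEquiv hn hkc
      refine ⟨σ, ?_⟩
      show σ z = w
      rw [hσ z hz.pow_eq_one, hke]
  rw [h2, Set.ncard_coe_finset, hz.card_primitiveRoots]

/-- the automorphisms fixing all values of `χ` -/
abbrev fixF {X : Type*} (χ : X → ℂ) : Subgroup (ℂ ≃+* ℂ) := fixS (Set.range χ)

theorem mem_fixF {X : Type*} {χ : X → ℂ} {σ : ℂ ≃+* ℂ} : σ ∈ fixF χ ↔ ∀ x, σ (χ x) = χ x := by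
  rw [mem_fixS]
  constructor
  · intro h x; exact h _ ⟨x, rfl⟩
  · rintro h _ ⟨x, rfl⟩; exact h x

end H77.GalIdx
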