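import Cfsg.Agent.Lib.H77.SubChar
import Cfsg.Agent.Lib.H77.PQuot
import Cfsg.Agent.Lib.H18.CharInd
import Cfsg.Agent.Lib.H1.Cores
import Cfsg.Agent.Lib.H1.Solv
import Cfsg.Agent.Lib.H18.Primitive
import Cfsg.Agent.Lib.H31.Clifford

/-!
# Garrison's theorem (H77.Garrison)
-/

set_option autoImplicit false
set_option linter.style.haveILetI false
set_option linter.unusedSectionVars false
open Cfsg

namespace H77.Garrison

open H18.CharBasic H18.CharOrtho H18.CharInd H18.CharQuot H77.PQuot

universe u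

variable {G : Type u} [Group G] [Finite G]

/-- restriction to a supplement of the kernel -/
theorem restrict_irr (H K : Subgroup G) [K.Normal] (hKH : K ⊔ H = ⊤) {χ : G → ℂ}
    (hχ : IsIrrCharacter G χ) (hK : ∀ k ∈ K, χ k = χ 1) :
    IsIrrCharacter H (fun h : H => χ h) := by
  have hd := isIrrCharacter_deflate K hχ hK
  let f : H →* G ⧸ K := (QuotientGroup.mk' K).comp H.subtype
  have hf : Function.Surjective f := by
    intro q
    obtain ⟨g, rfl⟩ := QuotientGroup.mk_surjective q
    have hg : g ∈ ((K ⊔ H : Subgroup G) : Set G) := by rw [hKH]; trivial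
    rw [Subgroup.normal_mul K H] at hg
    obtain ⟨k, hk, h, hh, rfl⟩ := Set.mem_mul.1 hg
    refine ⟨⟨h, hh⟩, ?_⟩
    change ((h : G) : G ⧸ K) = ((k * h : G) : G ⧸ K)
    rw [QuotientGroup.mk_mul, (QuotientGroup.eq_one_iff k).2 hk, one_mul]
  have h1 := isIrrCharacter_comp f hf hd
  have h2 : (fun x : H => deflate K χ (f x)) = fun h : H => χ h := by
    funext h
    exact deflate_mk K (isCharacter_of_isIrr hχ) hK (h : G)
  rw [h2] at h1
  exact h1

theorem dichotomy (H : Subgroup G) [Fintype H] {χ : G → ℂ} (hχ : IsIrrCharacter G χ)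
    (hres : IsIrrCharacter H (fun h : H => χ h)) :
    (∃ ψ : IrrCharacter G, classInner (fun h : H => ψ.1 h) (fun h : H => χ h) ≠ 0 ∧
      charDegree χ < charDegree ψ.1) ∨ ∀ h : H, χ h ≠ 0 → ∀ g : G, g * h * g⁻¹ ∈ H := by
  classical
  letI := Fintype.ofFinite G
  haveI : Finite (IrrCharacter G) := instFiniteIrr
  letI := Fintype.ofFinite (IrrCharacter G)
  by_cases hex : ∃ ψ : IrrCharacter G, classInner (fun h : H => ψ.1 h) (fun h : H => χ h) ≠ 0 ∧
      charDegree χ < charDegree ψ.1
  · left; exact hex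
  right
  push Not at hex
  -- constituents of the induced character restrict to `χ_H`
  have h1 : ∀ ψ : IrrCharacter G, classInner (fun h : H => ψ.1 h) (fun h : H => χ h) ≠ 0 →
      ∀ h : H, ψ.1 h = χ h := by
    intro ψ hψ
    have h2 := hex ψ hψ
    have h3 : charDegree χ ≤ charDegree ψ.1 :=
      H77.SubChar.degree_le (isCharacter_restrict H (isCharacter_of_isIrr ψ.2)) hres hψ
        (cast_irr' ψ.2).symm (cast_irr' hχ).symm
    have h4 : (ψ.1 : G → ℂ) 1 = χ 1 := by
      rw [← cast_irr' ψ.2, ← cast_irr' hχ, le_antisymm h2 h3]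
    have h5 := H77.SubChar.eq_of_degree (isCharacter_restrict H (isCharacter_of_isIrr ψ.2)) hres hψ h4
    exact fun h => congrFun h5 h
  let θ : H → ℂ := fun h => χ h
  have hexp := H4.CharOrth.classFunction_eq_sum (isClassFunction_indFun H θ)
  have hcoef : ∀ ψ : IrrCharacter G, classInner (indFun H θ) ψ.1 =
      (starRingEnd ℂ) (classInner (fun h : H => ψ.1 h) θ) := by
    intro ψ
    rw [frobenius H θ (isClassFunction_of_isIrr ψ.2), H18.CharOrtho.inner_conj_symm]
  have hval : ∀ h : H, indFun H θ h = (∑ ψ : IrrCharacter G, classInner (indFun H θ) ψ.1) * χ h := by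
    intro h
    have h2 := congrFun hexp (h : G)
    rw [Finset.sum_apply] at h2
    rw [h2, Finset.sum_mul]
    refine Finset.sum_congr rfl fun ψ _ => ?_
    rw [Pi.smul_apply, smul_eq_mul]
    by_cases h0 : classInner (fun h : H => ψ.1 h) θ = 0
    · rw [hcoef, h0, map_zero, zero_mul, zero_mul]
    · rw [h1 ψ h0 h]
  have hsum : (∑ ψ : IrrCharacter G, classInner (indFun H θ) ψ.1) = H.index := by
    have h2 := hval 1
    have h3 : indFun H θ ((1 : H) : G) = (H.index : ℂ) * θ 1 := indFun_one H θ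
    rw [h3] at h2
    have h4 : χ ((1 : H) : G) ≠ 0 := irr_one_ne_zero hχ
    exact (mul_right_cancel₀ h4 h2).symm
  intro h hh g
  have h2 := hval h
  rw [hsum, indFun_apply'] at h2
  have h3 : ∀ x : G, extendByZero H θ (x * h * x⁻¹) = if x * h * x⁻¹ ∈ H then χ h else 0 := by
    intro x
    by_cases hx : x * h * x⁻¹ ∈ H
    · rw [if_pos hx, ext_mem H θ hx]
      exact isClassFunction_of_isIrr hχ h x
    · rw [if_neg hx, ext_notMem H θ hx]
  rw [Finset.sum_congr rfl fun x _ => h3 x, ← Finset.sum_filter, Finset.sum_const, nsmul_eq_mul] at h2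
  have hH0 : (Nat.card H : ℂ) ≠ 0 := by exact_mod_cast Nat.card_pos.ne'
  have h4 : ((Finset.univ.filter fun x : G => x * h * x⁻¹ ∈ H).card : ℂ) = Nat.card G := by
    rw [← mul_assoc] at h2
    have h5 := mul_right_cancel₀ hh h2
    rw [inv_mul_eq_iff_eq_mul₀ hH0] at h5
    rw [h5]
    exact_mod_cast Subgroup.card_mul_index H
  have h5 : (Finset.univ.filter fun x : G => x * h * x⁻¹ ∈ H).card = Nat.card G := by exact_mod_cast h4
  have h6 : (Finset.univ.filter fun x : G => x * h * x⁻¹ ∈ H) = Finset.univ := by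
    rw [← Finset.card_eq_iff_eq_univ, h5, Nat.card_eq_fintype_card]
  have h7 : g ∈ Finset.univ.filter fun x : G => x * h * x⁻¹ ∈ H := by rw [h6]; exact Finset.mem_univ g
  exact (Finset.mem_filter.1 h7).2

/-- the kernel statement -/
theorem kernel_lt (H K : Subgroup G) [K.Normal] [Fintype H] (hH : IsCoatom H) (hKH : K ⊔ H = ⊤)
    {χ : G → ℂ} (hχ : IsIrrCharacter G χ) (hK : ∀ g : G, g ∈ K ↔ χ g = χ 1) (ψ : IrrCharacter G)
    (hψ : classInner (fun h : H => ψ.1 h) (fun h : H => χ h) ≠ 0) (hdeg : charDegree χ < charDegree ψ.1) :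
    ∃ L : Subgroup G, (∀ g : G, g ∈ L ↔ ψ.1 g = ψ.1 1) ∧ L < K := by
  classical
  letI := Fintype.ofFinite G
  have hres := restrict_irr H K hKH hχ (fun k hk => (hK k).1 hk)
  let L := kerSub ψ.1 (isCharacter_of_isIrr ψ.2)
  have hL : ∀ g : G, g ∈ L ↔ ψ.1 g = ψ.1 1 := fun g => mem_kerSub _
  refine ⟨L, hL, ?_⟩
  have hLH : L ≤ H := by
    by_contra hcon
    have h1 : L ⊔ H = ⊤ := by
      apply hH.2
      refine lt_of_le_of_ne le_sup_right ?_
      intro h
      apply hcon
      rw [h]; exact le_sup_left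
    have h2 := restrict_irr H L h1 ψ.2 (fun k hk => (hL k).1 hk)
    have h3 : (fun h : H => ψ.1 h) = fun h : H => χ h := by
      by_contra h4
      exact hψ (inner_irr_ne h2 hres h4)
    have h4 : (ψ.1 : G → ℂ) 1 = χ 1 := congrFun h3 1
    rw [← cast_irr' ψ.2, ← cast_irr' hχ] at h4
    have h5 : charDegree ψ.1 = charDegree χ := by exact_mod_cast h4
    omega
  have hLK : L ≤ K := by
    intro g hg
    rw [hK]
    -- `g` lies in the kernel of the restriction, hence of its constituent
    have h1 := isCharacter_restrict H (isCharacter_of_isIrr ψ.2)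
    exact H18.Primitive.ker_constituent h1 hres hψ (g := ⟨g, hLH hg⟩) ((hL g).1 hg)
  refine lt_of_le_of_ne hLK ?_
  intro h
  have : K ≤ H := h ▸ hLH
  rw [sup_eq_right.2 this] at hKH
  exact hH.1 hKH

/-- Frattini argument -/
theorem frattini {p : ℕ} [Fact p.Prime] (L Q : Subgroup G) [hL : L.Normal] (hQL : Q ≤ L)
    (hQ : IsPGroup p Q) (hi : ¬ p ∣ Q.relIndex L) : Subgroup.normalizer (Q : Set G) ⊔ L = ⊤ := by
  have h1 : IsPGroup p (Q.subgroupOf L) :=
    IsPGroup.of_injective hQ (Subgroup.subgroupOfEquivOfLe hQL).toMonoidHom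
      (Subgroup.subgroupOfEquivOfLe hQL).injective
  let P : Sylow p L := h1.toSylow hi
  have h2 := Sylow.normalizer_sup_eq_top P
  have h3 : ((P : Subgroup L).map L.subtype) = Q := Subgroup.map_subgroupOf_eq_of_le hQL
  rw [h3] at h2
  exact h2

theorem core_step (K Q : Subgroup G) [K.Normal] {χ : G → ℂ} (hχ : IsIrrCharacter G χ)
    (hK : ∀ g : G, g ∈ K ↔ χ g = χ 1) (hfr : Subgroup.normalizer (Q : Set G) ⊔ K = ⊤) (hQ : ¬ Q.Normal) :
    (∃ ψ : IrrCharacter G, charDegree χ < charDegree ψ.1 ∧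
      ∃ L : Subgroup G, (∀ g : G, g ∈ L ↔ ψ.1 g = ψ.1 1) ∧ L < K) ∨
    ∃ H : Subgroup G, IsCoatom H ∧ Subgroup.normalizer (Q : Set G) ≤ H ∧
      ∀ h ∈ H, χ h ≠ 0 → h ∈ H.normalCore := by
  classical
  have hne : Subgroup.normalizer (Q : Set G) ≠ ⊤ := fun h => hQ (Subgroup.normalizer_eq_top_iff.1 h)
  obtain ⟨H, hH, hle⟩ := (eq_top_or_exists_le_coatom (Subgroup.normalizer (Q : Set G))).resolve_left hne
  letI := Fintype.ofFinite H
  have hKH : K ⊔ H = ⊤ := by
    rw [eq_top_iff, ← hfr, sup_comm]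
    exact sup_le_sup_left hle K
  have hres := restrict_irr H K hKH hχ (fun k hk => (hK k).1 hk)
  rcases dichotomy H hχ hres with ⟨ψ, h1, h2⟩ | h
  · left
    exact ⟨ψ, h2, kernel_lt H K hH hKH hχ hK ψ h1 h2⟩
  · right
    refine ⟨H, hH, hle, fun h' hh hne' => ?_⟩
    intro g
    exact h ⟨h', hh⟩ hne' g

theorem not_le_core {p : ℕ} [Fact p.Prime] (M Q H : Subgroup G) [hM : M.Normal] (hQM : Q ≤ M)
    (hQ : IsPGroup p Q) (hi : ¬ p ∣ Q.relIndex M) (hH : IsCoatom H)
    (hle : Subgroup.normalizer (Q : Set G) ≤ H) (hQC : Q ≤ H.normalCore) : False := by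
  have h1 : Q ≤ M ⊓ H.normalCore := le_inf hQM hQC
  have h2 : ¬ p ∣ Q.relIndex (M ⊓ H.normalCore) := by
    intro h
    apply hi
    exact h.trans (Dvd.intro _ (Subgroup.relIndex_mul_relIndex Q (M ⊓ H.normalCore) M h1 inf_le_left))
  have h3 := frattini (M ⊓ H.normalCore) Q h1 hQ h2
  apply hH.1
  rw [eq_top_iff, ← h3]
  exact sup_le hle (inf_le_right.trans (Subgroup.normalCore_le H))

theorem char_one_ne {χ : G → ℂ} (hχ : IsIrrCharacter G χ) : χ 1 ≠ 0 := irr_one_ne_zero hχ

theorem part1 (K : Subgroup G) [hKn : K.Normal] {χ : G → ℂ} (hχ : IsIrrCharacter G χ)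
    (hK : ∀ g : G, g ∈ K ↔ χ g = χ 1) (h : ¬ K ≤ fittingSubgroup G) :
    ∃ ψ : IrrCharacter G, charDegree χ < charDegree ψ.1 ∧
      ∃ L : Subgroup G, (∀ g : G, g ∈ L ↔ ψ.1 g = ψ.1 1) ∧ L < K := by
  classical
  -- a Sylow subgroup of `K` which is not normal in `G`
  obtain ⟨p, hp, P, hP⟩ : ∃ (p : ℕ) (_ : Fact p.Prime) (P : Sylow p K),
      ¬ ((P : Subgroup K).map K.subtype).Normal := by
    by_contra hcon
    push Not at hcon
    apply h
    apply H1.Cores.le_fittingSubgroup hKn
    have h1 := (Group.isNilpotent_of_finite_tfae (G := K)).out 0 3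
    rw [h1]
    intro p hp P
    haveI := hcon p hp P
    have h2 : (P : Subgroup K) = ((P : Subgroup K).map K.subtype).comap K.subtype :=
      (Subgroup.comap_map_eq_self_of_injective K.subtype_injective _).symm
    rw [h2]
    infer_instance
  let Q := (P : Subgroup K).map K.subtype
  have hQK : Q ≤ K := Subgroup.map_subtype_le _
  have hQp : IsPGroup p Q := P.isPGroup'.map K.subtype
  have hfr : Subgroup.normalizer (Q : Set G) ⊔ K = ⊤ := Sylow.normalizer_sup_eq_top P
  rcases core_step K Q hχ hK hfr hP with h1 | ⟨H, hH, hle, hv⟩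
  · exact h1
  · exfalso
    have hQsub : Q.subgroupOf K = P := Subgroup.comap_map_eq_self_of_injective K.subtype_injective _
    have hi : ¬ p ∣ Q.relIndex K := by
      rw [Subgroup.relIndex, hQsub]
      exact P.not_dvd_index
    refine not_le_core K Q H hQK hQp hi hH hle ?_
    intro x hx
    have hxH : x ∈ H := hle (Subgroup.le_normalizer hx)
    apply hv x hxH
    rw [(hK x).1 (hQK hx)]
    exact char_one_ne hχ

theorem part2 (K : Subgroup G) [hKn : K.Normal] {χ : G → ℂ} (hχ : IsIrrCharacter G χ)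
    (hK : ∀ g : G, g ∈ K ↔ χ g = χ 1) (hKF : K = fittingSubgroup G) (hs : Group.IsSolvable (G ⧸ K))
    (hKt : K ≠ ⊤) :
    ∃ ψ : IrrCharacter G, charDegree χ < charDegree ψ.1 ∧
      ∃ L : Subgroup G, (∀ g : G, g ∈ L ↔ ψ.1 g = ψ.1 1) ∧ L < K := by
  classical
  letI := Fintype.ofFinite G
  -- a minimal normal subgroup of G/K
  obtain ⟨Mb, hMbn, hMb0, hMbmin⟩ : ∃ Mb : Subgroup (G ⧸ K), Mb.Normal ∧ Mb ≠ ⊥ ∧
      ∀ N : Subgroup (G ⧸ K), N.Normal → N ≤ Mb → N = ⊥ ∨ N = Mb := by
    let S : Set (Subgroup (G ⧸ K)) := {N | N.Normal ∧ N ≠ ⊥}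
    have hS : S.Nonempty := by
      refine ⟨⊤, inferInstance, ?_⟩
      intro h
      apply hKt
      have h1 : (⊤ : Subgroup (G ⧸ K)).comap (QuotientGroup.mk' K) =
        (⊥ : Subgroup (G ⧸ K)).comap (QuotientGroup.mk' K) := by rw [h]
      rw [Subgroup.comap_top, MonoidHom.comap_bot, QuotientGroup.ker_mk'] at h1
      exact h1.symm
    obtain ⟨Mb, hMb⟩ := (Set.toFinite S).exists_minimal hS
    refine ⟨Mb, hMb.prop.1, hMb.prop.2, fun N hN hle => ?_⟩
    by_cases h0 : N = ⊥
    · left; exact h0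
    · right
      exact le_antisymm hle (hMb.le_of_le ⟨hN, h0⟩ hle)
  obtain ⟨hcomm, p, hpp, hexp⟩ := H1.Solv.minimal_normal_elementary hs Mb hMb0 hMbmin
  haveI := Fact.mk hpp
  let M : Subgroup G := Mb.comap (QuotientGroup.mk' K)
  haveI hMn : M.Normal := hMbn.comap _
  have hKM : K ≤ M := by
    intro k hk
    change QuotientGroup.mk' K k ∈ Mb
    rw [QuotientGroup.mk'_apply, (QuotientGroup.eq_one_iff k).2 hk]
    exact one_mem _
  have hmk : ∀ x : G, x ∈ M ↔ (x : G ⧸ K) ∈ Mb := fun x => Iff.rfl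
  have hMK : M ≠ K := by
    intro h
    apply hMb0
    rw [eq_bot_iff]
    intro q hq
    obtain ⟨g, rfl⟩ := QuotientGroup.mk_surjective q
    have : g ∈ M := (hmk g).2 hq
    rw [h] at this
    rw [Subgroup.mem_bot]
    exact (QuotientGroup.eq_one_iff g).2 this
  have hmin : ∀ N : Subgroup G, N.Normal → K ≤ N → N ≤ M → N = K ∨ N = M := by
    intro N hN hKN hNM
    have h1 : (N.map (QuotientGroup.mk' K)).Normal := hN.map _ (QuotientGroup.mk'_surjective K)
    have h2 : N.map (QuotientGroup.mk' K) ≤ Mb := by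
      rw [Subgroup.map_le_iff_le_comap]; exact hNM
    have h3 : (N.map (QuotientGroup.mk' K)).comap (QuotientGroup.mk' K) = N := by
      rw [QuotientGroup.comap_map_mk', sup_eq_right.2 hKN]
    rcases hMbmin _ h1 h2 with h | h
    · left
      rw [← h3, h, MonoidHom.comap_bot, QuotientGroup.ker_mk']
    · right
      rw [← h3, h]
  -- M / K is a p-group
  have hpow : ∀ x ∈ M, x ^ p ∈ K := by
    intro x hx
    have h1 := hexp (x : G ⧸ K) ((hmk x).1 hx)
    rw [← QuotientGroup.mk_pow] at h1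
    exact (QuotientGroup.eq_one_iff _).1 h1
  obtain ⟨P⟩ : Nonempty (Sylow p M) := inferInstance
  let Q := (P : Subgroup M).map M.subtype
  have hQM : Q ≤ M := Subgroup.map_subtype_le _
  have hQp : IsPGroup p Q := P.isPGroup'.map M.subtype
  have hQsub : Q.subgroupOf M = P := Subgroup.comap_map_eq_self_of_injective M.subtype_injective _
  have hi : ¬ p ∣ Q.relIndex M := by
    rw [Subgroup.relIndex, hQsub]
    exact P.not_dvd_index
  have hKQ : K ⊔ Q = M := by
    apply le_antisymm (sup_le hKM hQM)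
    -- relative index is a power of p and prime to p
    have h1 : (K ⊔ Q).relIndex M = 1 := by
      by_contra hne
      obtain ⟨r, hr, hrd⟩ := Nat.exists_prime_and_dvd hne
      have h2 : r = p := by
        -- (K ⊔ Q).relIndex M divides K.relIndex M, the order of M/K
        have h3 : (K ⊔ Q).relIndex M ∣ K.relIndex M := Subgroup.relIndex_dvd_of_le_left M le_sup_left
        have h4 : K.relIndex M = Nat.card Mb := by
          have h5 : Nat.card Mb = (K.subgroupOf M).index := by
            let f : M →* Mb := (QuotientGroup.mk' K).subgroupComap Mb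
            have hf : Function.Surjective f :=
              MonoidHom.subgroupComap_surjective_of_surjective _ Mb (QuotientGroup.mk'_surjective K)
            have hk : f.ker = K.subgroupOf M := by
              ext x
              rw [MonoidHom.mem_ker, Subgroup.mem_subgroupOf, Subtype.ext_iff]
              exact QuotientGroup.eq_one_iff (x : G)
            rw [← hk, Subgroup.index_ker, MonoidHom.range_eq_top.2 hf]
            exact (Nat.card_congr Subgroup.topEquiv.toEquiv).symm
          rw [h5, Subgroup.relIndex]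
        have h5 : IsPGroup p Mb := by
          intro x
          exact ⟨1, by rw [pow_one]; exact Subtype.ext (hexp x.1 x.2)⟩
        obtain ⟨k, hk⟩ := (IsPGroup.iff_card (p := p)).1 h5
        have h6 : r ∣ p ^ k := by rw [← hk, ← h4]; exact hrd.trans h3
        exact (Nat.prime_dvd_prime_iff_eq hr hpp).1 (hr.dvd_of_dvd_pow h6)
      apply hi
      rw [← h2]
      exact hrd.trans (Subgroup.relIndex_dvd_of_le_left M le_sup_right)
    exact Subgroup.relIndex_eq_one.1 h1
  have hQn : ¬ Q.Normal := by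
    intro hQn
    haveI := hQn
    apply hMK
    refine le_antisymm ?_ hKM
    rw [← hKQ]
    refine sup_le le_rfl ?_
    rw [hKF]
    exact H1.Cores.le_fittingSubgroup hQn hQp.isNilpotent
  have hfr : Subgroup.normalizer (Q : Set G) ⊔ K = ⊤ := by
    have h1 := frattini M Q hQM hQp hi
    rw [← hKQ] at h1
    rw [eq_top_iff, ← h1]
    refine sup_le le_sup_left (sup_le le_sup_right (Subgroup.le_normalizer.trans le_sup_left))
  rcases core_step K Q hχ hK hfr hQn with h1 | ⟨H, hH, hle, hv⟩
  · exact h1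
  · exfalso
    have hQH : Q ≤ H := Subgroup.le_normalizer.trans hle
    have hKC : ∀ x ∈ K, x ∈ H → x ∈ H.normalCore := by
      intro x hx hxH
      apply hv x hxH
      rw [(hK x).1 hx]; exact char_one_ne hχ
    -- χ vanishes on M \ K
    have hvan : ∀ x ∈ M, x ∉ K → χ x = 0 := by
      intro x hx hxK
      have hx' : x ∈ ((K ⊔ Q : Subgroup G) : Set G) := by rw [hKQ]; exact hx
      rw [Subgroup.normal_mul K Q] at hx'
      obtain ⟨k, hk, q, hq, rfl⟩ := Set.mem_mul.1 hx'
      rw [char_mul_left (isCharacter_of_isIrr hχ) ((hK k).1 hk)]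
      by_contra hne
      have hqC := hv q (hQH hq) hne
      have hqK : q ∉ K := fun h => hxK (K.mul_mem hk h)
      have h1 : K ⊔ (M ⊓ H.normalCore) = M := by
        rcases hmin (K ⊔ (M ⊓ H.normalCore)) inferInstance le_sup_left (sup_le hKM inf_le_left) with h | h
        · exfalso
          apply hqK
          rw [← h]
          exact (le_sup_right : M ⊓ H.normalCore ≤ _) ⟨hQM hq, hqC⟩
        · exact h
      refine not_le_core M Q H hQM hQp hi hH hle ?_
      intro y hy
      have hy' : y ∈ ((K ⊔ (M ⊓ H.normalCore) : Subgroup G) : Set G) := by rw [h1]; exact hQM hy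
      rw [Subgroup.normal_mul K _] at hy'
      obtain ⟨k', hk', c, hc, hkc⟩ := Set.mem_mul.1 hy'
      have hk'H : k' ∈ H := by
        have : k' = y * c⁻¹ := by rw [← hkc]; group
        rw [this]
        exact H.mul_mem (hQH hy) (H.inv_mem (Subgroup.normalCore_le H hc.2))
      rw [← hkc]
      exact mul_mem (hKC k' hk' hk'H) hc.2
    -- hence the trivial character is a constituent of χ_M
    have hM1 : classInner (fun m : M => χ m) (fun _ : M => (1 : ℂ)) ≠ 0 := by
      rw [classInner]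
      apply mul_ne_zero
      · exact inv_ne_zero (by exact_mod_cast Nat.card_pos.ne')
      · have h2 : ∀ m : M, χ m * (starRingEnd ℂ) 1 = if (m : G) ∈ K then χ 1 else 0 := by
          intro m
          rw [map_one, mul_one]
          by_cases hm : (m : G) ∈ K
          · rw [if_pos hm]; exact (hK _).1 hm
          · rw [if_neg hm]; exact hvan m m.2 hm
        rw [Finset.sum_congr rfl fun m _ => h2 m, ← Finset.sum_filter, Finset.sum_const, nsmul_eq_mul]
        apply mul_ne_zero _ (char_one_ne hχ)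
        have h3 : 0 < (Finset.univ.filter fun m : M => (m : G) ∈ K).card := by
          rw [Finset.card_pos]
          exact ⟨1, Finset.mem_filter.2 ⟨Finset.mem_univ _, K.one_mem⟩⟩
        exact_mod_cast h3.ne'
    have h2 := H31.Clifford.restrict_eq M hχ (isIrrCharacter_one (G := M)) hM1
    apply hMK
    refine le_antisymm ?_ hKM
    intro m hm
    rw [hK]
    have h3 : ∀ φ ∈ H31.Clifford.orb M (fun _ : M => (1 : ℂ)), φ = fun _ => 1 := by
      intro φ hφ
      obtain ⟨g, hg⟩ := (H31.Clifford.mem_orb M).1 hφ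
      rw [hg]; rfl
    have h4 : ∀ y : M, (∑ φ ∈ H31.Clifford.orb M (fun _ : M => (1 : ℂ)), φ) y =
        ((H31.Clifford.orb M (fun _ : M => (1 : ℂ))).card : ℂ) := by
      intro y
      rw [Finset.sum_apply, Finset.sum_congr rfl (g := fun _ => (1 : ℂ))]
      · simp
      · intro φ hφ; rw [h3 φ hφ]
    have h5 := congrFun h2 ⟨m, hm⟩
    have h6 := congrFun h2 1
    rw [Pi.smul_apply, h4] at h5 h6
    have h7 : χ m = χ ((1 : M) : G) := by
      change χ m = _ at h5
      rw [h5]; exact h6.symm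
    exact h7

end H77.Garrison
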