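import Cfsg.Agent.Lib.H77.Canon
import Cfsg.Agent.Lib.H31.CoprimeExt

/-!
# Characters of abelian groups with values `±1` off the identity (helper77)
-/

set_option autoImplicit false
set_option linter.unusedSectionVars false
set_option linter.unusedVariables false
set_option linter.style.haveILetI false
open Cfsg H18 H18.CharBasic H18.CharOrtho H18.CharInd H18.CharQuot
open scoped ComplexConjugate

namespace H77.SignChar

universe u

theorem single_of_sum {ι : Type*} [Fintype ι] [DecidableEq ι] (t : ι → ℤ) (h1 : ∑ i, t i = 1)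
    (h2 : ∑ i, t i ^ 2 = 1) : ∃ i₀, ∀ i, t i = if i = i₀ then 1 else 0 := by
  have h3 : ∑ i, (t i ^ 2 - t i) = 0 := by rw [Finset.sum_sub_distrib, h1, h2]; ring
  have h4 : ∀ i, 0 ≤ t i ^ 2 - t i := by
    intro i
    rcases le_or_gt (t i) 0 with h | h
    · nlinarith [sq_nonneg (t i)]
    · nlinarith
  have h5 : ∀ i, t i ^ 2 - t i = 0 := fun i =>
    (Finset.sum_eq_zero_iff_of_nonneg (fun i _ => h4 i)).1 h3 i (Finset.mem_univ i)
  have h6 : ∀ i, t i = 0 ∨ t i = 1 := by
    intro i
    have := h5 i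
    have h7 : t i * (t i - 1) = 0 := by linarith [this, sq (t i)]
    rcases mul_eq_zero.1 h7 with h | h
    · left; exact h
    · right; linarith
  have h7 : ∃ i₀, t i₀ = 1 := by
    by_contra! hno
    have : ∑ i, t i = 0 := Finset.sum_eq_zero fun i _ => (h6 i).resolve_right (hno i)
    omega
  obtain ⟨i₀, hi₀⟩ := h7
  refine ⟨i₀, fun i => ?_⟩
  split_ifs with h
  · rw [h, hi₀]
  · by_contra hne
    have h8 : t i = 1 := (h6 i).resolve_left hne
    have h9 : ∑ j ∈ ({i, i₀} : Finset ι), t j ≤ ∑ j, t j :=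
      Finset.sum_le_sum_of_subset_of_nonneg (Finset.subset_univ _) (fun j _ _ => by
        rcases h6 j with h | h <;> rw [h]; norm_num)
    rw [Finset.sum_pair h, h8, hi₀, h1] at h9
    omega

/-- the combinatorial core -/
theorem comb {ι : Type*} [Fintype ι] [DecidableEq ι] (n : ι → ℤ) (hN : 2 ≤ Fintype.card ι)
    (h : (Fintype.card ι : ℤ) * ∑ i, n i ^ 2 = (∑ i, n i) ^ 2 + Fintype.card ι - 1) :
    ∃ (m ε : ℤ) (i₀ : ι), (ε = 1 ∨ ε = -1) ∧ ∀ i, n i = m + if i = i₀ then ε else 0 := by
  set N : ℤ := ((Fintype.card ι : ℕ) : ℤ) with hNdef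
  have hN2 : 2 ≤ N := by rw [hNdef]; exact_mod_cast hN
  set d : ℤ := ∑ i, n i with hd
  set q : ℤ := d / N with hq
  set r : ℤ := d % N with hr
  have hdr : N * q + r = d := Int.mul_ediv_add_emod d N
  have hr0 : 0 ≤ r := Int.emod_nonneg d (by omega)
  have hrN : r < N := Int.emod_lt_of_pos d (by omega)
  have ht1 : ∑ i, (n i - q) = r := by
    rw [Finset.sum_sub_distrib, ← hd, Finset.sum_const, Finset.card_univ, nsmul_eq_mul, ← hNdef]
    linarith
  have ht2 : N * ∑ i, (n i - q) ^ 2 = r ^ 2 + N - 1 := by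
    have h3 : ∑ i, (n i - q) ^ 2 = ∑ i, n i ^ 2 - 2 * q * d + N * q ^ 2 := by
      have : ∀ i, (n i - q) ^ 2 = n i ^ 2 - 2 * q * n i + q ^ 2 := fun i => by ring
      simp only [this]
      rw [Finset.sum_add_distrib, Finset.sum_sub_distrib, ← Finset.mul_sum, ← hd, Finset.sum_const,
        Finset.card_univ, nsmul_eq_mul, ← hNdef]
    rw [h3]
    have h4 : r = d - N * q := by linarith
    rw [h4]
    linear_combination h
  have hge : ∑ i, (n i - q) ≤ ∑ i, (n i - q) ^ 2 := by
    refine Finset.sum_le_sum fun i _ => ?_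
    rcases le_or_gt (n i - q) 0 with h | h
    · nlinarith [sq_nonneg (n i - q)]
    · nlinarith
  rw [ht1] at hge
  have h5 : N * r ≤ r ^ 2 + N - 1 := by rw [← ht2]; exact mul_le_mul_of_nonneg_left hge (by omega)
  have h6 : 0 ≤ (r - 1) * (r - (N - 1)) := by nlinarith
  have h7 : r = 0 ∨ r = 1 ∨ r = N - 1 := by
    by_contra! hcon
    have h8 : 1 < r := by omega
    have h9 : r < N - 1 := by omega
    nlinarith
  rcases h7 with h7 | h7 | h7
  · exfalso
    rw [h7] at ht2
    have h8 : N * (1 - ∑ i, (n i - q) ^ 2) = 1 := by linarith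
    have h9 : N ∣ 1 := ⟨_, h8.symm⟩
    have := Int.le_of_dvd one_pos h9
    omega
  · rw [h7] at ht1 ht2
    have h8 : ∑ i, (n i - q) ^ 2 = 1 := by
      have : N * ∑ i, (n i - q) ^ 2 = N * 1 := by linarith
      exact mul_left_cancel₀ (by omega) this
    obtain ⟨i₀, hi⟩ := single_of_sum _ ht1 h8
    refine ⟨q, 1, i₀, Or.inl rfl, fun i => ?_⟩
    rw [← hi i]; ring
  · rw [h7] at ht1 ht2
    have h8 : ∑ i, (n i - q) ^ 2 = N - 1 := by
      have : N * ∑ i, (n i - q) ^ 2 = N * (N - 1) := by rw [ht2]; ring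
      exact mul_left_cancel₀ (by omega) this
    have h9 : ∑ i, (1 - (n i - q)) = 1 := by
      rw [Finset.sum_sub_distrib, ht1, Finset.sum_const, Finset.card_univ, nsmul_eq_mul, ← hNdef]
      ring
    have h10 : ∑ i, (1 - (n i - q)) ^ 2 = 1 := by
      have : ∀ i, (1 - (n i - q)) ^ 2 = 1 - 2 * (n i - q) + (n i - q) ^ 2 := fun i => by ring
      simp only [this]
      rw [Finset.sum_add_distrib, Finset.sum_sub_distrib, ← Finset.mul_sum, ht1, h8,
        Finset.sum_const, Finset.card_univ, nsmul_eq_mul, ← hNdef]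
      ring
    obtain ⟨i₀, hi⟩ := single_of_sum _ h9 h10
    refine ⟨q + 1, -1, i₀, Or.inr rfl, fun i => ?_⟩
    have := hi i
    split_ifs at this ⊢ <;> omega

variable {S : Type u} [Group S] [Fintype S]

open Classical in
theorem sum_irr_abelian [Fintype (IrrCharacter S)] (hS : ∀ a b : S, a * b = b * a) (x : S) :
    ∑ l : IrrCharacter S, (l : S → ℂ) x = if x = 1 then (Nat.card S : ℂ) else 0 := by
  have h1 := H77.Conv.column_transporter x (1 : S)
  have h2 : ∀ l : IrrCharacter S, (l : S → ℂ) x * conj ((l : S → ℂ) 1) = (l : S → ℂ) x := by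
    intro l
    rw [degree_one_of_comm hS l.2, map_one, mul_one]
  rw [Finset.sum_congr rfl fun l _ => h2 l] at h1
  rw [h1]
  split_ifs with h
  · subst h
    norm_cast
    exact Nat.card_congr (Equiv.subtypeUnivEquiv fun y => by group)
  · norm_cast
    rw [Nat.card_eq_zero]
    left
    refine ⟨fun y => h ?_⟩
    have := y.2
    rw [hS y.1 x, mul_inv_cancel_right] at this
    exact this

theorem card_irr_abelian (hS : ∀ a b : S, a * b = b * a) : Nat.card (IrrCharacter S) = Nat.card S := by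
  rw [← H31.CoprimeExt.card_hom_of_comm hS]
  exact (Nat.card_congr (H31.CoprimeExt.irrEquivHom hS)).symm

/-- A character of an abelian group with values `±1` off the identity is a multiple of the regular
character plus or minus a linear character of order at most two. -/
theorem char_shape (hS : ∀ a b : S, a * b = b * a) (hN : 2 ≤ Nat.card S) {a : S → ℂ}
    (ha : IsCharacter S a) (hval : ∀ x : S, x ≠ 1 → a x = 1 ∨ a x = -1) :
    ∃ (m : ℕ) (ε : ℤ) (μ : S → ℂ), (ε = 1 ∨ ε = -1) ∧ IsIrrCharacter S μ ∧ μ 1 = 1 ∧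
      (∀ x, μ x * μ x = 1) ∧ (∀ x, x ≠ 1 → a x = ε * μ x) ∧ a 1 = m * (Nat.card S : ℂ) + ε := by
  classical
  letI := Fintype.ofFinite (IrrCharacter S)
  have hex : ∀ l : IrrCharacter S, ∃ n : ℕ, classInner a (l : S → ℂ) = n :=
    fun l => inner_char_natCast ha (isCharacter_of_isIrr l.2)
  choose n hn using hex
  have hexp : ∀ x, a x = ∑ l : IrrCharacter S, (n l : ℂ) * (l : S → ℂ) x := by
    intro x
    have h1 := mem_classFun_expand (isClassFunction_of_isCharacter ha)
    have h2 := congrFun h1 x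
    rw [h2, Finset.sum_apply]
    refine Finset.sum_congr rfl fun l _ => ?_
    rw [Pi.smul_apply, smul_eq_mul, hn]
  have hS0 : (Nat.card S : ℂ) ≠ 0 := card_ne_zero'
  have hone : a 1 = ((∑ l : IrrCharacter S, (n l : ℤ) : ℤ) : ℂ) := by
    rw [hexp]
    push_cast
    refine Finset.sum_congr rfl fun l _ => ?_
    rw [degree_one_of_comm hS l.2, mul_one]
  -- Parseval
  have hcard : Fintype.card (IrrCharacter S) = Nat.card S := by
    rw [← Nat.card_eq_fintype_card, card_irr_abelian hS]
  have hnorm : (Fintype.card (IrrCharacter S) : ℤ) * ∑ l : IrrCharacter S, (n l : ℤ) ^ 2 =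
      (∑ l : IrrCharacter S, (n l : ℤ)) ^ 2 + Fintype.card (IrrCharacter S) - 1 := by
    rw [hcard]
    have h1 : classInner a a = ∑ l : IrrCharacter S, (n l : ℂ) ^ 2 := by
      rw [parseval (isClassFunction_of_isCharacter ha)]
      refine Finset.sum_congr rfl fun l _ => ?_
      rw [hn, Complex.conj_natCast, sq]
    have h2 : (Nat.card S : ℂ) * classInner a a = (a 1) ^ 2 + Nat.card S - 1 := by
      rw [classInner, mul_inv_cancel_left₀ hS0,
        ← Finset.add_sum_erase Finset.univ _ (Finset.mem_univ (1 : S))]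
      have h3 : ∀ x ∈ Finset.univ.erase (1 : S), a x * conj (a x) = 1 := by
        intro x hx
        rcases hval x (Finset.ne_of_mem_erase hx) with h | h <;> rw [h] <;> simp
      rw [Finset.sum_congr rfl h3, Finset.sum_const, Finset.card_erase_of_mem (Finset.mem_univ _),
        Finset.card_univ, nsmul_eq_mul, mul_one]
      obtain ⟨d, hd⟩ := exists_degree ha
      rw [hd, Complex.conj_natCast, ← Nat.card_eq_fintype_card,
        Nat.cast_sub (by omega : 1 ≤ Nat.card S)]
      push_cast; ring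
    rw [h1, hone] at h2
    exact_mod_cast h2
  obtain ⟨m, ε, l₀, hε, hm⟩ := comb (fun l : IrrCharacter S => (n l : ℤ)) (by rw [hcard]; exact hN) hnorm
  have hm0 : 0 ≤ m := by
    have h1 : 1 < Fintype.card (IrrCharacter S) := by rw [hcard]; omega
    obtain ⟨l, hl⟩ := Fintype.exists_ne_of_one_lt_card h1 l₀
    have h2 := hm l
    rw [if_neg hl, add_zero] at h2
    rw [← h2]; positivity
  have hval2 : ∀ x, a x = m * (if x = 1 then (Nat.card S : ℂ) else 0) + ε * (l₀ : S → ℂ) x := by
    intro x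
    rw [hexp, ← sum_irr_abelian hS x, Finset.mul_sum]
    have h1 : ∀ l : IrrCharacter S, (n l : ℂ) * (l : S → ℂ) x = (m : ℂ) * (l : S → ℂ) x +
        if l = l₀ then (ε : ℂ) * (l : S → ℂ) x else 0 := by
      intro l
      have h2 : ((n l : ℤ) : ℂ) = ((m + if l = l₀ then ε else 0 : ℤ) : ℂ) := by rw [← hm l]
      have h3 : (n l : ℂ) = ((n l : ℤ) : ℂ) := by norm_cast
      rw [h3, h2]
      split_ifs <;> push_cast <;> ring
    rw [Finset.sum_congr rfl fun l _ => h1 l, Finset.sum_add_distrib, Finset.sum_ite_eq' Finset.univ l₀,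
      if_pos (Finset.mem_univ _)]
  obtain ⟨m', rfl⟩ := Int.eq_ofNat_of_zero_le hm0
  refine ⟨m', ε, l₀, hε, l₀.2, degree_one_of_comm hS l₀.2, fun x => ?_, fun x hx => ?_, ?_⟩
  · by_cases hx : x = 1
    · rw [hx, degree_one_of_comm hS l₀.2, mul_one]
    · have h1 := hval2 x
      rw [if_neg hx, mul_zero, zero_add] at h1
      have h2 : a x * a x = 1 := by rcases hval x hx with h | h <;> rw [h] <;> norm_num
      rw [h1] at h2
      have h3 : (ε : ℂ) * ε = 1 := by rcases hε with rfl | rfl <;> norm_num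
      linear_combination h2 - ((l₀ : S → ℂ) x * (l₀ : S → ℂ) x) * h3
  · have h1 := hval2 x
    rw [if_neg hx, mul_zero, zero_add] at h1
    exact h1
  · have h1 := hval2 1
    rw [if_pos rfl, degree_one_of_comm hS l₀.2, mul_one] at h1
    rw [h1]; simp

end H77.SignChar
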