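import Cfsg.Agent.Lib.H77.CopChain
import Cfsg.Agent.Lib.H77.Cov1
import Cfsg.Agent.Lib.H77.SubChar
import Cfsg.Agent.Lib.H77.PQuot
import Cfsg.Agent.Lib.H77.SignChar
import Cfsg.Agent.Lib.H1.Coprime

/-!
# Glauberman's lemma for permutations, and actions on irreducible characters (helper77)
-/

set_option autoImplicit false
set_option linter.unusedSectionVars false
set_option linter.unusedVariables false
set_option linter.style.haveILetI false
open Cfsg H18 H18.CharBasic H18.CharOrtho H18.CharInd H18.CharQuot H31.Clifford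
open H77.GlaubP H77.CopChain
open scoped ComplexConjugate

namespace H77.GlPerm

universe u v

/-- Glauberman's lemma in terms of permutation groups. -/
theorem glaub {Ω : Type*} [Finite Ω] {S K : Type*} [Group S] [Group K]
    (fS : S →* Equiv.Perm Ω) (fK : K →* Equiv.Perm Ω)
    (hn : ∀ s k, ∃ k', fS s * fK k * (fS s)⁻¹ = fK k')
    (hcop : (Nat.card fS.range).Coprime (Nat.card fK.range))
    (hsolv : Group.IsSolvable fS.range ∨ Group.IsSolvable fK.range) (x : Ω)
    (hx : ∀ s, ∃ k, fK k x = fS s x) : ∃ k, ∀ s, fS s (fK k x) = fK k x := by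
  have hnorm : fS.range ≤ Subgroup.normalizer (fK.range : Set (Equiv.Perm Ω)) := by
    rintro _ ⟨s, rfl⟩
    rw [Subgroup.mem_normalizer_iff]
    intro y
    constructor
    · rintro ⟨k, rfl⟩
      obtain ⟨k', hk'⟩ := hn s k
      exact ⟨k', hk'.symm⟩
    · rintro ⟨k, hk⟩
      obtain ⟨k', hk'⟩ := hn s⁻¹ k
      refine ⟨k', ?_⟩
      rw [← hk', hk, map_inv]
      group
  obtain ⟨_, ⟨k, rfl⟩, hk⟩ := H1.Coprime.glauberman_exists fS.range fK.range hnorm hcop hsolv x (by
    rintro _ ⟨s, rfl⟩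
    obtain ⟨k, hk⟩ := hx s
    exact ⟨_, ⟨k, rfl⟩, hk⟩)
  exact ⟨k, fun s => hk _ ⟨s, rfl⟩⟩

theorem card_range_dvd {A B : Type*} [Group A] [Group B] (f : A →* B) (N : Subgroup A)
    (hN : N ≤ f.ker) : Nat.card f.range ∣ N.index := by
  rw [← Subgroup.index_ker]
  exact Subgroup.index_dvd_of_le hN

theorem solvable_range {A B : Type*} [Group A] [Group B] (f : A →* B) (N : Subgroup A) [N.Normal]
    (hN : N ≤ f.ker) (h : Group.IsSolvable (A ⧸ N)) : Group.IsSolvable f.range := by
  have hsurj : Function.Surjective (QuotientGroup.lift N f.rangeRestrict (fun a ha =>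
      Subtype.ext (by rw [MonoidHom.coe_rangeRestrict]; exact hN ha))) := by
    rintro ⟨_, ⟨a, rfl⟩⟩
    exact ⟨(a : A ⧸ N), rfl⟩
  exact solvable_of_surjective hsurj

section irr
variable {G : Type u} [Group G] [Finite G] {S : Type v} [Group S] (φ : S →* MulAut G)

/-- action of `S` on the irreducible characters of `G` -/
def actI (s : S) (χ : IrrCharacter G) : IrrCharacter G :=
  ⟨fun g => χ.1 (φ s⁻¹ g), isIrrCharacter_comp ((φ s⁻¹ : MulAut G) : G →* G) (φ s⁻¹).surjective χ.2⟩

theorem actI_apply (s : S) (χ : IrrCharacter G) (g : G) : (actI φ s χ).1 g = χ.1 (φ s⁻¹ g) := rfl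

theorem actI_one (χ : IrrCharacter G) : actI φ 1 χ = χ := by
  apply Subtype.ext; funext g
  rw [actI_apply, inv_one, map_one]; rfl

theorem actI_mul (s t : S) (χ : IrrCharacter G) : actI φ (s * t) χ = actI φ s (actI φ t χ) := by
  apply Subtype.ext; funext g
  rw [actI_apply, actI_apply, actI_apply, mul_inv_rev, map_mul]; rfl

/-- permutation representation on irreducible characters -/
def permS : S →* Equiv.Perm (IrrCharacter G) where
  toFun s :=
    { toFun := actI φ s
      invFun := actI φ s⁻¹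
      left_inv := fun χ => by rw [← actI_mul, inv_mul_cancel, actI_one]
      right_inv := fun χ => by rw [← actI_mul, mul_inv_cancel, actI_one] }
  map_one' := Equiv.ext fun χ => actI_one φ χ
  map_mul' s t := Equiv.ext fun χ => actI_mul φ s t χ

theorem permS_apply (s : S) (χ : IrrCharacter G) : permS φ s χ = actI φ s χ := rfl

theorem fixed_iff (χ : IrrCharacter G) : (∀ s, permS φ s χ = χ) ↔ Inv φ χ.1 := by
  constructor
  · intro h s g
    have h1 := congrFun (congrArg Subtype.val (h s⁻¹)) g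
    rw [permS_apply, actI_apply, inv_inv] at h1
    exact h1
  · intro h s
    apply Subtype.ext; funext g
    rw [permS_apply, actI_apply]
    exact h s⁻¹ g

/-- linear characters act by multiplication -/
def mulI (l : G →* ℂˣ) (χ : IrrCharacter G) : IrrCharacter G :=
  ⟨fun g => (l g : ℂ) * χ.1 g, isIrrCharacter_hom_mul l χ.2⟩

theorem mulI_one (χ : IrrCharacter G) : mulI 1 χ = χ := by
  apply Subtype.ext; funext g
  show ((1 : ℂˣ) : ℂ) * χ.1 g = χ.1 g
  rw [Units.val_one, one_mul]

theorem mulI_mul (l m : G →* ℂˣ) (χ : IrrCharacter G) : mulI (l * m) χ = mulI l (mulI m χ) := by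
  apply Subtype.ext; funext g
  show ((l g * m g : ℂˣ) : ℂ) * χ.1 g = (l g : ℂ) * ((m g : ℂ) * χ.1 g)
  rw [Units.val_mul, mul_assoc]

/-- permutation representation of the linear characters of the quotient `G / N` -/
def permL (N : Subgroup G) [N.Normal] : (G ⧸ N →* ℂˣ) →* Equiv.Perm (IrrCharacter G) where
  toFun l :=
    { toFun := mulI (l.comp (QuotientGroup.mk' N))
      invFun := mulI ((l⁻¹).comp (QuotientGroup.mk' N))
      left_inv := fun χ => by
        rw [← mulI_mul]
        have : (l⁻¹).comp (QuotientGroup.mk' N) * l.comp (QuotientGroup.mk' N) = 1 := by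
          ext g
          show (((l g)⁻¹ * l g : ℂˣ) : ℂ) = ((1 : ℂˣ) : ℂ)
          rw [inv_mul_cancel]
        rw [this, mulI_one]
      right_inv := fun χ => by
        rw [← mulI_mul]
        have : l.comp (QuotientGroup.mk' N) * (l⁻¹).comp (QuotientGroup.mk' N) = 1 := by
          ext g
          show ((l g * (l g)⁻¹ : ℂˣ) : ℂ) = ((1 : ℂˣ) : ℂ)
          rw [mul_inv_cancel]
        rw [this, mulI_one] }
  map_one' := Equiv.ext fun χ => mulI_one χ
  map_mul' l m := Equiv.ext fun χ => by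
    show mulI ((l * m).comp (QuotientGroup.mk' N)) χ = mulI _ (mulI _ χ)
    rw [← mulI_mul]; rfl

theorem permL_apply (N : Subgroup G) [N.Normal] (l : G ⧸ N →* ℂˣ) (χ : IrrCharacter G) (g : G) :
    (permL N l χ).1 g = (l (g : G ⧸ N) : ℂ) * χ.1 g := rfl

theorem inner_actI [Fintype G] (s : S) (χ ψ : IrrCharacter G) :
    classInner (actI φ s χ).1 (actI φ s ψ).1 = classInner χ.1 ψ.1 :=
  classInner_mulEquiv (φ s⁻¹) χ.1 ψ.1

end irr

section ov
variable {G : Type u} [Group G] [Fintype G] (N : Subgroup G) [hN : N.Normal] [Fintype N]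

/-- For `G / N` abelian the linear characters of `G / N` act transitively on the characters over an
invariant character. -/
theorem exists_linear (hab : ∀ a b : G ⧸ N, a * b = b * a) {χ ψ : IrrCharacter G}
    (h : classInner (fun n : N => ψ.1 n) (fun n : N => χ.1 n) ≠ 0) :
    ∃ l : G ⧸ N →* ℂˣ, permL N l ψ = χ := by
  classical
  letI := Fintype.ofFinite (G ⧸ N)
  letI := Fintype.ofFinite (IrrCharacter (G ⧸ N))
  have hN0 : (Nat.card N : ℂ) ≠ 0 := card_ne_zero'
  have hG0 : (Nat.card G : ℂ) ≠ 0 := card_ne_zero'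
  by_contra! hno
  apply h
  have hidx : (Nat.card (G ⧸ N) : ℂ) ≠ 0 := by exact_mod_cast (Nat.card_pos (α := G ⧸ N)).ne'
  -- each `λψ` is orthogonal to `χ`
  have h1 : ∀ l : IrrCharacter (G ⧸ N), ∑ g : G, l.1 (g : G ⧸ N) * (ψ.1 g * conj (χ.1 g)) = 0 := by
    intro l
    obtain ⟨f, hf⟩ := exists_hom_of_isIrr_of_comm hab l.2
    have h2 := inner_irr_ne (permL N f ψ).2 χ.2 (fun he => hno f (Subtype.ext he))
    rw [classInner] at h2
    have h3 := (mul_eq_zero.1 h2).resolve_left (inv_ne_zero hG0)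
    rw [← h3]
    refine Finset.sum_congr rfl fun g _ => ?_
    rw [permL_apply, hf, mul_assoc]
  have h2 : ∑ g : G, (if (g : G ⧸ N) = 1 then (Nat.card (G ⧸ N) : ℂ) else 0) *
      (ψ.1 g * conj (χ.1 g)) = 0 := by
    have h3 : ∀ g : G, (if (g : G ⧸ N) = 1 then (Nat.card (G ⧸ N) : ℂ) else 0) =
        ∑ l : IrrCharacter (G ⧸ N), l.1 (g : G ⧸ N) := fun g => by
      rw [H77.SignChar.sum_irr_abelian hab (g : G ⧸ N)]
      split_ifs <;> rfl
    have h4 : ∀ g : G, (if (g : G ⧸ N) = 1 then (Nat.card (G ⧸ N) : ℂ) else 0) *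
        (ψ.1 g * conj (χ.1 g)) = ∑ l : IrrCharacter (G ⧸ N), l.1 (g : G ⧸ N) *
          (ψ.1 g * conj (χ.1 g)) := fun g => by rw [h3 g, Finset.sum_mul]
    rw [Finset.sum_congr rfl fun g _ => h4 g, Finset.sum_comm]
    exact Finset.sum_eq_zero fun l _ => h1 l
  have h3 : ∑ g : G, (if (g : G ⧸ N) = 1 then (Nat.card (G ⧸ N) : ℂ) else 0) *
      (ψ.1 g * conj (χ.1 g)) = Nat.card (G ⧸ N) * ∑ n : N, ψ.1 n * conj (χ.1 n) := by
    rw [H77.Cov1.sum_over N _ (fun g hg => by
      rw [if_neg (fun h => hg ((QuotientGroup.eq_one_iff g).1 h)), zero_mul]), Finset.mul_sum]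
    refine Finset.sum_congr rfl fun n _ => ?_
    rw [if_pos ((QuotientGroup.eq_one_iff (n : G)).2 n.2)]
  rw [h3] at h2
  have h4 := (mul_eq_zero.1 h2).resolve_left hidx
  rw [classInner]
  have h5 : ∑ n : N, ψ.1 n * conj (χ.1 n) = 0 := h4
  rw [h5, mul_zero]

end ov

end H77.GlPerm
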