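import Cfsg.Agent.Lib.H77.CentralInv2
import Cfsg.Agent.Lib.H19.CharExt

/-!
# Invariant characters over invariant characters (helper77)
-/

set_option autoImplicit false
set_option linter.unusedSectionVars false
set_option linter.unusedVariables false
set_option linter.style.haveILetI false
open Cfsg H18 H18.CharBasic H18.CharOrtho H18.CharInd H18.CharQuot H31.Clifford
open H77.GlaubP H77.CopChain H77.GlPerm H77.OverInv H77.CentralInv
open scoped ComplexConjugate commutatorElement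

namespace H77.InvOver

universe u

theorem irr_of_restrict {A B : Type u} [Group A] [Finite A] [Group B] [Finite B] (f : B →* A)
    {χ : A → ℂ} (hχ : IsCharacter A χ) (h : IsIrrCharacter B (fun b => χ (f b))) :
    IsIrrCharacter A χ := by
  classical
  letI := Fintype.ofFinite A
  letI := Fintype.ofFinite B
  have hne : χ ≠ 0 := by
    rintro rfl
    exact irr_one_ne_zero h rfl
  obtain ⟨ψ, hψ, hψne⟩ := exists_irr_inner_ne_zero (isClassFunction_of_isCharacter hχ) hne
  have hr : IsCharacter B (fun b => ψ (f b)) := isCharacter_comp f (isCharacter_of_isIrr hψ)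
  obtain ⟨η, hη, hηne⟩ := exists_irr_inner_ne_zero (isClassFunction_of_isCharacter hr)
    (fun hz => irr_one_ne_zero hψ (by
      have := congrFun hz 1
      simpa using this))
  have h1 := H77.SubChar.restrict_trans (MonoidHom.id A) f hχ hψ (isCharacter_of_isIrr hη) hψne hηne
  have h2 : (fun b : B => χ ((MonoidHom.id A) (f b))) = fun b => χ (f b) := rfl
  rw [h2] at h1
  have h3 : (fun b => χ (f b)) = η := by
    by_contra hcon
    exact h1 (inner_irr_ne h hη hcon)
  obtain ⟨a, ha⟩ := exists_degree (isCharacter_of_isIrr hψ)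
  obtain ⟨b, hb⟩ := exists_degree (isCharacter_of_isIrr hη)
  obtain ⟨c, hc⟩ := exists_degree hχ
  have h4 : b ≤ a := H77.SubChar.degree_le hr hη hηne (by rw [map_one]; exact ha) hb
  have h5 : a ≤ c := H77.SubChar.degree_le hχ hψ hψne hc ha
  have h6 : c = b := by
    have := congrFun h3 1
    simp only [map_one] at this
    rw [hc, hb] at this
    exact_mod_cast this
  rw [H77.SubChar.eq_of_degree hχ hψ hψne (by
    rw [hc, ha]
    have : a = c := by omega
    rw [this])]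
  exact hψ

theorem deflate_surj {A B : Type u} [Group A] [Finite A] [Group B] [Finite B] (p : A →* B)
    (hp : Function.Surjective p) {η : A → ℂ} (hη : IsIrrCharacter A η)
    (hk : ∀ k ∈ p.ker, η k = η 1) : ∃ χ : B → ℂ, IsIrrCharacter B χ ∧ ∀ a, χ (p a) = η a := by
  let e := QuotientGroup.quotientKerEquivOfSurjective p hp
  have h1 := isIrrCharacter_deflate p.ker hη hk
  refine ⟨fun b => deflate p.ker η (e.symm b), (isIrrCharacter_mulEquiv e.symm).1 h1, fun a => ?_⟩
  have h2 : e.symm (p a) = (a : A ⧸ p.ker) := by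
    rw [MulEquiv.symm_apply_eq]; rfl
  show deflate p.ker η (e.symm (p a)) = η a
  rw [h2, deflate_mk p.ker (isCharacter_of_isIrr hη) hk]

section partA
variable {Γ : Type u} [Group Γ] [Fintype Γ] (G N : Subgroup Γ) [hG : G.Normal] [hN : N.Normal]
  [Fintype G] [Fintype N]

theorem partA (hNG : N ≤ G) (hcop : (G.index).Coprime (N.relIndex G))
    (hsolv : Group.IsSolvable (G ⧸ N.subgroupOf G)) (θ : IrrCharacter N)
    (hinv : ∀ (x : Γ) (n : N), θ.1 ⟨x * n * x⁻¹, hN.conj_mem n n.2 x⟩ = θ.1 n) :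
    ∃ χ : IrrCharacter G, classInner (fun n : N => χ.1 ⟨n, hNG n.2⟩) θ.1 ≠ 0 ∧
      ∀ (x : Γ) (g : G), χ.1 ⟨x * g * x⁻¹, hG.conj_mem g g.2 x⟩ = χ.1 g := by
  classical
  set mk := QuotientGroup.mk' N with hmk
  have hmks : Function.Surjective mk := QuotientGroup.mk'_surjective N
  set Gb := G.map mk with hGb
  haveI hGbn : Gb.Normal := hG.map mk hmks
  have hkerle : mk.ker ≤ G := by rw [hmk, QuotientGroup.ker_mk']; exact hNG
  have hidx : Gb.index = G.index := by
    rw [hGb, Subgroup.index_map, sup_eq_left.2 hkerle, MonoidHom.range_eq_top.2 hmks,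
      Subgroup.index_top, mul_one]
  have hcard : Nat.card Gb = N.relIndex G := by
    have h1 : Nat.card Gb = (⊥ : Subgroup (Γ ⧸ N)).relIndex Gb := (Subgroup.relIndex_bot_left _).symm
    rw [h1, hGb, ← Subgroup.relIndex_comap]
    congr 1
    show mk.ker = N
    rw [hmk, QuotientGroup.ker_mk']
  obtain ⟨Sb, hSb⟩ := Subgroup.exists_right_complement'_of_coprime (N := Gb)
    (by rw [hcard, hidx]; exact hcop.symm)
  set S := Sb.comap mk with hS
  have hNS : N ≤ S := by
    intro n hn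
    rw [hS, Subgroup.mem_comap]
    have : mk n = 1 := (QuotientGroup.eq_one_iff n).2 hn
    rw [this]; exact Sb.one_mem
  have hSmap : S.map mk = Sb := Subgroup.map_comap_eq_self_of_surjective hmks Sb
  have hGS : G ⊔ S = ⊤ := by
    rw [eq_top_iff]
    intro x _
    have h1 : mk x ∈ Gb ⊔ Sb := by rw [hSb.sup_eq_top]; exact Subgroup.mem_top _
    obtain ⟨y, hy, z, hz, hyz⟩ := Subgroup.mem_sup_of_normal_left.1 h1
    obtain ⟨g, hg, rfl⟩ := hy
    have h2 : mk (g⁻¹ * x) ∈ Sb := by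
      rw [map_mul, map_inv, ← hyz, inv_mul_cancel_left]; exact hz
    have h3 : g⁻¹ * x ∈ S := h2
    have := (G ⊔ S).mul_mem (Subgroup.mem_sup_left hg) (Subgroup.mem_sup_right h3)
    rwa [mul_inv_cancel_left] at this
  have hSrel : N.relIndex S = G.index := by
    rw [← hidx, hSb.symm.index_eq_card]
    have h1 : Nat.card Sb = (⊥ : Subgroup (Γ ⧸ N)).relIndex Sb := (Subgroup.relIndex_bot_left _).symm
    rw [h1, ← hSmap, ← Subgroup.relIndex_comap]
    congr 1
    show N = mk.ker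
    rw [hmk, QuotientGroup.ker_mk']
  have hnorm : ∀ s ∈ S, ∀ g ∈ G, s * g * s⁻¹ ∈ G := fun s _ g hg => hG.conj_mem g hg s
  let φ := H77.CopSub.conjHom G S hnorm
  set N' := N.subgroupOf G with hN'
  letI := Fintype.ofFinite N'
  let e : N' ≃* N := Subgroup.subgroupOfEquivOfLe hNG
  have hNφ : ∀ s, ∀ k ∈ N', φ s k ∈ N' := by
    intro s k hk
    rw [Subgroup.mem_subgroupOf, H77.CopSub.conjHom_coe]
    exact hN.conj_mem _ hk s
  obtain ⟨χ, hχ1, hχ2⟩ := exists_over (S := S) (N.subgroupOf S) (N.relIndex G) G φ N' hNφ (by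
      intro s hs
      have hs' : (s : Γ) ∈ N := hs
      refine ⟨⟨s, hNG hs'⟩, hs', fun g => Subtype.ext ?_⟩
      rw [H77.CopSub.conjHom_coe]; rfl) rfl (by
      show (N.relIndex S).Coprime (N.relIndex G)
      rw [hSrel]; exact hcop) hsolv
    ⟨fun x => θ.1 (e x), (isIrrCharacter_mulEquiv e).1 θ.2⟩ (by
      intro s k
      exact hinv s (e k))
  refine ⟨χ, ?_, ?_⟩
  · rw [← classInner_mulEquiv e]
    exact hχ2
  · intro x g
    have hx : x ∈ G ⊔ S := hGS ▸ Subgroup.mem_top x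
    obtain ⟨y, hy, s, hs, rfl⟩ := Subgroup.mem_sup_of_normal_left.1 hx
    have h1 := isClassFunction_of_isIrr χ.2 ⟨s * g * s⁻¹, hG.conj_mem g g.2 s⟩ ⟨y, hy⟩
    have h2 : χ.1 ⟨s * g * s⁻¹, hG.conj_mem g g.2 s⟩ = χ.1 g := hχ1 ⟨s, hs⟩ g
    rw [← h2, ← h1]
    refine congrArg χ.1 (Subtype.ext ?_)
    push_cast
    group

end partA

section partB
variable {Γ : Type u} [Group Γ] [Fintype Γ] (G N : Subgroup Γ) [hG : G.Normal] [hN : N.Normal]
  [Fintype G] [Fintype N]

theorem partB (hNG : N ≤ G) (hcop : (G.index).Coprime (N.relIndex G))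
    (hsolv : Group.IsSolvable (Γ ⧸ G)) (θ : IrrCharacter N)
    (hinv : ∀ (x : Γ) (n : N), θ.1 ⟨x * n * x⁻¹, hN.conj_mem n n.2 x⟩ = θ.1 n) :
    ∃ χ : IrrCharacter G, classInner (fun n : N => χ.1 ⟨n, hNG n.2⟩) θ.1 ≠ 0 ∧
      ∀ (x : Γ) (g : G), χ.1 ⟨x * g * x⁻¹, hG.conj_mem g g.2 x⟩ = χ.1 g := by
  classical
  obtain ⟨Δ, _, _, π, M, hMn, e, β, hsurj, he, hβ, hβM, hker, hβker⟩ :=
    H19.CharExt.exists_cover θ.2 hinv
  letI := Fintype.ofFinite Δ
  set Gh : Subgroup Δ := G.comap π with hGh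
  haveI hGhn : Gh.Normal := hG.comap π
  set Z : Subgroup Δ := π.ker with hZ
  have hZGh : Z ≤ Gh := by
    intro z hz
    rw [hGh, Subgroup.mem_comap, (MonoidHom.mem_ker).1 hz]
    exact G.one_mem
  have hMGh : M ≤ Gh := by
    intro m hm
    rw [hGh, Subgroup.mem_comap]
    have := he ⟨m, hm⟩
    rw [this]
    exact hNG (e ⟨m, hm⟩).2
  set mk := QuotientGroup.mk' M with hmk
  have hmks : Function.Surjective mk := QuotientGroup.mk'_surjective M
  have hmk1 : ∀ x : Δ, mk x = 1 ↔ x ∈ M := fun x => QuotientGroup.eq_one_iff x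
  set Q' := Gh.map mk with hQ'
  haveI hQ'n : Q'.Normal := hGhn.map mk hmks
  let fZ : Z →* Δ ⧸ M := mk.comp Z.subtype
  have hfZ : Function.Injective fZ := by
    rw [injective_iff_map_eq_one]
    intro z hz
    have h1 : (z : Δ) ∈ M := (hmk1 z).1 hz
    have h2 : π z = 1 := z.2
    have h3 := he ⟨z, h1⟩
    rw [h2] at h3
    have h4 : e ⟨z, h1⟩ = 1 := Subtype.ext h3.symm
    have h5 : (⟨z, h1⟩ : M) = 1 := e.injective (by rw [h4, map_one])
    have h6 : (z : Δ) = 1 := congrArg Subtype.val h5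
    exact Subtype.ext h6
  set Z' : Subgroup (Δ ⧸ M) := fZ.range with hZ'
  have hZ'Q' : Z' ≤ Q' := by
    rintro _ ⟨z, rfl⟩
    exact ⟨z, hZGh z.2, rfl⟩
  have hZ'c : ∀ z ∈ Z', ∀ x : Δ ⧸ M, z * x = x * z := by
    rintro _ ⟨z, rfl⟩ x
    obtain ⟨x, rfl⟩ := hmks x
    show mk z * mk x = mk x * mk z
    rw [← map_mul, ← map_mul, hker z z.2 x]
  have hidxQ : Q'.index = G.index := by
    rw [hQ', Subgroup.index_map_eq Gh hmks (by rw [hmk, QuotientGroup.ker_mk']; exact hMGh), hGh,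
      Subgroup.index_comap_of_surjective G hsurj]
  have hcomap : Z'.comap mk = N.comap π := by
    ext x
    rw [Subgroup.mem_comap, Subgroup.mem_comap]
    constructor
    · rintro ⟨z, hz⟩
      have h1 : mk ((z : Δ)⁻¹ * x) = 1 := by
        rw [map_mul, map_inv]
        have : mk (z : Δ) = mk x := hz
        rw [this, inv_mul_cancel]
      have h2 := he ⟨_, (hmk1 _).1 h1⟩
      simp only [map_mul, map_inv] at h2
      have h3 : π (z : Δ) = 1 := z.2
      rw [h3, inv_one, one_mul] at h2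
      rw [h2]
      exact (e _).2
    · intro hx
      have h1 : π x = π (e.symm ⟨π x, hx⟩ : M) := by
        rw [he, MulEquiv.apply_symm_apply]
      have h2 : x * ((e.symm ⟨π x, hx⟩ : M) : Δ)⁻¹ ∈ Z := by
        rw [hZ, MonoidHom.mem_ker, map_mul, map_inv, ← h1, mul_inv_cancel]
      refine ⟨⟨_, h2⟩, ?_⟩
      show mk (x * ((e.symm ⟨π x, hx⟩ : M) : Δ)⁻¹) = mk x
      rw [map_mul, map_inv, (hmk1 _).2 (e.symm ⟨π x, hx⟩ : M).2, inv_one, mul_one]
  have hrel : Z'.relIndex Q' = N.relIndex G := by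
    rw [hQ', ← Subgroup.relIndex_comap, hcomap, Subgroup.relIndex_comap, hGh,
      Subgroup.map_comap_eq_self_of_surjective hsurj]
  have hsolv' : Group.IsSolvable ((Δ ⧸ M) ⧸ Q') := by
    haveI h1 : Group.IsSolvable (Δ ⧸ Gh) := by
      have hinj : Function.Injective (QuotientGroup.map Gh G π le_rfl) := by
        rw [injective_iff_map_eq_one]
        intro q hq
        obtain ⟨x, rfl⟩ := QuotientGroup.mk_surjective q
        rw [QuotientGroup.map_mk, QuotientGroup.eq_one_iff] at hq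
        rw [QuotientGroup.eq_one_iff]
        exact hq
      exact Group.isSolvable_of_isSolvable_injective hinj
    have hsur : Function.Surjective (QuotientGroup.map Gh Q' mk (Subgroup.le_comap_map mk Gh)) := by
      intro q
      obtain ⟨q, rfl⟩ := QuotientGroup.mk_surjective q
      obtain ⟨x, rfl⟩ := hmks q
      exact ⟨(x : Δ ⧸ Gh), rfl⟩
    exact Group.isSolvable_of_surjective hsur
  -- the linear character of `Z`
  have hβ1 : β 1 ≠ 0 := irr_one_ne_zero hβ
  have hβz : ∀ z : Z, ∀ x : Δ, β ((z : Δ) * x) = β z / β 1 * β x := fun z x =>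
    central_mul hβ (fun x => hker z z.2 x) x
  have hβz0 : ∀ z : Z, β z ≠ 0 := by
    intro z h
    have h1 := hβker z z.2
    rw [h, norm_zero] at h1
    exact hβ1 (norm_eq_zero.1 h1.symm)
  let lam : Z →* ℂˣ :=
    { toFun := fun z => Units.mk0 (β 1 / β z) (div_ne_zero hβ1 (hβz0 z))
      map_one' := by
        apply Units.ext
        show β 1 / β ((1 : Z) : Δ) = 1
        rw [Subgroup.coe_one, div_self hβ1]
      map_mul' := fun z w => by
        apply Units.ext
        show β 1 / β ((z * w : Z) : Δ) = β 1 / β z * (β 1 / β w)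
        rw [Subgroup.coe_mul, hβz]
        have h1 := hβz0 z
        have h2 := hβz0 w
        field_simp }
  let eZ : Z ≃* Z' := MonoidHom.ofInjective hfZ
  obtain ⟨ψ', hψ'1, hψ'2⟩ := H77.CentralInv2.main Q' Z' hZ'Q' hZ'c (by rw [hidxQ, hrel]; exact hcop)
    hsolv' (lam.comp eZ.symm.toMonoidHom)
  -- pull back
  have hmem : ∀ x : Gh, mk (x : Δ) ∈ Q' := fun x => ⟨x, x.2, rfl⟩
  let q : Gh →* Q' :=
    { toFun := fun x => ⟨mk x, hmem x⟩
      map_one' := Subtype.ext (map_one mk)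
      map_mul' := fun x y => Subtype.ext (map_mul mk (x : Δ) (y : Δ)) }
  have hq : Function.Surjective q := by
    rintro ⟨_, ⟨x, hx, rfl⟩⟩
    exact ⟨⟨x, hx⟩, rfl⟩
  have hψ : IsIrrCharacter Gh (fun x => ψ'.1 (q x)) := isIrrCharacter_comp q hq ψ'.2
  have hβGh : IsCharacter Gh (fun x : Gh => β x) := isCharacter_restrict Gh (isCharacter_of_isIrr hβ)
  letI := Fintype.ofFinite M
  set MG := M.subgroupOf Gh with hMG
  let eM : MG ≃* M := Subgroup.subgroupOfEquivOfLe hMGh
  have hβM' : IsIrrCharacter MG (fun n : MG => β (n : Gh)) := by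
    have h1 : (fun n : MG => β (n : Gh)) = fun n : MG => θ.1 ((eM.trans e) n) := by
      funext n
      exact hβM (eM n)
    rw [h1]
    exact (isIrrCharacter_mulEquiv (eM.trans e)).1 θ.2
  have hβGhirr : IsIrrCharacter Gh (fun x : Gh => β x) := irr_of_restrict MG.subtype hβGh hβM'
  have hqM : ∀ n ∈ MG, q n = 1 := by
    intro n hn
    exact Subtype.ext ((hmk1 n).2 hn)
  have hη : IsIrrCharacter Gh (fun x : Gh => ψ'.1 (q x) * β x) :=
    H83.Gallagher.isIrr_mul hβGhirr MG hβM' hψ (fun n hn => by rw [hqM n hn, map_one])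
  let p : Gh →* G :=
    { toFun := fun x => ⟨π x, x.2⟩
      map_one' := Subtype.ext (map_one π)
      map_mul' := fun x y => Subtype.ext (map_mul π (x : Δ) (y : Δ)) }
  have hp : Function.Surjective p := by
    rintro ⟨g, hg⟩
    obtain ⟨x, rfl⟩ := hsurj g
    exact ⟨⟨x, hg⟩, rfl⟩
  obtain ⟨χ, hχ, hχp⟩ := deflate_surj p hp hη (by
    intro k hk
    have hkZ : (k : Δ) ∈ Z := by
      rw [MonoidHom.mem_ker] at hk
      exact congrArg Subtype.val hk
    have h1 : q k = ⟨(eZ ⟨k, hkZ⟩ : Z'), hZ'Q' (eZ ⟨k, hkZ⟩).2⟩ * 1 := by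
      rw [mul_one]; rfl
    have h2 := hψ'2 (eZ ⟨k, hkZ⟩) 1
    have h3 : (((lam.comp eZ.symm.toMonoidHom) (eZ ⟨k, hkZ⟩) : ℂˣ) : ℂ) = β 1 / β k := by
      show ((lam (eZ.symm (eZ ⟨k, hkZ⟩)) : ℂˣ) : ℂ) = _
      rw [MulEquiv.symm_apply_apply]; rfl
    rw [h3] at h2
    rw [h1, h2, map_one]
    have h4 := hβz0 ⟨k, hkZ⟩
    have h5 : β (k : Δ) ≠ 0 := h4
    have h6 : β ((1 : Gh) : Δ) = β 1 := rfl
    rw [h6]
    field_simp)
  refine ⟨⟨χ, hχ⟩, ?_, ?_⟩
  · have h1 : (fun n : N => χ ⟨n, hNG n.2⟩) = ψ'.1 1 • θ.1 := by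
      funext n
      have h2 : π (e.symm n : M) = n := by rw [he, MulEquiv.apply_symm_apply]
      have h3 : p ⟨(e.symm n : M), hMGh (e.symm n : M).2⟩ = ⟨n, hNG n.2⟩ := Subtype.ext h2
      have h4 : q ⟨(e.symm n : M), hMGh (e.symm n : M).2⟩ = 1 := hqM _ (e.symm n : M).2
      rw [← h3, hχp, h4, Pi.smul_apply, smul_eq_mul]
      congr 1
      have h5 := hβM (e.symm n)
      rw [MulEquiv.apply_symm_apply] at h5
      exact h5
    show classInner (fun n : N => χ ⟨n, hNG n.2⟩) θ.1 ≠ 0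
    rw [h1, CharOrtho.inner_smul_left, inner_irr_self θ.2, mul_one]
    exact irr_one_ne_zero ψ'.2
  · intro x g
    obtain ⟨y, rfl⟩ := hsurj x
    obtain ⟨h, rfl⟩ := hp g
    have h1 : (⟨π y * (p h : G) * (π y)⁻¹, hG.conj_mem _ (p h).2 (π y)⟩ : G) =
        p ⟨y * h * y⁻¹, hGhn.conj_mem h h.2 y⟩ := by
      apply Subtype.ext
      show π y * π h * (π y)⁻¹ = π (y * h * y⁻¹)
      rw [map_mul, map_mul, map_inv]
    show χ _ = χ (p h)
    rw [h1, hχp, hχp]
    have h2 : q ⟨y * h * y⁻¹, hGhn.conj_mem h h.2 y⟩ =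
        ⟨mk y * (q h : Q') * (mk y)⁻¹, hQ'n.conj_mem _ (q h).2 (mk y)⟩ := by
      apply Subtype.ext
      show mk (y * h * y⁻¹) = mk y * mk h * (mk y)⁻¹
      rw [map_mul, map_mul, map_inv]
    rw [h2, hψ'1]
    congr 1
    exact isClassFunction_of_isIrr hβ _ _

end partB

end H77.InvOver
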