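import Mathlib

set_option autoImplicit false
set_option linter.unusedSectionVars false
set_option linter.unusedVariables false
set_option maxHeartbeats 400000

/-!
# Rank one symmetric integer matrices `N` of size four with `N ^ 2 = 4 N`
-/

namespace H77.KleinC

theorem comb (N : Fin 4 → Fin 4 → ℤ) (hs : ∀ i j, N i j = N j i)
    (h2 : ∀ i, ∑ j, (N i j) ^ 2 = 4 * N i i) (hn : ∀ i, ∃ j, N i j ≠ 0)
    (c : Fin 4 → ℂ) (hc : ∀ i j, (N i j : ℂ) = c i * (N 0 j : ℂ)) :
    ∀ i, N i i = 1 ∧ (N 0 i = 1 ∨ N 0 i = -1) ∧ c i = (N 0 i : ℂ) := by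
  have hpos : ∀ i, 1 ≤ N i i := by
    intro i
    obtain ⟨j, hj⟩ := hn i
    have h1 : (N i j) ^ 2 ≤ ∑ j, (N i j) ^ 2 :=
      Finset.single_le_sum (f := fun j => (N i j) ^ 2) (fun k _ => sq_nonneg _) (Finset.mem_univ j)
    have h3 : 0 < (N i j) ^ 2 := by positivity
    rw [h2 i] at h1
    omega
  have hsq : ∀ i, (N 0 i) ^ 2 = N i i * N 0 0 := by
    intro i
    have h1 : ((N 0 i : ℤ) : ℂ) = c i * (N 0 0 : ℂ) := by rw [hs 0 i]; exact hc i 0
    have h3 := hc i i
    have h4 : (((N 0 i) ^ 2 : ℤ) : ℂ) = ((N i i * N 0 0 : ℤ) : ℂ) := by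
      push_cast
      rw [h3, sq]
      nth_rewrite 1 [h1]
      ring
    exact_mod_cast h4
  have h5 : ∑ i, N i i = 4 := by
    have h6 : (∑ i, N i i) * N 0 0 = 4 * N 0 0 := by
      rw [Finset.sum_mul, ← h2 0]
      exact Finset.sum_congr rfl fun i _ => (hsq i).symm
    have h7 : N 0 0 ≠ 0 := by have := hpos 0; omega
    exact mul_right_cancel₀ h7 h6
  have h8 : ∀ i, N i i = 1 := by
    rw [Fin.sum_univ_four] at h5
    have h0 := hpos 0
    have h1 := hpos 1
    have h3 := hpos 2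
    have h4 := hpos 3
    intro i
    fin_cases i <;> simp <;> omega
  intro i
  refine ⟨h8 i, ?_, ?_⟩
  · have := hsq i
    rw [h8 i, h8 0, mul_one] at this
    exact mul_self_eq_one_iff.1 (by rw [← sq]; exact this)
  · have h1 := hc i 0
    rw [h8 0, Int.cast_one, mul_one] at h1
    rw [← h1, hs]

end H77.KleinC
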