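import Cfsg.Agent.Lib.H77.GlPerm

/-!
# Invariant characters over invariant characters, coprime solvable quotient (helper77)
-/

set_option autoImplicit false
set_option linter.unusedSectionVars false
set_option linter.unusedVariables false
set_option linter.style.haveILetI false
open Cfsg H18 H18.CharBasic H18.CharOrtho H18.CharInd H18.CharQuot H31.Clifford
open H77.GlaubP H77.CopChain H77.GlPerm
open scoped ComplexConjugate commutatorElement

namespace H77.OverInv

universe u v

section ov
variable {G : Type u} [Group G] [Fintype G] (N : Subgroup G) [hN : N.Normal] [Fintype N]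

/-- an invariant constituent is the only one -/
theorem restrict_of_inv {χ : G → ℂ} (hχ : IsIrrCharacter G χ) {θ : N → ℂ} (hθ : IsIrrCharacter N θ)
    (hinv : inertia N θ = ⊤) (h : classInner (fun n : N => χ n) θ ≠ 0) :
    (fun n : N => χ n) = classInner (fun n : N => χ n) θ • θ := by
  have h1 := restrict_eq N hχ hθ h
  have h2 : orb N θ = {θ} := by
    ext φ
    rw [mem_orb, Finset.mem_singleton]
    constructor
    · rintro ⟨g, rfl⟩
      exact (mem_inertia N).1 (hinv ▸ Subgroup.mem_top g : g ∈ inertia N θ)
    · rintro rfl
      exact ⟨1, (cj_one N _).symm⟩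
  rw [h2, Finset.sum_singleton] at h1
  exact h1

theorem exists_over_irr (θ : IrrCharacter N) : ∃ χ : IrrCharacter G,
    classInner (fun n : N => χ.1 n) θ.1 ≠ 0 := by
  have h1 : indFun N θ.1 ≠ 0 := by
    intro h
    have h2 := congrFun h 1
    rw [indFun_one, Pi.zero_apply] at h2
    rcases mul_eq_zero.1 h2 with h3 | h3
    · exact (Subgroup.index_ne_zero_of_finite (H := N)) (by exact_mod_cast h3)
    · exact irr_one_ne_zero θ.2 h3
  obtain ⟨χ, hχ, hne⟩ := exists_irr_inner_ne_zero (isClassFunction_indFun N θ.1) h1
  refine ⟨⟨χ, hχ⟩, fun h => hne ?_⟩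
  rw [CharInd.frobenius N θ.1 (isClassFunction_of_isIrr hχ), ← CharOrtho.inner_conj_symm]
  have : classInner (fun x : N => χ x) θ.1 = 0 := h
  rw [this, map_zero]

end ov

section main
variable {S : Type v} [Group S] [Finite S] (S₀ : Subgroup S) [hS₀ : S₀.Normal]

theorem card_homs {A : Type u} [Group A] [Finite A] (hab : ∀ a b : A, a * b = b * a) :
    Finite (A →* ℂˣ) ∧ Nat.card (A →* ℂˣ) = Nat.card A :=
  ⟨H31.CoprimeExt.finite_hom hab, H31.CoprimeExt.card_hom_of_comm hab⟩

theorem exists_over (n : ℕ) : ∀ (G : Type u) [Group G] [Fintype G] (φ : S →* MulAut G)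
    (N : Subgroup G) [N.Normal] [Fintype N] (hNφ : ∀ s, ∀ k ∈ N, φ s k ∈ N)
    (_ : ∀ s ∈ S₀, ∃ n ∈ N, ∀ g, φ s g = n * g * n⁻¹) (_ : N.index = n)
    (_ : S₀.index.Coprime n) (_ : Group.IsSolvable (G ⧸ N)) (θ : IrrCharacter N)
    (_ : Inv (restrAct φ N hNφ) θ.1), ∃ χ : IrrCharacter G, Inv φ χ.1 ∧
      classInner (fun x : N => χ.1 x) θ.1 ≠ 0 := by
  induction n using Nat.strong_induction_on with
  | _ n ih =>
  intro G _ _ φ N hNn _ hNφ h₀ hidx hcop hsolv θ hθ
  classical
  by_cases hM : ∃ M : Subgroup G, M.Normal ∧ (∀ s, ∀ k ∈ M, φ s k ∈ M) ∧ N < M ∧ M < ⊤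
  · obtain ⟨M, hMn, hMφ, hNM, hMtop⟩ := hM
    letI := Fintype.ofFinite M
    set NM := N.subgroupOf M with hNMdef
    letI := Fintype.ofFinite NM
    have hle : N ≤ M := hNM.le
    let e : NM ≃* N := Subgroup.subgroupOfEquivOfLe hle
    have hrel : N.relIndex M * M.index = n := by rw [← hidx]; exact Subgroup.relIndex_mul_index hle
    have hn0 : 0 < n := by
      rw [← hidx]; exact Nat.pos_of_ne_zero Subgroup.index_ne_zero_of_finite
    have hM2 : 2 ≤ M.index := by
      have h1 : M.index ≠ 1 := fun h => hMtop.ne (Subgroup.index_eq_one.1 h)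
      have h2 : M.index ≠ 0 := Subgroup.index_ne_zero_of_finite
      omega
    have hN2 : 2 ≤ N.relIndex M := by
      have h1 : N.relIndex M ≠ 1 := fun h => hNM.not_ge (Subgroup.relIndex_eq_one.1 h)
      have h2 : N.relIndex M ≠ 0 := by
        intro h; rw [h, zero_mul] at hrel; omega
      omega
    have hφM : ∀ s, ∀ k ∈ NM, restrAct φ M hMφ s k ∈ NM := by
      intro s k hk
      rw [Subgroup.mem_subgroupOf, restrAct_coe]
      exact hNφ s k hk
    have hsol1 : Group.IsSolvable (M ⧸ NM) := by
      have hinj : Function.Injective (QuotientGroup.map NM N M.subtype (show NM ≤ N.comap M.subtype from fun x hx => hx)) := by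
        rw [injective_iff_map_eq_one]
        intro q hq
        obtain ⟨m, rfl⟩ := QuotientGroup.mk_surjective q
        rw [QuotientGroup.map_mk, QuotientGroup.eq_one_iff] at hq
        rw [QuotientGroup.eq_one_iff]
        exact hq
      exact Group.isSolvable_of_isSolvable_injective hinj
    have hsol2 : Group.IsSolvable (G ⧸ M) := by
      have hsur : Function.Surjective (QuotientGroup.map N M (MonoidHom.id G) hle) := by
        intro q
        obtain ⟨g, rfl⟩ := QuotientGroup.mk_surjective q
        exact ⟨(g : G ⧸ N), rfl⟩
      exact Group.isSolvable_of_surjective hsur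
    obtain ⟨ψ, hψ1, hψ2⟩ := ih (N.relIndex M) (by nlinarith) M (restrAct φ M hMφ) NM hφM (by
        intro s hs
        obtain ⟨k, hk, hk2⟩ := h₀ s hs
        refine ⟨⟨k, hle hk⟩, hk, fun g => Subtype.ext ?_⟩
        rw [restrAct_coe]
        exact hk2 g) rfl
      (hcop.coprime_dvd_right (Dvd.intro _ hrel)) hsol1
      ⟨fun x => θ.1 (e x), (isIrrCharacter_mulEquiv e).1 θ.2⟩ (by
        intro s k
        exact hθ s (e k))
    obtain ⟨χ, hχ1, hχ2⟩ := ih M.index (by nlinarith) G φ M hMφ (by
        intro s hs
        obtain ⟨k, hk, hk2⟩ := h₀ s hs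
        exact ⟨k, hle hk, hk2⟩) rfl
      (hcop.coprime_dvd_right (Dvd.intro_left _ hrel)) hsol2 ψ hψ1
    refine ⟨χ, hχ1, ?_⟩
    have hψ3 : classInner (fun x : N => ψ.1 (Subgroup.inclusion hle x)) θ.1 ≠ 0 := by
      rw [← classInner_mulEquiv e]
      exact hψ2
    exact H77.SubChar.restrict_trans M.subtype (Subgroup.inclusion hle) (isCharacter_of_isIrr χ.2)
      ψ.2 (isCharacter_of_isIrr θ.2) hχ2 hψ3
  · by_cases hNtop : N = ⊤
    · let e : N ≃* G := (MulEquiv.subgroupCongr hNtop).trans Subgroup.topEquiv
      have he : ∀ x : N, e x = (x : G) := fun x => rfl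
      have hes : ∀ g : G, ((e.symm g : N) : G) = g := fun g => by
        rw [← he, MulEquiv.apply_symm_apply]
      refine ⟨⟨fun g => θ.1 (e.symm g), (isIrrCharacter_mulEquiv e.symm).1 θ.2⟩, ?_, ?_⟩
      · intro s g
        show θ.1 (e.symm (φ s g)) = θ.1 (e.symm g)
        have h1 := hθ s (e.symm g)
        rw [← h1]
        congr 1
      · have h1 : (fun x : N => θ.1 (e.symm (x : G))) = θ.1 := by
          funext x
          congr 1
        show classInner (fun x : N => θ.1 (e.symm (x : G))) θ.1 ≠ 0
        rw [h1, inner_irr_self θ.2]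
        exact one_ne_zero
    · -- abelian quotient
      have hnt : Nontrivial (G ⧸ N) := by
        rw [← not_subsingleton_iff_nontrivial]
        intro hs
        exact hNtop (QuotientGroup.subgroup_eq_top_of_subsingleton N hs)
      have hcomm : commutator G ≤ N := by
        by_contra hnot
        set M := N ⊔ commutator G with hMdef
        have hMn : M.Normal := Subgroup.sup_normal N (commutator G)
        apply hM
        refine ⟨M, hMn, ?_, ?_, ?_⟩
        · intro s k hk
          have h1 : M.map ((φ s : MulAut G) : G →* G) ≤ M := by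
            rw [hMdef, Subgroup.map_sup]
            apply sup_le_sup
            · rintro _ ⟨x, hx, rfl⟩
              exact hNφ s x hx
            · exact (Subgroup.characteristic_iff_map_le.1 inferInstance (φ s))
          exact h1 ⟨k, hk, rfl⟩
        · refine lt_of_le_of_ne le_sup_left ?_
          intro h
          apply hnot
          rw [h]
          exact le_sup_right
        · rw [lt_top_iff_ne_top]
          intro htop
          -- commutator of the quotient is everything
          have h1 : commutator (G ⧸ N) = ⊤ := by
            rw [eq_top_iff]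
            intro q _
            obtain ⟨g, rfl⟩ := QuotientGroup.mk_surjective q
            have hg : g ∈ N ⊔ commutator G := by rw [← hMdef, htop]; exact Subgroup.mem_top g
            obtain ⟨a, ha, b, hb, rfl⟩ := Subgroup.mem_sup_of_normal_left.1 hg
            rw [QuotientGroup.mk_mul, (QuotientGroup.eq_one_iff a).2 ha, one_mul]
            have h2 : (commutator G).map (QuotientGroup.mk' N) ≤ commutator (G ⧸ N) := by
              rw [commutator_def, commutator_def, Subgroup.map_commutator]
              exact Subgroup.commutator_mono le_top le_top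
            exact h2 ⟨b, hb, rfl⟩
          have h2 := Group.IsSolvable.commutator_lt_top_of_nontrivial (G ⧸ N)
          exact h2.ne h1
      have hab : ∀ a b : G ⧸ N, a * b = b * a := by
        intro a b
        obtain ⟨x, rfl⟩ := QuotientGroup.mk_surjective a
        obtain ⟨y, rfl⟩ := QuotientGroup.mk_surjective b
        rw [← QuotientGroup.mk_mul, ← QuotientGroup.mk_mul, QuotientGroup.eq]
        have : (x * y)⁻¹ * (y * x) = ⁅y⁻¹, x⁻¹⁆ := by
          rw [commutatorElement_def]; group
        rw [this]
        exact hcomm (Subgroup.commutator_mem_commutator (Subgroup.mem_top _) (Subgroup.mem_top _))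
      set T := inertia N θ.1 with hT
      have hNT : N ≤ T := le_inertia N (isClassFunction_of_isIrr θ.2)
      have hTφ : ∀ s, ∀ k ∈ T, φ s k ∈ T := by
        intro s k hk
        rw [hT, mem_inertia_iff] at hk ⊢
        intro m
        have hm : φ s⁻¹ m ∈ N := hNφ s⁻¹ m m.2
        have h1 := hk ⟨_, hm⟩
        have h2 := hθ s⁻¹ m
        have h3 : restrAct φ N hNφ s⁻¹ m = ⟨φ s⁻¹ m, hm⟩ := rfl
        rw [h3] at h2
        have h5 := hθ s ⟨k * (φ s⁻¹ m) * k⁻¹, hNn.conj_mem _ hm k⟩
        rw [← h2, ← h1, ← h5]
        refine congrArg θ.1 (Subtype.ext ?_)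
        rw [restrAct_coe]
        simp only
        have h4 : φ s (φ s⁻¹ (m : G)) = m := act_act_inv φ s m
        rw [map_mul, map_mul, h4, map_inv]
      have hTn : T.Normal := ⟨fun k hk g => by
        have h1 : g * k * g⁻¹ = ⁅g, k⁆ * k := by rw [commutatorElement_def]; group
        rw [h1]
        exact T.mul_mem (hNT (hcomm (Subgroup.commutator_mem_commutator (Subgroup.mem_top _)
          (Subgroup.mem_top _)))) hk⟩
      by_cases hTtop : T = ⊤
      · -- invariant case
        obtain ⟨ψ, hψ⟩ := exists_over_irr N θ
        have hres : ∀ χ : IrrCharacter G, classInner (fun n : N => χ.1 n) θ.1 ≠ 0 →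
            (fun n : N => χ.1 n) = classInner (fun n : N => χ.1 n) θ.1 • θ.1 := fun χ hχ =>
          restrict_of_inv N χ.2 θ.2 hTtop hχ
        obtain ⟨hfin, hcardh⟩ := card_homs hab
        have hover : ∀ s, classInner (fun n : N => (actI φ s ψ).1 n) θ.1 ≠ 0 := by
          intro s
          have h1 := classInner_mulEquiv (restrAct φ N hNφ s⁻¹) (fun n : N => ψ.1 n) θ.1
          have h2 : (fun g : N => θ.1 (restrAct φ N hNφ s⁻¹ g)) = θ.1 := funext fun g => hθ s⁻¹ g
          rw [h2] at h1
          have h3 : (fun n : N => (actI φ s ψ).1 n) = fun g : N => (fun n : N => ψ.1 n)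
              (restrAct φ N hNφ s⁻¹ g) := rfl
          rw [h3, h1]
          exact hψ
        obtain ⟨l, hl⟩ := glaub (permS φ) (permL N) (by
            intro s l
            have hmap : N ≤ N.comap ((φ s⁻¹ : MulAut G) : G →* G) := fun x hx => hNφ s⁻¹ x hx
            refine ⟨l.comp (QuotientGroup.map N N ((φ s⁻¹ : MulAut G) : G →* G) hmap), ?_⟩
            rw [mul_inv_eq_iff_eq_mul]
            apply Equiv.ext
            intro χ
            apply Subtype.ext
            funext g
            rw [Equiv.Perm.mul_apply, Equiv.Perm.mul_apply, permL_apply, permS_apply, permS_apply,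
              actI_apply, actI_apply, permL_apply]
            rfl) (by
            have h1 := card_range_dvd (permS φ) S₀ (by
              intro s hs
              rw [MonoidHom.mem_ker]
              apply Equiv.ext
              intro χ
              apply Subtype.ext
              funext g
              rw [permS_apply, actI_apply]
              obtain ⟨k, hk, hk2⟩ := h₀ s⁻¹ (S₀.inv_mem hs)
              rw [hk2]
              exact isClassFunction_of_isIrr χ.2 _ _)
            have h2 : Nat.card (permL N).range ∣ n := by
              have h3 := card_range_dvd (permL N) ⊥ bot_le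
              rw [Subgroup.index_bot, hcardh] at h3
              rw [← hidx]
              exact h3
            exact Nat.Coprime.coprime_dvd_left h1 (hcop.coprime_dvd_right h2)) (by
            right
            have : ∀ a b : (permL N).range, a * b = b * a := by
              rintro ⟨_, ⟨a, rfl⟩⟩ ⟨_, ⟨b, rfl⟩⟩
              apply Subtype.ext
              show permL N a * permL N b = permL N b * permL N a
              have hc : a * b = b * a := by
                ext g
                show ((a g * b g : ℂˣ) : ℂ) = ((b g * a g : ℂˣ) : ℂ)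
                rw [mul_comm]
              rw [← map_mul, ← map_mul, hc]
            exact isSolvable_of_comm this) ψ (by
            intro s
            obtain ⟨l, hl⟩ := exists_linear N hab (χ := actI φ s ψ) (ψ := ψ) (by
              rw [hres ψ hψ, hres _ (hover s), CharOrtho.inner_smul_left, CharOrtho.inner_smul_right,
                inner_irr_self θ.2, mul_one]
              exact mul_ne_zero hψ (fun h => hover s ((map_eq_zero _).1 h)))
            exact ⟨l, hl⟩)
        refine ⟨permL N l ψ, (fixed_iff φ _).1 hl, ?_⟩
        have h1 : (fun x : N => (permL N l ψ).1 x) = fun x : N => ψ.1 x := by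
          funext x
          rw [permL_apply, (QuotientGroup.eq_one_iff (x : G)).2 x.2, map_one, Units.val_one, one_mul]
        rw [h1]
        exact hψ
      · -- the inertia group is `N`
        have hTN : T = N := by
          by_contra hne
          exact hM ⟨T, hTn, hTφ, lt_of_le_of_ne hNT (Ne.symm hne), lt_top_iff_ne_top.2 hTtop⟩
        have hnorm : classInner (indFun N θ.1) (indFun N θ.1) = 1 := by
          have h1 := norm_ind N θ.2
          rw [← hT, hTN] at h1
          have h2 : (Nat.card N : ℂ) ≠ 0 := card_ne_zero'
          exact mul_left_cancel₀ h2 (by rw [h1, mul_one])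
        have hirr : IsIrrCharacter G (indFun N θ.1) :=
          isIrr_of_norm_one (isCharacter_ind N (isCharacter_of_isIrr θ.2)) hnorm
        refine ⟨⟨_, hirr⟩, ?_, ?_⟩
        · intro s g
          show indFun N θ.1 (φ s g) = indFun N θ.1 g
          rw [indFun_apply', indFun_apply']
          congr 1
          symm
          refine Fintype.sum_equiv (φ s).toEquiv _ _ fun x => ?_
          show extendByZero N θ.1 (x * g * x⁻¹) = extendByZero N θ.1 (φ s x * φ s g * (φ s x)⁻¹)
          rw [← map_inv, ← map_mul, ← map_mul]
          by_cases hx : x * g * x⁻¹ ∈ N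
          · rw [ext_mem N _ hx, ext_mem N _ (hNφ s _ hx)]
            exact (hθ s ⟨_, hx⟩).symm
          · rw [ext_notMem N _ hx, ext_notMem N _ (fun h => hx (by
              have := hNφ s⁻¹ _ h
              have h4 : φ s⁻¹ (φ s (x * g * x⁻¹)) = x * g * x⁻¹ := act_inv_act φ s _
              rwa [h4] at this))]
        · intro h
          have h1 := CharInd.frobenius N θ.1 (isClassFunction_of_isIrr hirr)
          rw [hnorm] at h1
          have h2 : classInner θ.1 (fun x : N => indFun N θ.1 x) = 0 := by
            rw [← CharOrtho.inner_conj_symm]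
            have : classInner (fun x : N => indFun N θ.1 x) θ.1 = 0 := h
            rw [this, map_zero]
          rw [h2] at h1
          exact one_ne_zero h1

end main

end H77.OverInv
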