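import Cfsg.Agent.Lib.H77.PQuot
import Cfsg.Agent.Lib.H77.SubChar
import Cfsg.Agent.Lib.H77.GlPerm
import Cfsg.Agent.Lib.H81.DegNormal
import Cfsg.Agent.Lib.H83.SemiLin
import Cfsg.Agent.Lib.H83.Gallagher
import Cfsg.Agent.Lib.H18.DetChar
import Cfsg.Agent.Lib.H31.Clifford

/-!
# Groups with character degrees {1, m}: tools (H77.TwoDeg)
-/

set_option autoImplicit false
set_option linter.style.haveILetI false
set_option linter.unusedSectionVars false
open Cfsg

namespace H77.TwoDeg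

open H18.CharBasic H18.CharOrtho H18.CharInd H18.CharQuot H77.PQuot H31.Clifford H77.GlPerm

open scoped commutatorElement

universe u

section basic

variable {G : Type u} [Group G] [Finite G]

theorem comm_of_linear' (h : ∀ χ : IrrCharacter G, charDegree χ.1 = 1) (a b : G) : a * b = b * a :=
  H81.DegNormal.comm_of_linear (fun χ => by rw [← cast_irr χ, h χ, Nat.cast_one]) a b

theorem degree_le_index (A : Subgroup G) (hA : ∀ a ∈ A, ∀ b ∈ A, a * b = b * a) (χ : IrrCharacter G) :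
    charDegree χ.1 ≤ A.index := by
  classical
  letI := Fintype.ofFinite G
  letI := Fintype.ofFinite A
  obtain ⟨lam, hlam, h1⟩ := exists_constituent_restrict A χ.2
  have hl1 : lam 1 = 1 := degree_one_of_comm (fun a b => Subtype.ext (hA a a.2 b b.2)) hlam
  have h2 : classInner (indFun A lam) χ.1 ≠ 0 := by
    rw [frobenius A lam (isClassFunction_of_isIrr χ.2)]
    exact classInner_ne_zero_symm.1 h1
  refine H77.SubChar.degree_le (isCharacter_ind A (isCharacter_of_isIrr hlam)) χ.2 h2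
    (a := A.index) (b := charDegree χ.1) ?_ (cast_irr χ).symm
  rw [indFun_one, hl1, mul_one]

theorem exists_over_dvd (N : Subgroup G) [N.Normal] (θ : IrrCharacter N) :
    ∃ χ : IrrCharacter G, charDegree θ.1 ∣ charDegree χ.1 := by
  classical
  letI := Fintype.ofFinite G
  letI := Fintype.ofFinite N
  obtain ⟨χ, hχ, h1⟩ := exists_over N θ.2
  refine ⟨⟨χ, hχ⟩, ?_⟩
  have h2 := degree_eq N hχ θ.2 h1
  obtain ⟨e, he⟩ := inner_char_natCast (isCharacter_restrict N (isCharacter_of_isIrr hχ))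
    (isCharacter_of_isIrr θ.2)
  rw [he, ← cast_irr' hχ, ← cast_irr θ] at h2
  refine ⟨e * (inertia N θ.1).index, ?_⟩
  have h3 : ((charDegree χ : ℕ) : ℂ) = ((e * (inertia N θ.1).index * charDegree θ.1 : ℕ) : ℂ) := by
    rw [h2]; push_cast; ring
  have h4 : charDegree χ = e * (inertia N θ.1).index * charDegree θ.1 := by exact_mod_cast h3
  rw [h4]; ring

/-- degrees of normal subgroups and quotients -/
theorem infl_degree (K : Subgroup G) [K.Normal] (χ : IrrCharacter (G ⧸ K)) :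
    ∃ ψ : IrrCharacter G, charDegree ψ.1 = charDegree χ.1 ∧ ∀ g : G, ψ.1 g = χ.1 (g : G ⧸ K) := by
  refine ⟨⟨_, isIrrCharacter_comp (QuotientGroup.mk' K) (QuotientGroup.mk'_surjective K) χ.2⟩, ?_, fun g => rfl⟩
  have h1 := cast_irr (⟨_, isIrrCharacter_comp (QuotientGroup.mk' K) (QuotientGroup.mk'_surjective K) χ.2⟩ :
    IrrCharacter G)
  have h2 := cast_irr χ
  have h3 : ((charDegree (fun x => χ.1 (QuotientGroup.mk' K x)) : ℕ) : ℂ) = charDegree χ.1 := by
    rw [h2]
    exact h1.trans (by simp)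
  exact_mod_cast h3

/-- `λψ = ψ` forces `λ^{ψ(1)} = 1` -/
theorem pow_of_mul_eq (l : G →* ℂˣ) (ψ : IrrCharacter G) (h : ∀ g, (l g : ℂ) * ψ.1 g = ψ.1 g) :
    l ^ charDegree ψ.1 = 1 := by
  ext g
  have h1 := H18.DetChar.detChar_hom_mul l (isCharacter_of_isIrr ψ.2) (cast_irr ψ).symm g
  have h2 : (fun g => (l g : ℂ) * ψ.1 g) = ψ.1 := funext h
  rw [h2] at h1
  obtain ⟨f, hf⟩ := H18.DetChar.exists_detHom (isCharacter_of_isIrr ψ.2)
  rw [hf] at h1
  have h3 : ((f g : ℂˣ) : ℂ) ≠ 0 := (f g).ne_zero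
  have h4 : ((f g : ℂˣ) : ℂ) = (l g : ℂ) ^ charDegree ψ.1 * ((f g : ℂˣ) : ℂ) := h1
  rw [MonoidHom.pow_apply, Units.val_pow_eq_pow_val, MonoidHom.one_apply, Units.val_one]
  exact mul_right_cancel₀ h3 (by rw [one_mul]; exact h4.symm)

end basic

section lemY

variable {G : Type u} [Group G] [Finite G]

/-- conjugate of a homomorphism of a normal subgroup -/
def cjh (N : Subgroup G) [N.Normal] (g : G) (l : N →* ℂˣ) : N →* ℂˣ :=
  l.comp (MulAut.conjNormal g).toMonoidHom

theorem cjh_apply (N : Subgroup G) [hN : N.Normal] (g : G) (l : N →* ℂˣ) (n : N) :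
    cjh N g l n = l ⟨g * n * g⁻¹, hN.conj_mem n n.2 g⟩ := rfl

theorem cjh_mul (N : Subgroup G) [hN : N.Normal] (a b : G) (l : N →* ℂˣ) :
    cjh N b (cjh N a l) = cjh N (a * b) l := by
  ext n
  rw [cjh_apply, cjh_apply, cjh_apply]
  congr 2
  apply Subtype.ext
  simp [mul_assoc]

theorem cjh_one (N : Subgroup G) [hN : N.Normal] (l : N →* ℂˣ) : cjh N 1 l = l := by
  ext n
  rw [cjh_apply]
  congr 2
  apply Subtype.ext; simp

theorem cjh_hmul (N : Subgroup G) [hN : N.Normal] (g : G) (l m : N →* ℂˣ) :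
    cjh N g (l * m) = cjh N g l * cjh N g m := rfl

theorem cjh_inv (N : Subgroup G) [hN : N.Normal] (g : G) (l : N →* ℂˣ) :
    cjh N g l⁻¹ = (cjh N g l)⁻¹ := rfl

theorem lemY (N : Subgroup G) [hN : N.Normal] (m : ℕ) (hm : N.index = m)
    (hcd : ∀ χ : IrrCharacter G, charDegree χ.1 = 1 ∨ charDegree χ.1 = m)
    (L : Subgroup (N →* ℂˣ)) (hL1 : ∃ l ∈ L, l ≠ 1) (hLcop : ∀ l ∈ L, (orderOf l).Coprime m)
    (hLst : ∀ g : G, ∀ l ∈ L, cjh N g l ∈ L)
    (hfix : ∀ g : G, g ∉ N → ∀ l ∈ L, cjh N g l = l → l = 1) :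
    ∀ a ∈ N, ∀ b ∈ N, a * b = b * a := by
  classical
  letI := Fintype.ofFinite G
  letI := Fintype.ofFinite N
  have hm0 : 0 < m := by rw [← hm]; exact Nat.pos_of_ne_zero Subgroup.index_ne_zero_of_finite
  haveI hfinHom : Finite (N →* ℂˣ) := by
    apply Nat.finite_of_card_ne_zero
    rw [card_hom_eq_index]
    exact Subgroup.index_ne_zero_of_finite
  have hlin : ∀ ψ : IrrCharacter N, charDegree ψ.1 = 1 := by
    intro ψ
    have hr : charDegree ψ.1 ∣ m := by
      obtain ⟨χ, hχ⟩ := exists_over_dvd N ψ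
      rcases hcd χ with h | h
      · rw [h] at hχ; exact hχ.trans (one_dvd m)
      · rw [h] at hχ; exact hχ
    -- it is enough to find `l` with `lψ` having trivial stabilizer
    by_cases hex : ∃ l ∈ L, ∀ g : G, conjFunN N g (mulI l ψ).1 = (mulI l ψ).1 → g ∈ N
    · obtain ⟨l, hl, hst⟩ := hex
      have hT : ∀ g : G, g ∈ N ↔ conjFunN N g (mulI l ψ).1 = (mulI l ψ).1 := fun g =>
        ⟨fun hg => cj_mem N (isClassFunction_of_isIrr (mulI l ψ).2) hg, hst g⟩
      have h1 : resH (le_refl N) (mulI l ψ).1 = (mulI l ψ).1 := rfl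
      have h2 := corr_irr N N (le_refl N) (mulI l ψ).2 hT (mulI l ψ).2 (by
        rw [h1, inner_irr_self (mulI l ψ).2]; exact one_ne_zero)
      have h3 : charDegree (indFun N (mulI l ψ).1) = m * charDegree ψ.1 := by
        have h4 := cast_irr' h2.1
        rw [indFun_one, hm] at h4
        have h5 : (mulI l ψ).1 1 = ψ.1 1 := by
          change ((l 1 : ℂˣ) : ℂ) * ψ.1 1 = ψ.1 1
          rw [map_one, Units.val_one, one_mul]
        rw [h5, ← cast_irr ψ] at h4
        exact_mod_cast h4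
      rcases hcd ⟨_, h2.1⟩ with h | h
      · change charDegree (indFun N (mulI l ψ).1) = 1 at h
        rw [h3] at h
        exact Nat.eq_one_of_mul_eq_one_left h
      · change charDegree (indFun N (mulI l ψ).1) = m at h
        rw [h3] at h
        exact Nat.eq_of_mul_eq_mul_left hm0 (by rw [h, mul_one])
    · exfalso
      push Not at hex
      choose F hF using hex
      -- the map L → G/N minus 1
      let Φ : L → {q : G ⧸ N // q ≠ 1} := fun l => ⟨(F l.1 l.2 : G ⧸ N), fun h =>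
        (hF l.1 l.2).2 ((QuotientGroup.eq_one_iff _).1 h)⟩
      have hΦ : Function.Injective Φ := by
        intro l l' h
        have h1 : ((F l.1 l.2 : G) : G ⧸ N) = (F l'.1 l'.2 : G) := congrArg Subtype.val h
        rw [QuotientGroup.eq] at h1
        -- g' = g * n
        have h2 : conjFunN N (F l.1 l.2) (mulI l'.1 ψ).1 = (mulI l'.1 ψ).1 := by
          have h3 := (hF l'.1 l'.2).1
          have h4 : F l'.1 l'.2 = F l.1 l.2 * ((F l.1 l.2)⁻¹ * F l'.1 l'.2) := by group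
          rw [h4, ← cj_mul] at h3
          have h5 : IsClassFunction N (conjFunN N (F l.1 l.2) (mulI l'.1 ψ).1) :=
            isClassFunction_of_isIrr (isIrrCharacter_conjN N _ (mulI l'.1 ψ).2)
          rw [cj_mem N h5 h1] at h3
          exact h3
        have h3 := (hF l.1 l.2).1
        set g := F l.1 l.2 with hg
        -- ν
        let ν : N →* ℂˣ := l.1 * l'.1⁻¹
        have h6 : ∀ n : N, (((cjh N g ν)⁻¹ * ν) n : ℂ) * ψ.1 n = ψ.1 n := by
          intro n
          have e1 := congrFun h3 n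
          have e2 := congrFun h2 n
          have e1' : ((cjh N g l.1 n : ℂˣ) : ℂ) * conjFunN N g ψ.1 n = ((l.1 n : ℂˣ) : ℂ) * ψ.1 n := e1
          have e2' : ((cjh N g l'.1 n : ℂˣ) : ℂ) * conjFunN N g ψ.1 n = ((l'.1 n : ℂˣ) : ℂ) * ψ.1 n := e2
          have hν : (((cjh N g ν)⁻¹ * ν) n : ℂˣ) =
              (cjh N g l'.1 n * (cjh N g l.1 n)⁻¹) * (l.1 n * (l'.1 n)⁻¹) := by
            change ((cjh N g l.1 n) * (cjh N g l'.1 n)⁻¹)⁻¹ * (l.1 n * (l'.1 n)⁻¹) = _
            rw [mul_inv, inv_inv, mul_comm ((cjh N g l.1 n)⁻¹)]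
          rw [hν]
          push_cast
          have n1 : ((cjh N g l.1 n : ℂˣ) : ℂ) ≠ 0 := (cjh N g l.1 n).ne_zero
          have n2 : ((cjh N g l'.1 n : ℂˣ) : ℂ) ≠ 0 := (cjh N g l'.1 n).ne_zero
          have n3 : ((l.1 n : ℂˣ) : ℂ) ≠ 0 := (l.1 n).ne_zero
          have n4 : ((l'.1 n : ℂˣ) : ℂ) ≠ 0 := (l'.1 n).ne_zero
          have e3 : conjFunN N g ψ.1 n = ((cjh N g l'.1 n : ℂˣ) : ℂ)⁻¹ * (((l'.1 n : ℂˣ) : ℂ) * ψ.1 n) := by
            rw [← e2', inv_mul_cancel_left₀ n2]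
          rw [e3] at e1'
          have e4 : ((l.1 n : ℂˣ) : ℂ) * ψ.1 n =
              ((cjh N g l.1 n : ℂˣ) : ℂ) * (((cjh N g l'.1 n : ℂˣ) : ℂ)⁻¹ * (((l'.1 n : ℂˣ) : ℂ) * ψ.1 n)) :=
            e1'.symm
          calc ((cjh N g l'.1 n : ℂˣ) : ℂ) * ((cjh N g l.1 n : ℂˣ) : ℂ)⁻¹ *
                (((l.1 n : ℂˣ) : ℂ) * ((l'.1 n : ℂˣ) : ℂ)⁻¹) * ψ.1 n
              = ((cjh N g l'.1 n : ℂˣ) : ℂ) * ((cjh N g l.1 n : ℂˣ) : ℂ)⁻¹ * ((l'.1 n : ℂˣ) : ℂ)⁻¹ *
                (((l.1 n : ℂˣ) : ℂ) * ψ.1 n) := by ring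
            _ = ψ.1 n := by
                rw [e4]
                field_simp
        have h7 := pow_of_mul_eq ((cjh N g ν)⁻¹ * ν) ψ h6
        have hνL : ν ∈ L := L.mul_mem l.2 (L.inv_mem l'.2)
        have h8 : (cjh N g ν)⁻¹ * ν ∈ L := L.mul_mem (L.inv_mem (hLst g ν hνL)) hνL
        have h9 : (cjh N g ν)⁻¹ * ν = 1 := by
          have h10 := hLcop _ h8
          have h11 : orderOf ((cjh N g ν)⁻¹ * ν) ∣ m := (orderOf_dvd_of_pow_eq_one h7).trans hr
          have h12 : orderOf ((cjh N g ν)⁻¹ * ν) = 1 := Nat.Coprime.eq_one_of_dvd h10 h11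
          exact orderOf_eq_one_iff.1 h12
        have h10 : cjh N g ν = ν := by
          ext n
          have h13 : ((cjh N g ν) n)⁻¹ * ν n = 1 := DFunLike.congr_fun h9 n
          rw [inv_mul_eq_one] at h13
          rw [h13]
        have h11 : ν = 1 := hfix g (hF l.1 l.2).2 ν hνL h10
        apply Subtype.ext
        exact mul_inv_eq_one.1 h11
      -- the map G/N → L
      obtain ⟨l0, hl0, hl01⟩ := hL1
      let Ψ : G ⧸ N → L := fun q => ⟨cjh N q.out l0, hLst _ _ hl0⟩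
      have hΨ : Function.Injective Ψ := by
        intro q q' h
        have h1 : cjh N q.out l0 = cjh N q'.out l0 := congrArg Subtype.val h
        have h2 : cjh N (q.out * q'.out⁻¹) l0 = l0 := by
          rw [← cjh_mul, h1, cjh_mul, mul_inv_cancel, cjh_one]
        have h3 : q.out * q'.out⁻¹ ∈ N := by
          by_contra hcon
          exact hl01 (hfix _ hcon l0 hl0 h2)
        have h4 : (q.out : G ⧸ N) = (q'.out : G ⧸ N) := by
          have h5 : ((q.out * q'.out⁻¹ : G) : G ⧸ N) = 1 := (QuotientGroup.eq_one_iff _).2 h3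
          rw [QuotientGroup.mk_mul, QuotientGroup.mk_inv, mul_inv_eq_one] at h5
          exact h5
        rwa [QuotientGroup.out_eq', QuotientGroup.out_eq'] at h4
      have h1 : Nat.card (G ⧸ N) ≤ Nat.card L := Nat.card_le_card_of_injective Ψ hΨ
      have h2 : Nat.card L ≤ Nat.card {q : G ⧸ N // q ≠ 1} := Nat.card_le_card_of_injective Φ hΦ
      have h3 : Nat.card {q : G ⧸ N // q ≠ 1} < Nat.card (G ⧸ N) := by
        letI := Fintype.ofFinite (G ⧸ N)
        rw [Nat.card_eq_fintype_card, Nat.card_eq_fintype_card]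
        exact Fintype.card_subtype_lt (x := (1 : G ⧸ N)) (fun h => h rfl)
      omega
  intro a ha b hb
  exact congrArg Subtype.val (comm_of_linear' hlin ⟨a, ha⟩ ⟨b, hb⟩)

end lemY

section lemX

variable {G : Type u} [Group G] [Finite G]

/-- the coprime trick -/
theorem comm_trick (N : Subgroup G) (q n w : G) (hw : w ∈ N)
    (hwn : q * n * q⁻¹ = n * w) (hqw : q * w = w * q) (hnw : n * w = w * n)
    (hcop : (Nat.card N).Coprime (orderOf q)) : w = 1 := by
  have h1 : ∀ k : ℕ, q ^ k * n * (q ^ k)⁻¹ = n * w ^ k := by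
    intro k
    induction k with
    | zero => simp
    | succ k ih =>
      have h2 : q * w ^ k * q⁻¹ = w ^ k := by
        rw [(Commute.pow_right (show Commute q w from hqw) k).eq]; group
      calc q ^ (k + 1) * n * (q ^ (k + 1))⁻¹ = q * (q ^ k * n * (q ^ k)⁻¹) * q⁻¹ := by
            rw [pow_succ']; group
        _ = q * (n * w ^ k) * q⁻¹ := by rw [ih]
        _ = (q * n * q⁻¹) * (q * w ^ k * q⁻¹) := by group
        _ = n * w * w ^ k := by rw [hwn, h2]
        _ = n * w ^ (k + 1) := by rw [mul_assoc, ← pow_succ']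
  have h2 := h1 (orderOf q)
  rw [pow_orderOf_eq_one, one_mul, inv_one, mul_one] at h2
  have h3 : w ^ orderOf q = 1 := by
    have : n * w ^ orderOf q = n * 1 := by rw [← h2, mul_one]
    exact mul_left_cancel this
  have h4 : orderOf w ∣ Nat.card N := by
    have := orderOf_dvd_natCard (⟨w, hw⟩ : N)
    rwa [Subgroup.orderOf_mk] at this
  have h5 : orderOf w ∣ orderOf q := orderOf_dvd_of_pow_eq_one h3
  have h6 : orderOf w = 1 := Nat.eq_one_of_dvd_coprimes hcop h4 h5
  exact orderOf_eq_one_iff.1 h6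

theorem lemX (N : Subgroup G) [hN : N.Normal] (hab : ∀ a ∈ N, ∀ b ∈ N, a * b = b * a)
    (hcop : (Nat.card N).Coprime N.index) (hnil : Group.IsNilpotent (G ⧸ N))
    (hV : ⁅N, (⊤ : Subgroup G)⁆ ≠ ⊥)
    (hmin : ∀ M : Subgroup G, M.Normal → M ≠ ⊥ → ⁅N, (⊤ : Subgroup G)⁆ ≤ M) (m : ℕ)
    (hcd : ∀ χ : IrrCharacter G, charDegree χ.1 = 1 ∨ charDegree χ.1 = m) :
    N.index = m ∧ ∀ g : G, g ∉ N → ∀ l : N →* ℂˣ, cjh N g l = l → l = 1 := by
  classical
  letI := Fintype.ofFinite G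
  letI := Fintype.ofFinite N
  obtain ⟨Q, hQ⟩ := Subgroup.exists_right_complement'_of_coprime hcop
  have hdisj : N ⊓ Q = ⊥ := hQ.disjoint.eq_bot
  have hQcard : Nat.card Q = N.index := hQ.symm.index_eq_card.symm
  have hdec : ∀ g : G, ∃ n ∈ N, ∃ q ∈ Q, g = n * q := by
    intro g
    obtain ⟨⟨n, q⟩, h⟩ := hQ.2 g
    exact ⟨n, n.2, q, q.2, h.symm⟩
  have hcopq : ∀ q ∈ Q, (Nat.card N).Coprime (orderOf q) := by
    intro q hq
    apply Nat.Coprime.coprime_dvd_right _ hcop
    rw [← hQcard]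
    have := orderOf_dvd_natCard (⟨q, hq⟩ : Q)
    rwa [Subgroup.orderOf_mk] at this
  have hVN : ⁅N, (⊤ : Subgroup G)⁆ ≤ N := Subgroup.commutator_le_left N ⊤
  -- w = n⁻¹ (q n q⁻¹)
  have hw : ∀ n ∈ N, ∀ q : G, n⁻¹ * (q * n * q⁻¹) ∈ ⁅N, (⊤ : Subgroup G)⁆ := by
    intro n hn q
    have h1 : n⁻¹ * (q * n * q⁻¹) = ⁅n⁻¹, q⁆ := by rw [commutatorElement_def]; group
    rw [h1]
    exact Subgroup.commutator_mem_commutator (N.inv_mem hn) (Subgroup.mem_top q)
  -- if q ∈ Q commutes with V then it centralizes N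
  have hcent : ∀ q ∈ Q, (∀ v ∈ ⁅N, (⊤ : Subgroup G)⁆, q * v = v * q) → ∀ n ∈ N, q * n = n * q := by
    intro q hq hqv n hn
    have h1 := comm_trick N q n (n⁻¹ * (q * n * q⁻¹)) (hVN (hw n hn q)) (by group)
      (hqv _ (hw n hn q)) (hab _ hn _ (hVN (hw n hn q))) (hcopq q hq)
    have h2 : q * n * q⁻¹ = n := by
      have : n * (n⁻¹ * (q * n * q⁻¹)) = n * 1 := by rw [h1]
      rwa [mul_inv_cancel_left, mul_one] at this
    calc q * n = (q * n * q⁻¹) * q := by group
      _ = n * q := by rw [h2]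
  -- C_Q(N) = 1
  have hCQ : ∀ q ∈ Q, (∀ n ∈ N, q * n = n * q) → q = 1 := by
    let D : Subgroup G := Q ⊓ Subgroup.centralizer (N : Set G)
    have hD : D.Normal := by
      refine ⟨fun d hd g => ?_⟩
      obtain ⟨n, hn, q, hq, rfl⟩ := hdec g
      have hcn : (Subgroup.centralizer (N : Set G)).Normal := inferInstance
      have h1 : q * d * q⁻¹ ∈ D := ⟨Q.mul_mem (Q.mul_mem hq hd.1) (Q.inv_mem hq), hcn.conj_mem d hd.2 q⟩
      have h2 : n * (q * d * q⁻¹) = (q * d * q⁻¹) * n :=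
        (Subgroup.mem_centralizer_iff.1 h1.2 n hn)
      have h3 : n * q * d * (n * q)⁻¹ = q * d * q⁻¹ := by
        calc n * q * d * (n * q)⁻¹ = (n * (q * d * q⁻¹)) * n⁻¹ := by group
          _ = q * d * q⁻¹ := by rw [h2]; group
      rw [h3]; exact h1
    have hDbot : D = ⊥ := by
      by_contra hne
      have h1 := hmin D hD hne
      apply hV
      rw [eq_bot_iff, ← hdisj]
      exact le_inf hVN (h1.trans inf_le_left)
    intro q hq hqn
    have : q ∈ D := ⟨hq, Subgroup.mem_centralizer_iff.2 fun n hn => (hqn n hn).symm⟩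
    rwa [hDbot, Subgroup.mem_bot] at this
  -- central elements of Q act without fixed points on the characters
  have hfree : ∀ z ∈ Q, z ≠ 1 → (∀ q ∈ Q, q * z = z * q) → ∀ l : N →* ℂˣ, cjh N z l = l → l = 1 := by
    intro z hz hz1 hzc l hl
    let F : Subgroup G := N ⊓ Subgroup.centralizer ({z} : Set G)
    have hF : F.Normal := by
      refine ⟨fun f hf g => ?_⟩
      obtain ⟨n, hn, q, hq, rfl⟩ := hdec g
      have h1 : q * f * q⁻¹ ∈ F := by
        refine ⟨hN.conj_mem f hf.1 q, ?_⟩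
        change _ ∈ Subgroup.centralizer ({z} : Set G)
        rw [Subgroup.mem_centralizer_singleton_iff]
        have h2 := Subgroup.mem_centralizer_singleton_iff.1 hf.2
        have h3 := hzc q hq
        calc q * f * q⁻¹ * z = q * f * (q⁻¹ * z * q) * q⁻¹ := by group
          _ = q * f * z * q⁻¹ := by
              rw [show q⁻¹ * z * q = z by rw [mul_assoc, ← h3]; group]
          _ = q * (z * f) * q⁻¹ := by rw [← h2]; group
          _ = z * (q * f * q⁻¹) := by rw [← mul_assoc, h3]; group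
      have h2 : n * (q * f * q⁻¹) = (q * f * q⁻¹) * n := hab n hn _ h1.1
      have h3 : n * q * f * (n * q)⁻¹ = q * f * q⁻¹ := by
        calc n * q * f * (n * q)⁻¹ = (n * (q * f * q⁻¹)) * n⁻¹ := by group
          _ = q * f * q⁻¹ := by rw [h2]; group
      rw [h3]; exact h1
    have hFbot : F = ⊥ := by
      by_contra hne
      have h1 := hmin F hF hne
      apply hz1
      apply hCQ z hz
      apply hcent z hz
      intro v hv
      exact ((Subgroup.mem_centralizer_singleton_iff.1 (h1 hv).2)).symm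
    -- the map n ↦ n⁻¹ (z n z⁻¹) is bijective on N
    let φ : N → N := fun n => n⁻¹ * ⟨z * n * z⁻¹, hN.conj_mem n n.2 z⟩
    have hφ : Function.Injective φ := by
      intro a b h
      have h1 : ((a : G))⁻¹ * (z * a * z⁻¹) = (b : G)⁻¹ * (z * b * z⁻¹) := congrArg Subtype.val h
      have h2 : (b : G) * (a : G)⁻¹ ∈ F := by
        refine ⟨N.mul_mem b.2 (N.inv_mem a.2), ?_⟩
        change _ ∈ Subgroup.centralizer ({z} : Set G)
        rw [Subgroup.mem_centralizer_singleton_iff]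
        have h3 : z * a * z⁻¹ = a * (b : G)⁻¹ * (z * b * z⁻¹) := by
          calc z * a * z⁻¹ = a * ((a : G)⁻¹ * (z * a * z⁻¹)) := by group
            _ = a * ((b : G)⁻¹ * (z * b * z⁻¹)) := by rw [h1]
            _ = a * (b : G)⁻¹ * (z * b * z⁻¹) := by group
        have hzb : z * b * z⁻¹ ∈ N := hN.conj_mem b b.2 z
        have hza : z * a * z⁻¹ ∈ N := hN.conj_mem a a.2 z
        -- z (b a⁻¹) z⁻¹ = b a⁻¹
        have h4 : z * ((b : G) * (a : G)⁻¹) * z⁻¹ = (b : G) * (a : G)⁻¹ := by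
          calc z * ((b : G) * (a : G)⁻¹) * z⁻¹ = (z * b * z⁻¹) * (z * a * z⁻¹)⁻¹ := by group
            _ = (z * b * z⁻¹) * (a * (b : G)⁻¹ * (z * b * z⁻¹))⁻¹ := by rw [h3]
            _ = ((a : G) * (b : G)⁻¹)⁻¹ := by group
            _ = (b : G) * (a : G)⁻¹ := by group
        calc (b : G) * (a : G)⁻¹ * z = (z * ((b : G) * (a : G)⁻¹) * z⁻¹) * z := by rw [h4]
          _ = z * ((b : G) * (a : G)⁻¹) := by group
      rw [hFbot, Subgroup.mem_bot, mul_inv_eq_one] at h2
      exact Subtype.ext h2.symm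
    have hφs : Function.Surjective φ := Finite.surjective_of_injective hφ
    ext n
    obtain ⟨n', rfl⟩ := hφs n
    have h1 := DFunLike.congr_fun hl n'
    rw [cjh_apply] at h1
    simp only [φ]
    rw [map_mul, map_inv, h1, inv_mul_cancel]
    rfl
  -- a nontrivial linear character
  obtain ⟨l0, hl0⟩ : ∃ l : N →* ℂˣ, l ≠ 1 := by
    have hNne : N ≠ ⊥ := by
      rintro rfl
      apply hV
      rw [Subgroup.commutator_bot_left]
    obtain ⟨x, hx1⟩ := Subgroup.ne_bot_iff_exists_ne_one.1 hNne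
    have h1 : commutator N = ⊥ := by
      rw [commutator_eq_bot_iff_center_eq_top, Subgroup.eq_top_iff']
      intro y
      rw [Subgroup.mem_center_iff]
      intro z
      exact Subtype.ext (hab z z.2 y y.2)
    obtain ⟨f, hf⟩ := exists_hom_ne_one (g := x) (by rw [h1, Subgroup.mem_bot]; exact hx1)
    exact ⟨f, fun h => hf (by rw [h]; rfl)⟩
  -- the inertia group
  let θ : N → ℂ := fun n => ((l0 n : ℂˣ) : ℂ)
  have hθ : IsIrrCharacter N θ := isIrrCharacter_of_hom l0
  let T : Subgroup G := inertia N θ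
  letI := Fintype.ofFinite T
  have hTmem : ∀ g : G, g ∈ T ↔ cjh N g l0 = l0 := by
    intro g
    rw [mem_inertia]
    constructor
    · intro h
      ext n
      exact congrFun h n
    · intro h
      funext n
      have := DFunLike.congr_fun h n
      exact congrArg Units.val this
  have hNT : N ≤ T := le_inertia N (isClassFunction_of_isIrr hθ)
  obtain ⟨Λ, hΛ, -⟩ := H83.SemiLin.exists_ext N Q T hQ hNT l0 (fun g hg n =>
    DFunLike.congr_fun ((hTmem g).1 hg) n)
  have hΛirr : IsIrrCharacter T (fun t => ((Λ t : ℂˣ) : ℂ)) := isIrrCharacter_of_hom Λ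
  have hind : ∀ β : IrrCharacter T, (∀ n : N, β.1 ⟨n, hNT n.2⟩ = β.1 1) →
      ∃ χ : IrrCharacter G, charDegree χ.1 = T.index * charDegree β.1 := by
    intro β hβ
    have h1 : IsIrrCharacter T (fun t => ((Λ t : ℂˣ) : ℂ) * β.1 t) := isIrrCharacter_hom_mul Λ β.2
    have h2 : resH hNT (fun t => ((Λ t : ℂˣ) : ℂ) * β.1 t) = (β.1 1) • θ := by
      funext n
      rw [resH_apply, hΛ, hβ, Pi.smul_apply, smul_eq_mul, mul_comm]
    have h3 := corr_irr N T hNT hθ (fun g => mem_inertia N) h1 (by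
      rw [h2, H18.CharOrtho.inner_smul_left, inner_irr_self hθ, mul_one]
      exact irr_one_ne_zero β.2)
    refine ⟨⟨_, h3.1⟩, ?_⟩
    have h4 := cast_irr' h3.1
    rw [indFun_one, map_one, Units.val_one, one_mul, ← cast_irr β] at h4
    exact_mod_cast h4
  -- Q is nontrivial
  have hQne : ∃ q ∈ Q, q ≠ 1 := by
    by_contra hcon
    push Not at hcon
    apply hV
    rw [Subgroup.commutator_eq_bot_iff_le_centralizer]
    intro n hn
    rw [Subgroup.mem_centralizer_iff]
    intro g _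
    obtain ⟨n', hn', q, hq, rfl⟩ := hdec g
    rw [hcon q hq, mul_one]
    exact hab n' hn' n hn
  haveI hnt : Nontrivial (G ⧸ N) := by
    obtain ⟨q, hq, hq1⟩ := hQne
    refine ⟨⟨(q : G ⧸ N), 1, fun h => hq1 ?_⟩⟩
    have h1 : q ∈ N := (QuotientGroup.eq_one_iff q).1 h
    have : q ∈ N ⊓ Q := ⟨h1, hq⟩
    rwa [hdisj, Subgroup.mem_bot] at this
  -- lifting central elements
  have hlift : ∀ z : G ⧸ N, z ∈ Subgroup.center (G ⧸ N) → z ≠ 1 →
      ∃ q ∈ Q, q ≠ 1 ∧ (q : G ⧸ N) = z ∧ ∀ q' ∈ Q, q' * q = q * q' := by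
    intro z hz hz1
    obtain ⟨g, rfl⟩ := QuotientGroup.mk_surjective z
    obtain ⟨n, hn, q, hq, rfl⟩ := hdec g
    have h1 : ((n * q : G) : G ⧸ N) = (q : G ⧸ N) := by
      rw [QuotientGroup.mk_mul, (QuotientGroup.eq_one_iff n).2 hn, one_mul]
    rw [h1] at hz hz1 ⊢
    refine ⟨q, hq, ?_, rfl, ?_⟩
    · rintro rfl
      exact hz1 rfl
    · intro q' hq'
      have h2 := Subgroup.mem_center_iff.1 hz (q' : G ⧸ N)
      rw [← QuotientGroup.mk_mul, ← QuotientGroup.mk_mul, QuotientGroup.eq] at h2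
      have h3 : (q' * q)⁻¹ * (q * q') ∈ N ⊓ Q :=
        ⟨h2, Q.mul_mem (Q.inv_mem (Q.mul_mem hq' hq)) (Q.mul_mem hq hq')⟩
      rw [hdisj, Subgroup.mem_bot, inv_mul_eq_one] at h3
      exact h3
  obtain ⟨z0, hz0⟩ : ∃ z : Subgroup.center (G ⧸ N), z ≠ 1 :=
    Subgroup.ne_bot_iff_exists_ne_one.1 (Group.IsNilpotent.center_ne_bot (G ⧸ N))
  obtain ⟨q0, hq0, hq01, hq0z, hq0c⟩ := hlift z0 z0.2 (fun h => hz0 (Subtype.ext h))
  have hq0T : q0 ∉ T := fun h => hl0 (hfree q0 hq0 hq01 hq0c l0 ((hTmem q0).1 h))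
  have hTtop : T.index ≠ 1 := by
    intro h
    rw [Subgroup.index_eq_one] at h
    exact hq0T (by rw [h]; trivial)
  have hTm : T.index = m := by
    obtain ⟨χ, hχ⟩ := hind ⟨_, isIrrCharacter_one⟩ (fun n => rfl)
    have h1 : charDegree (⟨_, isIrrCharacter_one⟩ : IrrCharacter T).1 = 1 := by
      have h2 := cast_irr (⟨_, isIrrCharacter_one⟩ : IrrCharacter T)
      have h3 : ((charDegree (⟨_, isIrrCharacter_one⟩ : IrrCharacter T).1 : ℕ) : ℂ) = 1 := h2
      exact_mod_cast h3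
    rw [h1, mul_one] at hχ
    rcases hcd χ with h | h
    · exact absurd (hχ.symm.trans h) hTtop
    · exact hχ.symm.trans h
  have hm0 : 0 < m := by rw [← hTm]; exact Nat.pos_of_ne_zero Subgroup.index_ne_zero_of_finite
  -- T / N is abelian
  have hTab : ∀ a ∈ T, ∀ b ∈ T, a * b * a⁻¹ * b⁻¹ ∈ N := by
    have h1 : ∀ x y : T ⧸ (N.subgroupOf T), x * y = y * x := by
      apply comm_of_linear'
      intro β
      obtain ⟨ψ, hψ1, hψ2⟩ := infl_degree (N.subgroupOf T) β
      obtain ⟨χ, hχ⟩ := hind ψ (fun n => by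
        rw [hψ2, hψ2]
        have h5 : ((⟨n, hNT n.2⟩ : T) : T ⧸ (N.subgroupOf T)) = ((1 : T) : T ⧸ (N.subgroupOf T)) := by
          rw [QuotientGroup.mk_one, QuotientGroup.eq_one_iff, Subgroup.mem_subgroupOf]
          exact n.2
        rw [h5])
      rw [hψ1, hTm] at hχ
      rcases hcd χ with h | h
      · rw [hχ] at h; exact Nat.eq_one_of_mul_eq_one_left h
      · rw [hχ] at h
        exact Nat.eq_of_mul_eq_mul_left hm0 (by rw [h, mul_one])
    intro a ha b hb
    have h2 := h1 ((⟨a, ha⟩ : T) : T ⧸ (N.subgroupOf T)) ((⟨b, hb⟩ : T) : T ⧸ (N.subgroupOf T))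
    rw [← QuotientGroup.mk_mul, ← QuotientGroup.mk_mul] at h2
    have h3 : (((⟨a, ha⟩ : T) * ⟨b, hb⟩ * (⟨a, ha⟩ : T)⁻¹ * (⟨b, hb⟩ : T)⁻¹ : T) : T ⧸ (N.subgroupOf T)) = 1 := by
      rw [QuotientGroup.mk_mul, QuotientGroup.mk_mul, h2]
      rw [QuotientGroup.mk_mul, QuotientGroup.mk_inv, QuotientGroup.mk_inv]
      group
    rw [QuotientGroup.eq_one_iff, Subgroup.mem_subgroupOf] at h3
    exact h3
  -- G / N is abelian
  have hGab : ∀ x y : G ⧸ N, x * y = y * x := by
    by_contra hcon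
    apply hcon
    apply comm_of_linear'
    intro χ
    obtain ⟨ψ, hψ, -⟩ := infl_degree N χ
    rcases hcd ψ with h | h
    · rw [← hψ]; exact h
    · exfalso
      let Tb : Subgroup (G ⧸ N) := T.map (QuotientGroup.mk' N)
      let A : Subgroup (G ⧸ N) := Tb ⊔ Subgroup.center (G ⧸ N)
      have hTbab : ∀ x ∈ Tb, ∀ y ∈ Tb, x * y = y * x := by
        rintro x ⟨a, ha, rfl⟩ y ⟨b, hb, rfl⟩
        have h1 := hTab a ha b hb
        rw [← QuotientGroup.eq_one_iff] at h1
        rw [QuotientGroup.mk'_apply, QuotientGroup.mk'_apply]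
        have h2 : (a : G ⧸ N) * b * (a : G ⧸ N)⁻¹ * (b : G ⧸ N)⁻¹ = 1 := h1
        calc (a : G ⧸ N) * b = ((a : G ⧸ N) * b * (a : G ⧸ N)⁻¹ * (b : G ⧸ N)⁻¹) * (b * a) := by group
          _ = b * a := by rw [h2, one_mul]
      have hA : ∀ x ∈ A, ∀ y ∈ A, x * y = y * x := by
        intro x hx y hy
        have hx' : x ∈ ((Tb ⊔ Subgroup.center (G ⧸ N) : Subgroup (G ⧸ N)) : Set (G ⧸ N)) := hx
        have hy' : y ∈ ((Tb ⊔ Subgroup.center (G ⧸ N) : Subgroup (G ⧸ N)) : Set (G ⧸ N)) := hy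
        rw [Subgroup.mul_normal] at hx' hy'
        obtain ⟨a, ha, c, hc, rfl⟩ := Set.mem_mul.1 hx'
        obtain ⟨b, hb, d, hd, rfl⟩ := Set.mem_mul.1 hy'
        have hc' := Subgroup.mem_center_iff.1 hc
        have hd' := Subgroup.mem_center_iff.1 hd
        calc a * c * (b * d) = a * b * c * d := by rw [mul_assoc a c, ← mul_assoc c b d, ← hc' b]; group
          _ = b * a * c * d := by rw [hTbab a ha b hb]
          _ = b * d * (a * c) := by
              rw [mul_assoc (b * a) c d, ← hc' d, ← mul_assoc, mul_assoc b a d, hd' a]; group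
      have hle := degree_le_index A hA χ
      rw [← hψ, h] at hle
      have h1 : Tb.index = m := by
        rw [← hTm, Subgroup.index_map, QuotientGroup.ker_mk', sup_eq_left.2 hNT,
          MonoidHom.range_eq_top.2 (QuotientGroup.mk'_surjective N), Subgroup.index_top, mul_one]
      have h2 : Tb < A := by
        refine lt_of_le_of_ne le_sup_left ?_
        intro heq
        have h3 : (z0 : G ⧸ N) ∈ Tb := by
          rw [heq]
          exact (le_sup_right : Subgroup.center (G ⧸ N) ≤ _) z0.2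
        rw [← hq0z] at h3
        obtain ⟨t, ht, htq⟩ := h3
        rw [QuotientGroup.mk'_apply, QuotientGroup.eq] at htq
        apply hq0T
        have : q0 = t * (t⁻¹ * q0) := by group
        rw [this]
        exact T.mul_mem ht (hNT htq)
      have h3 : A.index < Tb.index := by
        have h4 := Subgroup.relIndex_mul_index h2.le
        have h5 : Tb.relIndex A ≠ 1 := fun h => h2.not_ge (Subgroup.relIndex_eq_one.1 h)
        have h6 : 0 < A.index := Nat.pos_of_ne_zero Subgroup.index_ne_zero_of_finite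
        have h7 : Tb.relIndex A ≠ 0 := Subgroup.index_ne_zero_of_finite
        have h8 : 2 ≤ Tb.relIndex A := by omega
        nlinarith
      omega
  have hQc : ∀ q ∈ Q, ∀ q' ∈ Q, q' * q = q * q' := by
    intro q hq q' hq'
    by_cases h1 : q = 1
    · rw [h1]; simp
    · have hqne : (q : G ⧸ N) ≠ 1 := by
        intro h
        apply h1
        have : q ∈ N ⊓ Q := ⟨(QuotientGroup.eq_one_iff q).1 h, hq⟩
        rwa [hdisj, Subgroup.mem_bot] at this
      have h2 := hGab (q' : G ⧸ N) (q : G ⧸ N)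
      rw [← QuotientGroup.mk_mul, ← QuotientGroup.mk_mul, QuotientGroup.eq] at h2
      have h3 : (q' * q)⁻¹ * (q * q') ∈ N ⊓ Q :=
        ⟨h2, Q.mul_mem (Q.inv_mem (Q.mul_mem hq' hq)) (Q.mul_mem hq hq')⟩
      rw [hdisj, Subgroup.mem_bot, inv_mul_eq_one] at h3
      exact h3
  have hfree' : ∀ g : G, g ∉ N → ∀ l : N →* ℂˣ, cjh N g l = l → l = 1 := by
    intro g hg l hl
    obtain ⟨n, hn, q, hq, rfl⟩ := hdec g
    have hq1 : q ≠ 1 := by
      rintro rfl
      exact hg (by rw [mul_one]; exact hn)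
    refine hfree q hq hq1 (fun q' hq' => hQc q hq q' hq') l ?_
    have h1 : cjh N n l = l := by
      ext x
      rw [cjh_apply]
      congr 2
      apply Subtype.ext
      change n * x * n⁻¹ = (x : G)
      rw [hab n hn x x.2]; group
    rw [← cjh_mul, h1] at hl
    exact hl
  refine ⟨?_, hfree'⟩
  have hTN : T = N := by
    apply le_antisymm _ hNT
    intro t ht
    by_contra hcon
    exact hl0 (hfree' t hcon l0 ((hTmem t).1 ht))
  rw [← hTm, hTN]

end lemX

end H77.TwoDeg
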