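import Cfsg.Agent.Lib.H77.TwoDeg
import Cfsg.Agent.Lib.H77.Degree
import Cfsg.Agent.Lib.H4.CenterIndex
import Cfsg.Agent.Lib.H18.Primitive
import Cfsg.Agent.S4456

/-!
# Groups with character degrees {1, m} (H77.TwoDegMain)
-/

set_option autoImplicit false
set_option linter.style.haveILetI false
set_option linter.unusedSectionVars false
open Cfsg

namespace H77.TwoDegMain

open H18.CharBasic H18.CharOrtho H18.CharInd H18.CharQuot H77.PQuot H31.Clifford H77.GlPerm H77.TwoDeg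

open scoped commutatorElement

universe u

variable {G : Type u} [Group G] [Finite G]

theorem exists_N (m : ℕ) (hm0 : m ≠ 0) (hm1 : m ≠ 1)
    (hcd : ∀ χ : IrrCharacter G, charDegree χ.1 = 1 ∨ charDegree χ.1 = m) :
    ∃ (N : Subgroup G) (_ : N.Normal), (Nat.card N).Coprime m ∧ Group.IsNilpotent (G ⧸ N) ∧
      (∀ r : ℕ, r.Prime → r ∣ N.index → r ∣ m) ∧
      ((¬ ∃ p e : ℕ, p.Prime ∧ m = p ^ e) → commutator G ≤ N) := by
  classical
  letI := Fintype.ofFinite G
  have hex : ∀ p : m.primeFactors, ∃ N : Subgroup G, N.Normal ∧ (Nat.card N).Coprime p ∧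
      ∃ k : ℕ, N.index = (p : ℕ) ^ k := by
    intro p
    have hp := Nat.mem_primeFactors.1 p.2
    refine Cfsg.Agent.S4456.result (p : ℕ) hp.1 (fun χ hχ => ?_)
    rcases hcd χ with h | h
    · exact absurd h hχ
    · rw [h]; exact hp.2.1
  choose Np hNp1 hNp2 k hk using hex
  haveI := hNp1
  let f : G →* ((p : m.primeFactors) → G ⧸ Np p) := MonoidHom.pi (fun p => QuotientGroup.mk' (Np p))
  have hf : ∀ (g : G) (p : m.primeFactors), f g p = (g : G ⧸ Np p) := fun g p => rfl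
  have hfk : ∀ p, f.ker ≤ Np p := by
    intro p g hg
    have h1 := congrFun (MonoidHom.mem_ker.1 hg) p
    rw [hf] at h1
    exact (QuotientGroup.eq_one_iff g).1 h1
  have hpg : ∀ p : m.primeFactors, Group.IsNilpotent (G ⧸ Np p) := by
    intro p
    haveI := Fact.mk (Nat.mem_primeFactors.1 p.2).1
    have h1 : IsPGroup (p : ℕ) (G ⧸ Np p) := IsPGroup.of_card (hk p)
    exact h1.isNilpotent
  refine ⟨f.ker, inferInstance, ?_, ?_, ?_, ?_⟩
  · by_contra hcon
    obtain ⟨p, hp, h1, h2⟩ := Nat.Prime.not_coprime_iff_dvd.1 hcon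
    have hpm : p ∈ m.primeFactors := Nat.mem_primeFactors.2 ⟨hp, h2, hm0⟩
    have h3 := hNp2 ⟨p, hpm⟩
    have h4 : p ∣ Nat.card (Np ⟨p, hpm⟩) := h1.trans (Subgroup.card_dvd_of_le (hfk ⟨p, hpm⟩))
    have h5 : p ∣ Nat.gcd (Nat.card (Np ⟨p, hpm⟩)) p := Nat.dvd_gcd h4 dvd_rfl
    have h6 : Nat.gcd (Nat.card (Np ⟨p, hpm⟩)) p = 1 := h3
    rw [h6] at h5
    exact hp.one_lt.ne' (Nat.dvd_one.1 h5)
  · haveI := hpg
    have e := QuotientGroup.quotientKerEquivRange f
    haveI : Group.IsNilpotent f.range := inferInstance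
    exact Group.nilpotent_of_mulEquiv e.symm
  · intro r hr hri
    rw [Subgroup.index_ker] at hri
    have h1 : r ∣ ∏ p : m.primeFactors, Nat.card (G ⧸ Np p) := by
      rw [← Nat.card_pi]
      exact hri.trans (Subgroup.card_subgroup_dvd_card _)
    obtain ⟨p, -, hp⟩ := (Prime.dvd_finsetProd_iff hr.prime _).1 h1
    have h2 : Nat.card (G ⧸ Np p) = (p : ℕ) ^ k p := hk p
    rw [h2] at hp
    have h3 := (Nat.prime_dvd_prime_iff_eq hr (Nat.mem_primeFactors.1 p.2).1).1 (hr.dvd_of_dvd_pow hp)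
    rw [h3]
    exact (Nat.mem_primeFactors.1 p.2).2.1
  · intro hno
    have hcomm : ∀ p : m.primeFactors, ∀ a b : G ⧸ Np p, a * b = b * a := by
      intro p
      apply comm_of_linear'
      intro χ
      letI := Fintype.ofFinite (G ⧸ Np p)
      obtain ⟨ψ, hψ, -⟩ := infl_degree (Np p) χ
      rcases hcd ψ with h | h
      · rw [← hψ]; exact h
      · exfalso
        have h1 := H77.Degree.degree_dvd_card χ.2 (cast_irr χ).symm
        have h2 : Nat.card (G ⧸ Np p) = (p : ℕ) ^ k p := hk p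
        rw [h2, ← hψ, h, Nat.dvd_prime_pow (Nat.mem_primeFactors.1 p.2).1] at h1
        obtain ⟨e, -, he⟩ := h1
        exact hno ⟨p, e, (Nat.mem_primeFactors.1 p.2).1, he⟩
    rw [commutator_def, Subgroup.commutator_le]
    intro a _ b _
    rw [MonoidHom.mem_ker]
    funext p
    rw [hf]
    change ((⁅a, b⁆ : G) : G ⧸ Np p) = 1
    rw [commutatorElement_def, QuotientGroup.mk_mul, QuotientGroup.mk_mul, QuotientGroup.mk_mul,
      hcomm p (a : G ⧸ Np p) b, QuotientGroup.mk_inv, QuotientGroup.mk_inv]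
    group

theorem abelian_of_coprime (m : ℕ) (hcd : ∀ χ : IrrCharacter G, charDegree χ.1 = 1 ∨ charDegree χ.1 = m)
    (N : Subgroup G) [N.Normal] (hN : (Nat.card N).Coprime m) : ∀ a ∈ N, ∀ b ∈ N, a * b = b * a := by
  classical
  letI := Fintype.ofFinite N
  have h1 : ∀ θ : IrrCharacter N, charDegree θ.1 = 1 := by
    intro θ
    have h2 := H77.Degree.degree_dvd_card θ.2 (cast_irr θ).symm
    obtain ⟨χ, hχ⟩ := exists_over_dvd N θ
    rcases hcd χ with h | h
    · rw [h] at hχ; exact Nat.dvd_one.1 hχ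
    · rw [h] at hχ; exact Nat.eq_one_of_dvd_coprimes hN h2 hχ
  intro a ha b hb
  exact congrArg Subtype.val (comm_of_linear' h1 ⟨a, ha⟩ ⟨b, hb⟩)

/-- the case of a non-central `N` -/
theorem caseA (m : ℕ) (hcd : ∀ χ : IrrCharacter G, charDegree χ.1 = 1 ∨ charDegree χ.1 = m)
    (N : Subgroup G) [hNn : N.Normal] (hN : (Nat.card N).Coprime m) (hnil : Group.IsNilpotent (G ⧸ N))
    (hidx : ∀ r : ℕ, r.Prime → r ∣ N.index → r ∣ m) (hV : ⁅N, (⊤ : Subgroup G)⁆ ≠ ⊥) :
    ∃ A : Subgroup G, A.Normal ∧ (∀ a ∈ A, ∀ b ∈ A, a * b = b * a) ∧ A.index = m := by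
  classical
  have hab := abelian_of_coprime m hcd N hN
  let S : Set (Subgroup G) := {K | K.Normal ∧ ¬ ⁅N, (⊤ : Subgroup G)⁆ ≤ K}
  have hS : S.Nonempty := ⟨⊥, inferInstance, fun h => hV (le_bot_iff.1 h)⟩
  obtain ⟨K, hK⟩ := (Set.toFinite S).exists_maximal hS
  haveI := hK.prop.1
  have hVK := hK.prop.2
  let π := QuotientGroup.mk' K
  have hπ : Function.Surjective π := QuotientGroup.mk'_surjective K
  let Nb : Subgroup (G ⧸ K) := N.map π
  haveI hNbn : Nb.Normal := hNn.map π hπ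
  have hcardNb : Nat.card Nb ∣ Nat.card N := Subgroup.card_map_dvd N π
  have hidxNb : Nb.index ∣ N.index := Subgroup.index_map_dvd N hπ
  have hNbm : (Nat.card Nb).Coprime m := Nat.Coprime.coprime_dvd_left hcardNb hN
  have hcop : (Nat.card Nb).Coprime Nb.index := by
    by_contra hcon
    obtain ⟨p, hp, h1, h2⟩ := Nat.Prime.not_coprime_iff_dvd.1 hcon
    have h3 := hidx p hp (h2.trans hidxNb)
    have h5 : p ∣ Nat.gcd (Nat.card Nb) m := Nat.dvd_gcd h1 h3
    have h6 : Nat.gcd (Nat.card Nb) m = 1 := hNbm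
    rw [h6] at h5
    exact hp.one_lt.ne' (Nat.dvd_one.1 h5)
  have habNb : ∀ a ∈ Nb, ∀ b ∈ Nb, a * b = b * a := by
    rintro _ ⟨a, ha, rfl⟩ _ ⟨b, hb, rfl⟩
    rw [← map_mul, ← map_mul, hab a ha b hb]
  have hnilb : Group.IsNilpotent ((G ⧸ K) ⧸ Nb) := by
    let F : G ⧸ N →* (G ⧸ K) ⧸ Nb := QuotientGroup.map N Nb π (Subgroup.le_comap_map π N)
    have hF : Function.Surjective F := by
      intro q
      obtain ⟨x, rfl⟩ := QuotientGroup.mk_surjective q
      obtain ⟨g, rfl⟩ := hπ x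
      exact ⟨(g : G ⧸ N), rfl⟩
    exact Group.nilpotent_of_surjective F hF
  have hmapV : (⁅N, (⊤ : Subgroup G)⁆).map π = ⁅Nb, (⊤ : Subgroup (G ⧸ K))⁆ := by
    rw [Subgroup.map_commutator, Subgroup.map_top_of_surjective π hπ]
  have hVb : ⁅Nb, (⊤ : Subgroup (G ⧸ K))⁆ ≠ ⊥ := by
    rw [← hmapV]
    intro h
    apply hVK
    have h1 : (⁅N, (⊤ : Subgroup G)⁆).map π ≤ ⊥ := h.le
    rw [Subgroup.map_le_iff_le_comap, MonoidHom.comap_bot, QuotientGroup.ker_mk'] at h1
    exact h1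
  have hminb : ∀ M : Subgroup (G ⧸ K), M.Normal → M ≠ ⊥ → ⁅Nb, (⊤ : Subgroup (G ⧸ K))⁆ ≤ M := by
    intro M hM hMne
    rw [← hmapV, Subgroup.map_le_iff_le_comap]
    by_contra hcon
    have h1 : M.comap π ∈ S := ⟨hM.comap π, hcon⟩
    have h2 : K ≤ M.comap π := by
      intro x hx
      change π x ∈ M
      have : π x = 1 := (QuotientGroup.eq_one_iff x).2 hx
      rw [this]; exact M.one_mem
    have h3 := hK.le_of_ge h1 h2
    apply hMne
    rw [eq_bot_iff]
    intro y hy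
    obtain ⟨x, rfl⟩ := hπ y
    rw [Subgroup.mem_bot]
    exact (QuotientGroup.eq_one_iff x).2 (h3 hy)
  have hcdb : ∀ χ : IrrCharacter (G ⧸ K), charDegree χ.1 = 1 ∨ charDegree χ.1 = m := by
    intro χ
    obtain ⟨ψ, hψ, -⟩ := infl_degree K χ
    rw [← hψ]; exact hcd ψ
  obtain ⟨hind, hfree⟩ := lemX Nb habNb hcop hnilb hVb hminb m hcdb
  let N1 : Subgroup G := Nb.comap π
  haveI hN1 : N1.Normal := hNbn.comap π
  have hN1idx : N1.index = m := by
    rw [← hind]; exact Subgroup.index_comap_of_surjective Nb hπ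
  let ρ : N1 →* Nb := π.subgroupComap Nb
  have hρ : Function.Surjective ρ := MonoidHom.subgroupComap_surjective_of_surjective π Nb hπ
  let Φ : (Nb →* ℂˣ) →* (N1 →* ℂˣ) := MonoidHom.compHom' ρ
  have hΦ : ∀ (l : Nb →* ℂˣ) (x : N1), Φ l x = l (ρ x) := fun l x => rfl
  have hΦinj : Function.Injective Φ := by
    intro l l' h
    ext y
    obtain ⟨x, rfl⟩ := hρ y
    have := DFunLike.congr_fun h x
    rw [hΦ, hΦ] at this
    rw [this]
  have hconj : ∀ (g : G) (l : Nb →* ℂˣ), cjh N1 g (Φ l) = Φ (cjh Nb (π g) l) := by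
    intro g l
    ext x
    rw [cjh_apply, hΦ, hΦ, cjh_apply]
    congr 2
  refine ⟨N1, hN1, ?_, hN1idx⟩
  refine lemY N1 m hN1idx hcd Φ.range ?_ ?_ ?_ ?_
  · have hNbne : Nb ≠ ⊥ := by
      intro h
      apply hVb
      rw [h, Subgroup.commutator_bot_left]
    obtain ⟨x, hx1⟩ := Subgroup.ne_bot_iff_exists_ne_one.1 hNbne
    have h1 : commutator Nb = ⊥ := by
      rw [commutator_eq_bot_iff_center_eq_top, Subgroup.eq_top_iff']
      intro y
      rw [Subgroup.mem_center_iff]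
      intro z
      exact Subtype.ext (habNb z z.2 y y.2)
    obtain ⟨l, hl⟩ := exists_hom_ne_one (g := x) (by rw [h1, Subgroup.mem_bot]; exact hx1)
    refine ⟨Φ l, ⟨l, rfl⟩, ?_⟩
    intro h
    apply hl
    obtain ⟨y, rfl⟩ := hρ x
    have := DFunLike.congr_fun h y
    rw [hΦ] at this
    exact this
  · rintro _ ⟨l, rfl⟩
    have h1 : orderOf (Φ l) ∣ Nat.card Nb := by
      apply orderOf_dvd_of_pow_eq_one
      rw [← map_pow]
      have : l ^ Nat.card Nb = 1 := by
        ext y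
        rw [MonoidHom.pow_apply, ← map_pow, pow_card_eq_one', map_one]
        rfl
      rw [this, map_one]
    exact Nat.Coprime.coprime_dvd_left h1 hNbm
  · rintro g _ ⟨l, rfl⟩
    exact ⟨cjh Nb (π g) l, (hconj g l).symm⟩
  · rintro g hg _ ⟨l, rfl⟩ h
    rw [hconj] at h
    have h1 := hfree (π g) hg l (hΦinj h)
    rw [h1, map_one]

theorem caseB (m : ℕ) (hm1 : m ≠ 1)
    (hcd : ∀ χ : IrrCharacter G, charDegree χ.1 = 1 ∨ charDegree χ.1 = m)
    (hm : ∃ χ : IrrCharacter G, charDegree χ.1 = m)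
    (N : Subgroup G) [hNn : N.Normal] (hN : (Nat.card N).Coprime m)
    (hidx : ∀ r : ℕ, r.Prime → r ∣ N.index → r ∣ m)
    (hcomm : (¬ ∃ p e : ℕ, p.Prime ∧ m = p ^ e) → commutator G ≤ N)
    (hV : ⁅N, (⊤ : Subgroup G)⁆ = ⊥) :
    ∃ p e : ℕ, p.Prime ∧ m = p ^ e ∧ ∃ P A : Subgroup G, P.Normal ∧ A.Normal ∧ IsPGroup p P ∧
      (∀ a ∈ A, ∀ b ∈ A, a * b = b * a) ∧ P ⊓ A = ⊥ ∧ P ⊔ A = ⊤ := by
  classical
  letI := Fintype.ofFinite G
  have hab := abelian_of_coprime m hcd N hN
  have hcen : ∀ n ∈ N, ∀ g : G, g * n = n * g := by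
    intro n hn g
    rw [Subgroup.commutator_eq_bot_iff_le_centralizer] at hV
    exact Subgroup.mem_centralizer_iff.1 (hV hn) g (Subgroup.mem_top g)
  by_cases hpow : ∃ p e : ℕ, p.Prime ∧ m = p ^ e
  · obtain ⟨p, e, hp, he⟩ := hpow
    haveI := Fact.mk hp
    have he0 : e ≠ 0 := by rintro rfl; exact hm1 (by rw [he, pow_zero])
    obtain ⟨P⟩ : Nonempty (Sylow p G) := inferInstance
    have hNP : N ⊔ (P : Subgroup G) = ⊤ := by
      rw [← Subgroup.index_eq_one]
      by_contra hne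
      obtain ⟨r, hr, hrd⟩ := Nat.exists_prime_and_dvd hne
      have h1 : r ∣ N.index := hrd.trans (Subgroup.index_dvd_of_le le_sup_left)
      have h2 : r ∣ (P : Subgroup G).index := hrd.trans (Subgroup.index_dvd_of_le le_sup_right)
      have h3 := hidx r hr h1
      rw [he] at h3
      have h4 := (Nat.prime_dvd_prime_iff_eq hr hp).1 (hr.dvd_of_dvd_pow h3)
      rw [h4] at h2
      exact P.not_dvd_index h2
    have hPn : (P : Subgroup G).Normal := by
      refine ⟨fun x hx g => ?_⟩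
      have hg : g ∈ ((N ⊔ (P : Subgroup G) : Subgroup G) : Set G) := by rw [hNP]; trivial
      rw [Subgroup.normal_mul] at hg
      obtain ⟨n, hn, q, hq, rfl⟩ := Set.mem_mul.1 hg
      have h1 : q * x * q⁻¹ ∈ (P : Subgroup G) := mul_mem (mul_mem hq hx) (inv_mem hq)
      have h2 : n * q * x * (n * q)⁻¹ = q * x * q⁻¹ := by
        calc n * q * x * (n * q)⁻¹ = (n * (q * x * q⁻¹)) * n⁻¹ := by group
          _ = (q * x * q⁻¹) := by rw [← hcen n hn]; group
      rw [h2]; exact h1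
    refine ⟨p, e, hp, he, P, N, hPn, hNn, P.isPGroup', hab, ?_, by rw [sup_comm]; exact hNP⟩
    have hc : (Nat.card (P : Subgroup G)).Coprime (Nat.card N) := by
      obtain ⟨n, hn⟩ := (IsPGroup.iff_card (p := p)).1 P.isPGroup'
      have hn' : Nat.card (P : Subgroup G) = p ^ n := hn
      rw [hn']
      apply Nat.Coprime.pow_left
      rw [he] at hN
      exact (Nat.Coprime.coprime_dvd_right (dvd_pow_self p he0) hN).symm
    exact (Subgroup.disjoint_of_coprime_natCard hc).eq_bot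
  · exfalso
    have hG' := hcomm hpow
    obtain ⟨χ, hχ⟩ := hm
    have key : ∀ a b : G, χ.1 (a * b * a⁻¹ * b⁻¹) = χ.1 1 := by
      intro a b
      have hmem : a * b * a⁻¹ * b⁻¹ ∈ commutator G := by
        rw [← commutatorElement_def, commutator_def]
        exact Subgroup.commutator_mem_commutator (Subgroup.mem_top a) (Subgroup.mem_top b)
      set g := a * b * a⁻¹ * b⁻¹ with hg
      have hgN := hG' hmem
      obtain ⟨n, ρ, hρ, hρχ⟩ := χ.2
      have hgc : g ∈ Subgroup.center G := Subgroup.mem_center_iff.2 fun x => hcen g hgN x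
      obtain ⟨c, hc⟩ := H4.CenterIndex.exists_scalar_of_center ρ hρ hgc
      have hn : n = m := by
        have h1 : χ.1 1 = n := by
          rw [← hρχ, Representation.char_one, Module.finrank_fin_fun]
        rw [← cast_irr χ, hχ] at h1
        exact_mod_cast h1.symm
      -- determinant
      obtain ⟨f, hf⟩ := H18.DetChar.exists_detHom (isCharacter_of_isIrr χ.2)
      have h1 : f g = 1 := by
        rw [hg]
        simp only [map_mul, map_inv]
        rw [mul_comm (f a) (f b)]; group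
      have h2 : c ^ m = 1 := by
        have h3 := congrFun hf g
        rw [h1, ← hρχ, H18.DetChar.detChar_rep, hc, Units.val_one] at h3
        rw [← hn]
        have h4 : LinearMap.det (c • (LinearMap.id : (Fin n → ℂ) →ₗ[ℂ] (Fin n → ℂ))) = c ^ n := by
          rw [LinearMap.det_smul, LinearMap.det_id, mul_one, Module.finrank_fin_fun]
        rw [← h4]
        exact h3
      have h3 : c ^ Nat.card N = 1 := by
        have h4 : g ^ Nat.card N = 1 := by
          have := pow_card_eq_one' (x := (⟨g, hgN⟩ : N))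
          exact congrArg Subtype.val this
        have h5 : ρ (g ^ Nat.card N) = c ^ Nat.card N • (LinearMap.id : (Fin n → ℂ) →ₗ[ℂ] (Fin n → ℂ)) := by
          rw [map_pow, hc]
          change (c • (1 : Module.End ℂ (Fin n → ℂ))) ^ _ = c ^ _ • (1 : Module.End ℂ (Fin n → ℂ))
          rw [smul_pow, one_pow]
        rw [h4, map_one] at h5
        have hn0 : 0 < n := by
          rw [hn, ← hχ]
          obtain ⟨k, hk0, hk⟩ := exists_degree_pos χ.2
          rw [← cast_irr χ] at hk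
          have : charDegree χ.1 = k := by exact_mod_cast hk
          omega
        have h6 := congrFun (LinearMap.congr_fun h5 (fun _ => 1)) ⟨0, hn0⟩
        simpa using h6.symm
      have h4 : c = 1 := by
        have h5 : orderOf c ∣ m := orderOf_dvd_of_pow_eq_one h2
        have h6 : orderOf c ∣ Nat.card N := orderOf_dvd_of_pow_eq_one h3
        exact orderOf_eq_one_iff.1 (Nat.eq_one_of_dvd_coprimes hN h6 h5)
      rw [h4, one_smul] at hc
      rw [← hρχ, Representation.character, Representation.character, hc, map_one]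
      rfl
    have h1 := H18.Primitive.degree_one_of_commutator χ.2 key
    rw [← cast_irr χ, hχ] at h1
    exact hm1 (by exact_mod_cast h1)

theorem main (m : ℕ) (hm1 : m ≠ 1)
    (hcd : ∀ χ : IrrCharacter G, charDegree χ.1 = 1 ∨ charDegree χ.1 = m)
    (hm : ∃ χ : IrrCharacter G, charDegree χ.1 = m) :
    (∃ A : Subgroup G, A.Normal ∧ (∀ a ∈ A, ∀ b ∈ A, a * b = b * a) ∧ A.index = m) ∨
    ∃ p e : ℕ, p.Prime ∧ m = p ^ e ∧ ∃ P A : Subgroup G, P.Normal ∧ A.Normal ∧ IsPGroup p P ∧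
      (∀ a ∈ A, ∀ b ∈ A, a * b = b * a) ∧ P ⊓ A = ⊥ ∧ P ⊔ A = ⊤ := by
  have hm0 : m ≠ 0 := by
    obtain ⟨χ, hχ⟩ := hm
    obtain ⟨k, hk0, hk⟩ := exists_degree_pos χ.2
    rw [← cast_irr χ] at hk
    have : charDegree χ.1 = k := by exact_mod_cast hk
    omega
  obtain ⟨N, hNn, hN, hnil, hidx, hcomm⟩ := exists_N m hm0 hm1 hcd
  by_cases hV : ⁅N, (⊤ : Subgroup G)⁆ = ⊥
  · right; exact caseB m hm1 hcd hm N hN hidx hcomm hV
  · left; exact caseA m hcd N hN hnil hidx hV

end H77.TwoDegMain
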